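import Cfsg.Agent.Lib.Recog.G2Two.Labels

/-!
# Labelling the Sylow `3`-subgroup
-/

set_option autoImplicit false
set_option linter.style.haveILetI false
set_option linter.unusedSectionVars false

namespace Cfsg.Lib.Recog.G2Two

open Subgroup MulAction Pointwise

universe u

theorem heis_coord : ∀ i j : Fin 27,
    (((mulF 1 i j).1 % 3 : ℕ) : ZMod 3) = (i.1 % 3 : ℕ) + (j.1 % 3 : ℕ) ∧
    (((mulF 1 i j).1 / 3 % 3 : ℕ) : ZMod 3) = (i.1 / 3 % 3 : ℕ) + (j.1 / 3 % 3 : ℕ) ∧
    (((mulF 1 i j).1 / 9 : ℕ) : ZMod 3) = (i.1 / 9 : ℕ) + (j.1 / 9 : ℕ) -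
      ((i.1 % 3 : ℕ) * (j.1 / 3 % 3 : ℕ) - (i.1 / 3 % 3 : ℕ) * (j.1 % 3 : ℕ)) := by decide +kernel

theorem coord_inj : ∀ i j : Fin 27, ((i.1 % 3 : ℕ) : ZMod 3) = (j.1 % 3 : ℕ) →
    ((i.1 / 3 % 3 : ℕ) : ZMod 3) = (j.1 / 3 % 3 : ℕ) → ((i.1 / 9 : ℕ) : ZMod 3) = (j.1 / 9 : ℕ) → i = j := by
  decide +kernel

theorem abel_coord : ∀ i j : Fin 27, mulN 0 i.1 j.1 % 3 = (i.1 % 3 + j.1 % 3) % 3 ∧
    mulN 0 i.1 j.1 / 3 % 3 = (i.1 / 3 % 3 + j.1 / 3 % 3) % 3 ∧
    mulN 0 i.1 j.1 / 9 = (i.1 / 9 + j.1 / 9) % 3 := by decide +kernel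

variable {G : Type u} [Group G] [Finite G] [Fact (Nat.Prime 3)]

local notation "N(" P ")" => normalizer ((P : Subgroup G) : Set G)

/-- A labelling of `P` turning the table into its product. -/
structure Lab (P : Sylow 3 G) (e : ℕ) where
  equiv : Fin 27 ≃ ↥(P : Subgroup G)
  mul : ∀ i j, equiv (mulF e i j) = equiv i * equiv j

set_option maxHeartbeats 1600000 in
/-- `P` has the table of the Heisenberg group or of the elementary abelian group. -/
theorem Hyp.exists_lab (h : Hyp G) (P : Sylow 3 G) : ∃ e : Fin 2, Nonempty (Lab P e) := by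
  classical
  by_cases hab : ∀ x ∈ (P : Subgroup G), ∀ y ∈ (P : Subgroup G), x * y = y * x
  · refine ⟨0, ?_⟩
    have hproper : ∀ S : Subgroup G, Nat.card S < 27 → ∃ x ∈ (P : Subgroup G), x ∉ S := fun S hS => by
      by_contra hall
      push Not at hall
      have := card_le_of_le (fun y hy => hall y hy : (P : Subgroup G) ≤ S)
      rw [h.card_three] at this
      omega
    obtain ⟨a, ha, ha1⟩ := hproper ⊥ (by rw [card_bot]; norm_num)
    have ha' : a ≠ 1 := fun e => ha1 (e ▸ one_mem _)
    have hza : Nat.card (zpowers a) = 3 := by rw [Nat.card_zpowers, orderOf_eq_prime (h.pow_three P ha) ha']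
    obtain ⟨b, hb, hba⟩ := hproper (zpowers a) (by omega)
    have hpm : ∀ (x : G), x ∈ (P : Subgroup G) → ∀ n, x ^ (n % 3) = x ^ n := fun x hx n => by
      conv_rhs => rw [← Nat.div_add_mod n 3, pow_add, pow_mul, h.pow_three P hx, one_pow, one_mul]
    obtain ⟨c, hc, hcab⟩ : ∃ c ∈ (P : Subgroup G), ∀ x y : ℕ, c ≠ a ^ x * b ^ y := by
      by_contra hall
      push Not at hall
      let g : Fin 3 × Fin 3 → (P : Subgroup G) := fun p => ⟨a ^ p.1.1 * b ^ p.2.1, mul_mem (pow_mem ha _) (pow_mem hb _)⟩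
      have hsurj : Function.Surjective g := by
        rintro ⟨c, hc⟩
        obtain ⟨x, y, rfl⟩ := hall c hc
        exact ⟨(⟨x % 3, Nat.mod_lt _ (by norm_num)⟩, ⟨y % 3, Nat.mod_lt _ (by norm_num)⟩),
          Subtype.ext (by show a ^ (x % 3) * b ^ (y % 3) = a ^ x * b ^ y; rw [hpm a ha, hpm b hb])⟩
      have := Nat.card_le_card_of_surjective g hsurj
      rw [h.card_three, Nat.card_eq_fintype_card] at this
      simp at this
    let F : Fin 27 → (P : Subgroup G) := fun i =>
      ⟨a ^ (i.1 % 3) * b ^ (i.1 / 3 % 3) * c ^ (i.1 / 9),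
        mul_mem (mul_mem (pow_mem ha _) (pow_mem hb _)) (pow_mem hc _)⟩
    have hF : ∀ i j, F (mulF 0 i j) = F i * F j := by
      intro i j
      refine Subtype.ext ?_
      show a ^ (mulN 0 i j % 3) * b ^ (mulN 0 i j / 3 % 3) * c ^ (mulN 0 i j / 9) =
        a ^ (i.1 % 3) * b ^ (i.1 / 3 % 3) * c ^ (i.1 / 9) * (a ^ (j.1 % 3) * b ^ (j.1 / 3 % 3) * c ^ (j.1 / 9))
      obtain ⟨e1, e2, e3⟩ := abel_coord i j
      rw [e1, e2, e3, hpm a ha, hpm b hb, hpm c hc, pow_add, pow_add, pow_add]
      have hba' : Commute b a := hab b hb a ha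
      have hca : Commute c a := hab c hc a ha
      have hcb : Commute c b := hab c hc b hb
      set A := a ^ (i.1 % 3) with hA
      set A' := a ^ (j.1 % 3) with hA'
      set B := b ^ (i.1 / 3 % 3) with hB
      set B' := b ^ (j.1 / 3 % 3) with hB'
      set C := c ^ (i.1 / 9) with hC
      set C' := c ^ (j.1 / 9) with hC'
      have e1 : B * C * A' = A' * (B * C) := ((hba'.pow_pow _ _).mul_left (hca.pow_pow _ _)).eq
      have e2 : C * B' = B' * C := (hcb.pow_pow _ _).eq
      calc A * A' * (B * B') * (C * C') = A * A' * B * (B' * C) * C' := by group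
        _ = A * (A' * (B * C)) * B' * C' := by rw [← e2]; group
        _ = A * B * C * (A' * B' * C') := by rw [← e1]; group
    have hsurj : Function.Surjective F := by
      let S : Subgroup G :=
        Subgroup.ofDiv (Set.range fun i => (F i : G)) ⟨_, 0, rfl⟩ (by
          rintro _ ⟨i, rfl⟩ _ ⟨j, rfl⟩
          refine ⟨mulF 0 i (mulF 0 j j), ?_⟩
          show ((F (mulF 0 i (mulF 0 j j)) : (P : Subgroup G)) : G) = _
          rw [hF, hF, Subgroup.coe_mul, Subgroup.coe_mul]
          congr 1
          exact eq_inv_of_mul_eq_one_left (by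
            have := h.pow_three P (F j).2
            rw [pow_succ, pow_two] at this
            exact this))
      have hval : ∀ i : Fin 27, a ^ (i.1 % 3) * b ^ (i.1 / 3 % 3) * c ^ (i.1 / 9) ∈ S := fun i => ⟨i, rfl⟩
      have haS : a ∈ S := by simpa using hval 1
      have hbS : b ∈ S := by simpa using hval 3
      have hcS : c ∈ S := by simpa using hval 9
      have hSP : S ≤ (P : Subgroup G) := by rintro _ ⟨i, rfl⟩; exact (F i).2
      let U := closure ({a, b} : Set G)
      have haU : a ∈ U := subset_closure (Or.inl rfl)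
      have hbU : b ∈ U := subset_closure (Or.inr rfl)
      have hUP : U ≤ (P : Subgroup G) := (closure_le _).2 (by rintro x (rfl | rfl) <;> assumption)
      have hUS : U ≤ S := (closure_le _).2 (by rintro x (rfl | rfl) <;> assumption)
      have hcU : c ∉ U := by
        intro hm
        let V : Subgroup G :=
          Subgroup.ofDiv {x | ∃ p q : ℕ, x = a ^ p * b ^ q} ⟨1, 0, 0, by simp⟩ (by
            rintro _ ⟨p, q, rfl⟩ _ ⟨p', q', rfl⟩
            refine ⟨p + 2 * p', q + 2 * q', ?_⟩
            have hi : (a ^ p' * b ^ q')⁻¹ = a ^ (2 * p') * b ^ (2 * q') := by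
              refine inv_eq_of_mul_eq_one_right ?_
              have e1 : b ^ q' * a ^ (2 * p') = a ^ (2 * p') * b ^ q' := (Commute.pow_pow (hab b hb a ha) _ _).eq
              calc a ^ p' * b ^ q' * (a ^ (2 * p') * b ^ (2 * q'))
                  = a ^ p' * (b ^ q' * a ^ (2 * p')) * b ^ (2 * q') := by group
                _ = (a ^ p' * a ^ (2 * p')) * (b ^ q' * b ^ (2 * q')) := by rw [e1]; group
                _ = 1 := by
                  rw [← pow_add, ← pow_add, show p' + 2 * p' = 3 * p' by ring, show q' + 2 * q' = 3 * q' by ring,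
                    pow_mul, pow_mul, h.pow_three P ha, h.pow_three P hb, one_pow, one_pow, one_mul]
            rw [hi, pow_add, pow_add]
            have e1 : b ^ q * a ^ (2 * p') = a ^ (2 * p') * b ^ q := (Commute.pow_pow (hab b hb a ha) _ _).eq
            calc a ^ p * b ^ q * (a ^ (2 * p') * b ^ (2 * q'))
                = a ^ p * (b ^ q * a ^ (2 * p')) * b ^ (2 * q') := by group
              _ = a ^ p * a ^ (2 * p') * (b ^ q * b ^ (2 * q')) := by rw [e1]; group)
        have hUV : U ≤ V := (closure_le _).2 (by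
          rintro x (rfl | rfl)
          · exact ⟨1, 0, by simp⟩
          · exact ⟨0, 1, by simp⟩)
        obtain ⟨p, q, e⟩ := hUV hm
        exact hcab p q e
      have hU3 : 3 < Nat.card U := by
        by_contra hle
        exact hba ((eq_of_le_of_card_ge (zpowers_le.2 haU) (by rw [hza]; omega)).ge hbU)
      have hUd : Nat.card U ∣ 3 ^ 3 := by simpa [h.card_three] using card_dvd_of_le hUP
      have hSd : Nat.card S ∣ 3 ^ 3 := by simpa [h.card_three] using card_dvd_of_le hSP
      have hUS' : Nat.card U < Nat.card S := by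
        by_contra hle
        exact hcU ((eq_of_le_of_card_ge hUS (not_lt.1 hle)).ge hcS)
      obtain ⟨i, hi, hie⟩ := (Nat.dvd_prime_pow Nat.prime_three).1 hUd
      obtain ⟨j, hj, hje⟩ := (Nat.dvd_prime_pow Nat.prime_three).1 hSd
      have hi2 : 2 ≤ i := by
        by_contra hlt
        have : i ≤ 1 := by omega
        interval_cases i <;> simp_all
      have hij : i < j := by rw [hie, hje] at hUS'; exact (Nat.pow_lt_pow_iff_right (by norm_num)).1 hUS'
      have hS : S = (P : Subgroup G) := eq_of_le_of_card_ge hSP (by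
        rw [hje, show j = 3 by omega, h.card_three]; norm_num)
      rintro ⟨x, hx⟩
      obtain ⟨i, hi⟩ := (hS ▸ hx : x ∈ S)
      exact ⟨i, Subtype.ext hi⟩
    have hbij : Function.Bijective F := (Nat.bijective_iff_surjective_and_card F).2
      ⟨hsurj, by rw [h.card_three, Nat.card_eq_fintype_card, Fintype.card_fin]⟩
    exact ⟨⟨Equiv.ofBijective F hbij, hF⟩⟩
  · refine ⟨1, ?_⟩
    have hH : HeisData h P := ⟨hab⟩
    push Not at hab
    obtain ⟨a, ha, b, hb, hne⟩ := hab
    set z := a⁻¹ * b⁻¹ * a * b with hz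
    have hzZ : z ∈ ctr P := by
      have := hH.comm_mem (inv_mem ha) (inv_mem hb)
      simpa [hz] using this
    have hfr : HeisThree.Frame a b z :=
      { ha := h.pow_three P ha
        hb := h.pow_three P hb
        hz := h.pow_three P (mem_ctr.1 hzZ).1
        za := ((mem_ctr.1 hzZ).2 a ha).symm
        zb := ((mem_ctr.1 hzZ).2 b hb).symm
        comm := by rw [hz]; group
        ne := fun e => hne (by
          have : a * b = b * a * z := by rw [hz]; group
          rw [this, e, mul_one]) }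
    let v : Fin 27 → HeisThree.V2 := fun i => ![(i.1 % 3 : ℕ), (i.1 / 3 % 3 : ℕ)]
    let c : Fin 27 → ZMod 3 := fun i => (i.1 / 9 : ℕ)
    let F : Fin 27 → (P : Subgroup G) := fun i =>
      ⟨HeisThree.phi a b z (v i) (c i), HeisThree.Frame.phi_mem ha hb (mem_ctr.1 hzZ).1 _ _⟩
    have hF : ∀ i j, F (mulF 1 i j) = F i * F j := by
      intro i j
      refine Subtype.ext ?_
      show HeisThree.phi a b z (v (mulF 1 i j)) (c (mulF 1 i j)) =
        HeisThree.phi a b z (v i) (c i) * HeisThree.phi a b z (v j) (c j)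
      obtain ⟨e1, e2, e3⟩ := heis_coord i j
      rw [hfr.phi_mul]
      congr 1
      funext k
      fin_cases k
      · exact e1
      · exact e2
    have hinj : Function.Injective F := fun i j e => by
      obtain ⟨ev, ec⟩ := hfr.inj (congrArg Subtype.val e :)
      exact coord_inj i j (congrFun ev 0) (congrFun ev 1) ec
    have hbij : Function.Bijective F := (Nat.bijective_iff_injective_and_card F).2
      ⟨hinj, by rw [h.card_three, Nat.card_eq_fintype_card, Fintype.card_fin]⟩
    exact ⟨⟨Equiv.ofBijective F hbij, hF⟩⟩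

variable {P : Sylow 3 G} {e : ℕ}

/-- Conjugation by the complement, on labels. -/
noncomputable def Lab.theta (L : Lab P e) {T : Subgroup G} (hC : Compl P T) : T →* Equiv.Perm (Fin 27) where
  toFun t :=
    { toFun := fun i => L.equiv.symm
        ⟨(t : G) * L.equiv i * (t : G)⁻¹, (mem_normalizer_iff.1 (hC.le t.2) _).1 (L.equiv i).2⟩
      invFun := fun i => L.equiv.symm
        ⟨(t : G)⁻¹ * L.equiv i * (t : G), by
          simpa using (mem_normalizer_iff.1 (inv_mem (hC.le t.2)) _).1 (L.equiv i).2⟩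
      left_inv := fun i => L.equiv.injective (by
        rw [Equiv.apply_symm_apply]
        refine Subtype.ext ?_
        simp only [Equiv.apply_symm_apply]
        group)
      right_inv := fun i => L.equiv.injective (by
        rw [Equiv.apply_symm_apply]
        refine Subtype.ext ?_
        simp only [Equiv.apply_symm_apply]
        group) }
  map_one' := Equiv.ext fun i => L.equiv.injective (by
    show L.equiv (L.equiv.symm _) = L.equiv i
    rw [Equiv.apply_symm_apply]
    exact Subtype.ext (by simp))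
  map_mul' a b := Equiv.ext fun i => L.equiv.injective (by
    show L.equiv (L.equiv.symm _) = L.equiv (L.equiv.symm _)
    rw [Equiv.apply_symm_apply, Equiv.apply_symm_apply]
    refine Subtype.ext ?_
    show ((a * b : T) : G) * L.equiv i * ((a * b : T) : G)⁻¹ = (a : G) * (L.equiv (L.equiv.symm _) : G) * (a : G)⁻¹
    rw [Equiv.apply_symm_apply]
    show ((a * b : T) : G) * L.equiv i * ((a * b : T) : G)⁻¹ = (a : G) * ((b : G) * L.equiv i * (b : G)⁻¹) * (a : G)⁻¹
    rw [Subgroup.coe_mul]
    group)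

theorem Lab.theta_apply (L : Lab P e) {T : Subgroup G} (hC : Compl P T) (t : T) (i : Fin 27) :
    ((L.equiv (L.theta hC t i) : (P : Subgroup G)) : G) = (t : G) * L.equiv i * (t : G)⁻¹ := by
  show ((L.equiv (L.equiv.symm _) : (P : Subgroup G)) : G) = _
  rw [Equiv.apply_symm_apply]

theorem Lab.theta_mem (L : Lab P e) {T : Subgroup G} (hC : Compl P T) (t : T) : L.theta hC t ∈ autF e := by
  intro i j
  refine L.equiv.injective (Subtype.ext ?_)
  rw [L.theta_apply, L.mul, L.mul, Subgroup.coe_mul, Subgroup.coe_mul, L.theta_apply, L.theta_apply]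
  group

theorem Lab.theta_injective (L : Lab P e) (h : Hyp G) (h28 : Nat.card (Sylow 3 G) = 28) {T : Subgroup G}
    (hC : Compl P T) : Function.Injective (L.theta hC) :=
  (injective_iff_map_eq_one _).2 fun t ht => Subtype.ext (h.eq_one_of_centralizes h28 hC t.2 fun x hx => by
    obtain ⟨i, hi⟩ := L.equiv.surjective ⟨x, hx⟩
    have := L.theta_apply hC t i
    rw [ht, Equiv.Perm.one_apply, hi] at this
    exact mul_inv_eq_iff_eq_mul.1 this.symm)

/-- Change the labels by an automorphism of the table. -/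
def Lab.relabel (L : Lab P e) {σ : Equiv.Perm (Fin 27)} (hσ : σ ∈ autF e) : Lab P e where
  equiv := σ.symm.trans L.equiv
  mul i j := by
    show L.equiv (σ.symm (mulF e i j)) = L.equiv (σ.symm i) * L.equiv (σ.symm j)
    rw [← L.mul]
    congr 1
    exact inv_mem hσ i j

theorem Lab.theta_relabel (L : Lab P e) {σ : Equiv.Perm (Fin 27)} (hσ : σ ∈ autF e) {T : Subgroup G}
    (hC : Compl P T) (t : T) : (L.relabel hσ).theta hC t = σ * L.theta hC t * σ⁻¹ := by
  refine Equiv.ext fun i => (L.relabel hσ).equiv.injective (Subtype.ext ?_)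
  rw [Lab.theta_apply]
  show (t : G) * L.equiv (σ.symm i) * (t : G)⁻¹ = ((L.equiv (σ.symm (σ (L.theta hC t (σ⁻¹ i)))) : (P : Subgroup G)) : G)
  rw [σ.symm_apply_apply, L.theta_apply]
  rfl

end Cfsg.Lib.Recog.G2Two
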