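import Cfsg.Agent.Lib.Recog.G2Two.Complements

/-!
# The action on twenty-eight labelled points
-/

set_option autoImplicit false
set_option linter.style.haveILetI false
set_option linter.unusedSectionVars false

namespace Cfsg.Lib.Recog.G2Two

open Subgroup MulAction Pointwise

universe u

/-- A packed permutation of the points. -/
def encP (π : Equiv.Perm (Fin 28)) : ℕ :=
  pack ((List.range 28).map fun i => if h : i < 28 then (π ⟨i, h⟩).1 else 0)

theorem pget_encP (π : Equiv.Perm (Fin 28)) (i : Fin 28) : pget (encP π) i = (π i).1 := by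
  rw [encP, pget_pack_map _ (fun j hj => by rw [dif_pos hj]; omega) i.2]
  simp [i.2]

theorem encP_injective : Function.Injective encP := fun σ τ e => Equiv.ext fun i => Fin.ext (by
  rw [← pget_encP, ← pget_encP, e])

theorem pget_trp (e g : ℕ) {i : ℕ} (hi : i < 27) : pget (trp e g) i = mulN e g i := by
  have hlt : ∀ j < 28, (fun k : ℕ => if k == 27 then 27 else mulN e g k) j < 32 := fun j _ => by
    show (if j == 27 then 27 else mulN e g j) < 32
    have := mulN_lt e g j
    split <;> omega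
  rw [trp, pget_pack_map _ hlt (by omega)]
  simp [show i ≠ 27 by omega]

theorem pget_trp_last (e g : ℕ) : pget (trp e g) 27 = 27 := by
  have hlt : ∀ j < 28, (fun k : ℕ => if k == 27 then 27 else mulN e g k) j < 32 := fun j _ => by
    show (if j == 27 then 27 else mulN e g j) < 32
    have := mulN_lt e g j
    split <;> omega
  rw [trp, pget_pack_map _ hlt (by omega)]
  simp

variable {G : Type u} [Group G] [Finite G] [Fact (Nat.Prime 3)]

local notation "N(" P ")" => normalizer ((P : Subgroup G) : Set G)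

theorem Lab.zero {P : Sylow 3 G} {e : ℕ} (L : Lab P e) : L.equiv 0 = 1 := by
  have h := L.mul 0 0
  rw [show mulF e 0 0 = (0 : Fin 27) from Fin.ext (by simp [mulF, mulN])] at h
  exact left_eq_mul.1 h

/-- The setting on twenty-eight points. -/
structure Pts (h : Hyp G) (P Q₀ : Sylow 3 G) (T : Subgroup G) (e : ℕ) where
  lab : Lab P e
  compl : Compl P T
  n28 : Nat.card (Sylow 3 G) = 28
  ne : Q₀ ≠ P
  fix : ∀ t ∈ T, t • Q₀ = Q₀

namespace Pts

variable {h : Hyp G} {P Q₀ : Sylow 3 G} {T : Subgroup G} {e : ℕ}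

/-- The point with a given label. -/
noncomputable def point (d : Pts h P Q₀ T e) (i : Fin 28) : Sylow 3 G :=
  if hi : i.1 < 27 then ((d.lab.equiv ⟨i.1, hi⟩ : (P : Subgroup G)) : G) • Q₀ else P

theorem point_lt (d : Pts h P Q₀ T e) {i : Fin 28} (hi : i.1 < 27) :
    d.point i = ((d.lab.equiv ⟨i.1, hi⟩ : (P : Subgroup G)) : G) • Q₀ := dif_pos hi

theorem point_last (d : Pts h P Q₀ T e) {i : Fin 28} (hi : ¬ i.1 < 27) : d.point i = P := dif_neg hi

theorem point_ne (d : Pts h P Q₀ T e) {i : Fin 28} (hi : i.1 < 27) : d.point i ≠ P := by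
  rw [d.point_lt hi]
  intro e'
  exact d.ne (smul_left_cancel _ (e'.trans (Sylow.smul_eq_iff_mem_normalizer.2
    (le_normalizer (d.lab.equiv ⟨i.1, hi⟩).2)).symm))

theorem point_bijective (d : Pts h P Q₀ T e) : Function.Bijective d.point := by
  refine (Nat.bijective_iff_injective_and_card _).2 ⟨fun i j e' => ?_, by rw [d.n28, Nat.card_eq_fintype_card, Fintype.card_fin]⟩
  by_cases hi : i.1 < 27 <;> by_cases hj : j.1 < 27
  · rw [d.point_lt hi, d.point_lt hj] at e'
    have e2 := h.free d.n28 d.ne (mul_mem (inv_mem (d.lab.equiv ⟨j.1, hj⟩).2) (d.lab.equiv ⟨i.1, hi⟩).2)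
      (by rw [mul_smul, e', inv_smul_smul])
    have e3 : d.lab.equiv ⟨j.1, hj⟩ = d.lab.equiv ⟨i.1, hi⟩ := Subtype.ext (inv_mul_eq_one.1 e2)
    exact Fin.ext (congrArg Fin.val (d.lab.equiv.injective e3).symm :)
  · exact absurd (e'.trans (d.point_last hj)) (d.point_ne hi)
  · exact absurd (e'.symm.trans (d.point_last hi)) (d.point_ne hj)
  · exact Fin.ext (by omega)

/-- The permutation representation on the labels. -/
noncomputable def rho (d : Pts h P Q₀ T e) : G →* Equiv.Perm (Fin 28) :=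
  (Equiv.ofBijective d.point d.point_bijective).symm.permCongrHom.toMonoidHom.comp
    (MulAction.toPermHom G (Sylow 3 G))

theorem point_rho (d : Pts h P Q₀ T e) (g : G) (i : Fin 28) : d.point (d.rho g i) = g • d.point i := by
  show Equiv.ofBijective d.point d.point_bijective
    ((Equiv.ofBijective d.point d.point_bijective).symm (g • Equiv.ofBijective d.point d.point_bijective i)) = _
  rw [Equiv.apply_symm_apply]
  rfl

theorem rho_eq (d : Pts h P Q₀ T e) {g : G} {i j : Fin 28} (he : g • d.point i = d.point j) : d.rho g i = j :=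
  d.point_bijective.1 ((d.point_rho g i).trans he)

theorem rho_injective (d : Pts h P Q₀ T e) : Function.Injective d.rho :=
  (injective_iff_map_eq_one _).2 fun g hg => h.eq_one_of_fix_all fun X => by
    obtain ⟨i, rfl⟩ := d.point_bijective.2 X
    rw [← d.point_rho, hg]
    rfl

theorem rho_trans (d : Pts h P Q₀ T e) (k : Fin 27) :
    encP (d.rho (d.lab.equiv k : (P : Subgroup G))) = trp e k.1 := by
  rw [encP, trp]
  congr 1
  refine List.map_congr_left fun i hi => ?_
  rw [List.mem_range] at hi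
  rw [dif_pos hi]
  by_cases h27 : i < 27
  · have he : d.rho (d.lab.equiv k : (P : Subgroup G)) ⟨i, hi⟩ = ⟨mulN e k.1 i, by have := mulN_lt e k.1 i; omega⟩ := by
      refine d.rho_eq ?_
      rw [d.point_lt (i := ⟨i, hi⟩) h27, d.point_lt (i := ⟨mulN e k.1 i, _⟩) (mulN_lt e k.1 i), ← mul_smul]
      congr 1
      exact (congrArg Subtype.val (d.lab.mul k ⟨i, h27⟩)).symm
    rw [he]
    simp [show i ≠ 27 by omega]
  · have he : d.rho (d.lab.equiv k : (P : Subgroup G)) ⟨i, hi⟩ = ⟨i, hi⟩ := by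
      refine d.rho_eq ?_
      rw [d.point_last (i := ⟨i, hi⟩) h27]
      exact Sylow.smul_eq_iff_mem_normalizer.2 (le_normalizer (d.lab.equiv k).2)
    rw [he]
    simp [show i = 27 by omega]

theorem rho_compl (d : Pts h P Q₀ T e) (t : T) : encP (d.rho (t : G)) = enc (d.lab.theta d.compl t) := by
  rw [encP, enc]
  congr 1
  refine List.map_congr_left fun i hi => ?_
  rw [List.mem_range] at hi
  rw [dif_pos hi]
  by_cases h27 : i < 27
  · rw [dif_pos h27]
    have he : d.rho (t : G) ⟨i, hi⟩ = ⟨(d.lab.theta d.compl t ⟨i, h27⟩).1, by omega⟩ := by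
      refine d.rho_eq ?_
      rw [d.point_lt (i := ⟨i, hi⟩) h27, d.point_lt (i := ⟨(d.lab.theta d.compl t ⟨i, h27⟩).1, _⟩) (d.lab.theta d.compl t ⟨i, h27⟩).2,
        ← mul_smul]
      show ((t : G) * _) • Q₀ = _
      rw [d.lab.theta_apply, mul_smul _ (t : G)⁻¹, inv_smul_eq_iff.2 (d.fix t t.2).symm]
    rw [he]
  · rw [dif_neg h27]
    have he : d.rho (t : G) ⟨i, hi⟩ = ⟨i, hi⟩ := by
      refine d.rho_eq ?_
      rw [d.point_last (i := ⟨i, hi⟩) h27]
      exact Sylow.smul_eq_iff_mem_normalizer.2 (d.compl.le t.2)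
    rw [he]
    show i = 27
    omega

/-- The stabiliser of the last point. -/
theorem exists_dec (d : Pts h P Q₀ T e) {g : G} (hg : g • P = P) :
    ∃ c : Fin 27, ∃ t : T, g = (d.lab.equiv c : (P : Subgroup G)) * (t : G) := by
  obtain ⟨x, hx, t, ht, rfl⟩ := d.compl.dec g (Sylow.smul_eq_iff_mem_normalizer.1 hg)
  exact ⟨d.lab.equiv.symm ⟨x, hx⟩, ⟨t, ht⟩, by rw [Equiv.apply_symm_apply]⟩

/-- The stabiliser of the two base points. -/
theorem mem_compl (d : Pts h P Q₀ T e) {g : G} (hg : g • P = P) (hg0 : g • Q₀ = Q₀) : g ∈ T := by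
  obtain ⟨c, t, rfl⟩ := d.exists_dec hg
  rw [mul_smul, d.fix t t.2] at hg0
  rw [h.free d.n28 d.ne (d.lab.equiv c).2 hg0, one_mul]
  exact t.2

/-- An element interchanging the base points. -/
theorem exists_swap (d : Pts h P Q₀ T e) : ∃ g : G, g • P = Q₀ ∧ g • Q₀ = P := by
  obtain ⟨g, hg⟩ := MulAction.exists_smul_eq G P Q₀
  have hne : g • Q₀ ≠ Q₀ := fun e' => d.ne (smul_left_cancel g (hg.trans e'.symm)).symm
  obtain ⟨x, hx, hx'⟩ := h.transitive d.n28 (P := Q₀) (Q := g • Q₀) (R := P) hne d.ne.symm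
  exact ⟨x * g, by rw [mul_smul, hg]; exact Sylow.smul_eq_iff_mem_normalizer.2 (le_normalizer hx), by
    rw [mul_smul, hx']⟩

theorem exists_pts (h : Hyp G) : ∃ (P Q₀ : Sylow 3 G) (T : Subgroup G) (m : Model),
    (m = modelH ∨ m ∈ abelModels) ∧ ∃ d : Pts h P Q₀ T m.twist,
      (∀ t, enc (d.lab.theta d.compl t) ∈ m.tp) ∧ ∀ n ∈ m.tp, ∃ t, enc (d.lab.theta d.compl t) = n := by
  have h28 := h.card_sylow_three
  obtain ⟨P⟩ : Nonempty (Sylow 3 G) := inferInstance
  obtain ⟨T, hC⟩ := h.exists_complement P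
  obtain ⟨Q, hQ, hfix⟩ := h.exists_fixed h28 hC
  obtain ⟨m, hm, L, h1, h2⟩ := h.exists_model hC
  exact ⟨P, Q, T, m, hm, ⟨L, hC, h28, hQ, hfix⟩, h1, h2⟩

end Pts

end Cfsg.Lib.Recog.G2Two
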