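import Cfsg.Agent.Lib.Recog.G2Two.Basic
import Cfsg.Agent.Lib.Chev.IsoG2SU
import Mathlib.FieldTheory.Finite.GaloisField

/-!
# `G₂(2)` satisfies the hypotheses of its recognition

The group is handled through the codes of the semilinear unitary maps in dimension three over the field with nine
elements.  The centraliser of an element of order `7` is found from the normaliser of the subgroup it generates: that
has at least `65` conjugates, and induces a group of order `6` on it.
-/

set_option autoImplicit false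
set_option maxRecDepth 100000
set_option maxHeartbeats 1000000
set_option linter.style.longLine false
set_option linter.style.haveILetI false

namespace Cfsg.Lib.Recog.G2Two

open Cfsg.Lie Cfsg.Lib.Chev Cfsg.Lib.Chev.IsoG2SU Cfsg.Lib.Chev.MatCode

universe u v

theorem Hyp.of_equiv {G : Type u} [Group G] {H : Type v} [Group H] (h : Hyp G) (e : G ≃* H) : Hyp H where
  card := (Nat.card_congr e.toEquiv).symm.trans h.card
  no9 g := by rw [← e.symm.orderOf_eq]; exact h.no9 _
  no14 g := by rw [← e.symm.orderOf_eq]; exact h.no14 _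
  no21 g := by rw [← e.symm.orderOf_eq]; exact h.no21 _
  has12 := by
    obtain ⟨g, hg⟩ := h.has12
    exact ⟨e g, by rw [e.orderOf_eq, hg]⟩

/-- An element of `p`-power order is conjugate into a given Sylow subgroup. -/
theorem exists_conj_mem {G : Type*} [Group G] [Finite G] {p : ℕ} [Fact p.Prime] (S : Sylow p G) {b : G} {n : ℕ}
    (hb : orderOf b = p ^ n) : ∃ t : G, t * b * t⁻¹ ∈ (S : Subgroup G) := by
  obtain ⟨S', hS'⟩ := (IsPGroup.of_card (p := p) (n := n) (by rw [Nat.card_zpowers, hb]) :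
    IsPGroup p (Subgroup.zpowers b)).exists_le_sylow
  obtain ⟨t, ht⟩ := MulAction.exists_smul_eq G S' S
  refine ⟨t, ?_⟩
  have := Subgroup.smul_mem_pointwise_smul b (MulAut.conj t) _ (hS' (Subgroup.mem_zpowers b))
  rw [← ht, Sylow.coe_subgroup_smul]
  simpa [MulAut.smul_def, MulAut.conj_apply] using this

/-- A group of order `12096` with an element of order `7` whose subgroup has at least `65` conjugates and a normaliser
inducing all six automorphisms: the elements of order divisible by `7` have order `7`. -/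
theorem orderOf_eq_seven {G : Type*} [Group G] (hc : Nat.card G = 12096) {a w : G} (ha : orderOf a = 7)
    (hw : w * a * w⁻¹ = a ^ 3) (x : Fin 65 → G)
    (hx : ∀ i j, i ≠ j → ∀ k < 7, x i * a * (x i)⁻¹ ≠ x j * a ^ k * (x j)⁻¹)
    (g : G) (hg : 7 ∣ orderOf g) : orderOf g = 7 := by
  haveI : Finite G := Nat.finite_of_card_ne_zero (by rw [hc]; norm_num)
  haveI : Fact (Nat.Prime 7) := ⟨prime_seven⟩
  have hP : Nat.card (Subgroup.zpowers a) = 7 := by rw [Nat.card_zpowers, ha]
  obtain ⟨S, hS⟩ := (IsPGroup.of_card (p := 7) (n := 1) (by rw [hP, pow_one]) :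
    IsPGroup 7 (Subgroup.zpowers a)).exists_le_sylow
  have hSc : Nat.card (S : Subgroup G) = 7 := by
    simpa using card_syl 1 1728 (hc.trans (by norm_num)) (by norm_num) S
  have hPS : Subgroup.zpowers a = (S : Subgroup G) := Subgroup.eq_of_le_of_card_ge hS (by rw [hP, hSc])
  set N := Subgroup.normalizer ((Subgroup.zpowers a : Subgroup G) : Set G) with hN
  have hidx : 65 ≤ N.index := by
    rw [Subgroup.index_eq_card]
    refine le_trans (Nat.card_fin 65).ge (Nat.card_le_card_of_injective (fun i => (x i : G ⧸ N)) fun i j hij => ?_)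
    by_contra hne
    have h1 := (Subgroup.mem_normalizer_iff.1 (QuotientGroup.eq.1 (Eq.symm hij) : (x j)⁻¹ * x i ∈ N) a).1
      (Subgroup.mem_zpowers a)
    obtain ⟨k, hk⟩ := mem_powers_iff_mem_zpowers.2 h1
    refine hx i j hne (k % 7) (Nat.mod_lt _ (by norm_num)) ?_
    rw [← ha, pow_mod_orderOf, show a ^ k = (x j)⁻¹ * x i * a * ((x j)⁻¹ * x i)⁻¹ from hk]
    group
  have hmod : N.index % 7 = 1 := by
    have h1 := card_sylow_modEq_one 7 G
    rw [Sylow.card_eq_index_normalizer S] at h1
    rw [hN, hPS]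
    exact h1
  have hwN : w ∈ N := by
    have hw' : w⁻¹ * a * w = a ^ 5 := by
      calc w⁻¹ * a * w = w⁻¹ * (a ^ 3) ^ 5 * w := by
            rw [← pow_mul, show a ^ (3 * 5) = a by rw [← pow_mod_orderOf, ha]; norm_num]
        _ = (w⁻¹ * a ^ 3 * w) ^ 5 := by simp only [pow_succ, pow_zero, one_mul]; group
        _ = a ^ 5 := by rw [← hw]; group
    refine Subgroup.mem_normalizer_iff.2 fun h => ⟨fun hh => ?_, fun hh => ?_⟩
    · obtain ⟨i, rfl⟩ := Subgroup.mem_zpowers_iff.1 hh
      rw [← conj_zpow, hw]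
      exact zpow_mem (pow_mem (Subgroup.mem_zpowers a) 3) i
    · obtain ⟨i, hi⟩ := Subgroup.mem_zpowers_iff.1 hh
      have : h = (a ^ 5) ^ i := by
        rw [← hw', show w⁻¹ * a * w = w⁻¹ * a * w⁻¹⁻¹ by rw [inv_inv], conj_zpow, hi]; group
      rw [this]
      exact zpow_mem (pow_mem (Subgroup.mem_zpowers a) 5) i
  set C := Subgroup.centralizer ({a} : Set G)
  have hwk : ∀ k : ℕ, w ^ k * a * (w ^ k)⁻¹ = a ^ (3 ^ k) := by
    intro k
    induction k with
    | zero => simp
    | succ k ih =>
      calc w ^ (k + 1) * a * (w ^ (k + 1))⁻¹ = w ^ k * (w * a * w⁻¹) * (w ^ k)⁻¹ := by rw [pow_succ]; group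
        _ = (w ^ k * a * (w ^ k)⁻¹) ^ 3 := by rw [hw, conj_pow]
        _ = a ^ (3 ^ (k + 1)) := by rw [ih, ← pow_mul, ← pow_succ]
  have hCa : ∀ c ∈ C, c * a * c⁻¹ = a := fun c hc' => by
    rw [show c * a = a * c from (Subgroup.mem_centralizer_iff.1 hc' a rfl).symm, mul_inv_cancel_right]
  have hCN : ∀ c ∈ C, c ∈ N := fun c hc' => Subgroup.mem_normalizer_iff.2 fun h => by
    have hfix : ∀ i : ℤ, c * a ^ i * c⁻¹ = a ^ i := fun i => by rw [← conj_zpow, hCa c hc']
    refine ⟨fun hh => ?_, fun hh => ?_⟩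
    · obtain ⟨i, rfl⟩ := Subgroup.mem_zpowers_iff.1 hh
      rw [hfix]; exact zpow_mem (Subgroup.mem_zpowers a) i
    · obtain ⟨i, hi⟩ := Subgroup.mem_zpowers_iff.1 hh
      have : h = a ^ i := mul_left_cancel (mul_right_cancel ((hi.symm.trans (hfix i).symm)))
      rw [this]; exact zpow_mem (Subgroup.mem_zpowers a) i
  have h36 : ∀ k l : Fin 6, 3 ^ (k : ℕ) % 7 = 3 ^ (l : ℕ) % 7 → k = l := by decide
  have h6 : 6 * Nat.card C ≤ Nat.card N := by
    have := Nat.card_le_card_of_injective
      (fun p : Fin 6 × C => (⟨w ^ (p.1 : ℕ) * p.2, mul_mem (pow_mem hwN _) (hCN _ p.2.2)⟩ : N))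
      (fun ⟨k, c⟩ ⟨l, d⟩ h => by
        have h' : w ^ (k : ℕ) * (c : G) = w ^ (l : ℕ) * d := congrArg Subtype.val h
        have e := congrArg (fun y => y * a * y⁻¹) h'
        simp only [mul_inv_rev] at e
        rw [show w ^ (k : ℕ) * c * a * ((c : G)⁻¹ * (w ^ (k : ℕ))⁻¹) = w ^ (k : ℕ) * (c * a * (c : G)⁻¹) * (w ^ (k : ℕ))⁻¹ by group,
          show w ^ (l : ℕ) * d * a * ((d : G)⁻¹ * (w ^ (l : ℕ))⁻¹) = w ^ (l : ℕ) * (d * a * (d : G)⁻¹) * (w ^ (l : ℕ))⁻¹ by group,
          hCa _ c.2, hCa _ d.2, hwk, hwk, pow_inj_mod, ha] at e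
        have hkl : k = l := h36 k l e
        subst hkl
        exact Prod.ext rfl (Subtype.ext (mul_left_cancel h')))
    rwa [Nat.card_prod, Nat.card_fin] at this
  have hPC : Subgroup.zpowers a ≤ C := by
    rw [Subgroup.zpowers_le, Subgroup.mem_centralizer_iff]
    rintro _ rfl
    rfl
  have hC : C = Subgroup.zpowers a := by
    refine (Subgroup.eq_of_le_of_card_ge hPC ?_).symm
    rw [hP]
    have hmul := N.index_mul_card
    rw [hc] at hmul
    obtain ⟨m, hm⟩ : 7 ∣ Nat.card N :=
      hP ▸ Subgroup.card_dvd_of_le (Subgroup.le_normalizer (H := Subgroup.zpowers a))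
    have hm26 : m ≤ 26 := by
      have := Nat.mul_le_mul_right (Nat.card N) hidx
      omega
    rw [hm] at hmul h6
    interval_cases m <;> omega
  obtain ⟨k, hk⟩ := hg
  have hb : orderOf (g ^ k) = 7 := by
    have : k ≠ 0 := fun e => (orderOf_pos g).ne' (by rw [hk, e, mul_zero])
    rw [orderOf_pow' g this, hk, Nat.gcd_eq_right ⟨7, mul_comm 7 k⟩, Nat.mul_div_cancel _ (by omega)]
  obtain ⟨t, ht⟩ := exists_conj_mem S (n := 1) (by rw [hb, pow_one])
  rw [← hPS] at ht
  set g' := t * g * t⁻¹ with hg'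
  have ho : orderOf g' = orderOf g := (MulAut.conj t).orderOf_eq g
  have hgk : g' ^ k = t * g ^ k * t⁻¹ := conj_pow
  have hgen : Subgroup.zpowers (g' ^ k) = Subgroup.zpowers a := by
    refine Subgroup.eq_of_le_of_card_ge (Subgroup.zpowers_le.2 (hgk ▸ ht)) ?_
    rw [hP, Nat.card_zpowers, hgk, ← MulAut.conj_apply, MulEquiv.orderOf_eq, hb]
  obtain ⟨i, hi⟩ := Subgroup.mem_zpowers_iff.1 (hgen ▸ Subgroup.mem_zpowers a : a ∈ Subgroup.zpowers (g' ^ k))
  have hmem : g' ∈ C := by
    rw [Subgroup.mem_centralizer_iff]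
    rintro _ rfl
    rw [← hi]
    exact (((Commute.refl g').pow_left k).zpow_left i).eq
  rw [hC] at hmem
  have h7 : orderOf g' ∣ 7 := ha ▸ orderOf_dvd_of_mem_zpowers hmem
  rw [ho] at h7
  exact Nat.dvd_antisymm h7 ⟨k, hk⟩

/-- The powers of a code. -/
def cpow (x : ℕ) : ℕ → ℕ
  | 0 => cone
  | n + 1 => cmul (cpow x n) x

/-- The codes differ in one of their places. -/
def diff (x y : ℕ) : Bool := (List.range 10).any fun k => !Nat.beq (slot x 4 k) (slot y 4 k)

/-- An element of order `7`. -/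
def codeA : ℕ := 1429209175

/-- An element inducing an automorphism of order `6` on the subgroup of order `7`. -/
def codeW : ℕ := 73911181634

/-- Its inverse. -/
def codeW' : ℕ := 74913629474

/-- An element of order `12`. -/
def codeZ : ℕ := 21300336

/-- Elements, with their inverses, giving distinct conjugates of the subgroup of order `7`. -/
def conjList : List (ℕ × ℕ) := [(16843264, 33620224), (16908544, 16908544), (16974592, 101056768), (17171968, 50528512), (17825808, 268439808), (18874400, 536879360), (19923040, 1610625280), (21235056, 2013741312), (21300336, 1997029632), (21432432, 1963213056), (21497712, 1946501376), (22283648, 2282180864), (22348928, 2265469184), (22481024, 2231652608), (22546304, 2214940928), (23068720, 805331200), (24380736, 1208447232), (24446016, 1191735552), (24578112, 1157918976), (24643392, 1141207296), (25429328, 1476886784), (25494608, 1460175104), (25626704, 1426358528), (25691984, 1409646848), (33620224, 16843264), (33686016, 33686016), (33752576,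 50725376), (33948416, 100860416), (34603040, 268444160), (35651600, 536875520), (36700208, 1610637824), (38012752, 1946649088), (38078544, 1963491840), (38208592, 1996784128), (38274384, 2013626880), (39061312, 2215080448), (39127104, 2231923200), (39257152, 2265215488), (39322944, 2282058240), (39845984, 805319168), (41158528, 1141330432), (41224320, 1158173184), (41354368, 1191465472), (41420160, 1208308224), (42207088, 1409761792), (42272880, 1426604544), (42402928, 1459896832), (42468720, 1476739584), (50397952, 100730368), (50464256, 50464256), (50528512, 17171968), (50725376, 33752576), (51380320, 268449280), (52428848, 536897024), (53477408, 1610622464), (54789248, 1996969472), (54855552, 1946703360), (54986112, 2013550080), (55052416, 1963283968), (55837776, 2265417216), (55904080, 2215151104), (56034640, 2281997824), (56100944, 2231731712), (56623120, 805312000), (57934960, 1191659008)]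

theorem codeA_ok : cok codeA = true ∧ cpow codeA 7 = cone ∧ diff codeA cone = true := by decide +kernel

theorem codeW_ok : cok codeW = true ∧ cok codeW' = true ∧ cmul codeW codeW' = cone ∧
    cmul (cmul codeW codeA) codeW' = cpow codeA 3 := by decide +kernel

theorem codeZ_ok : cok codeZ = true ∧ cpow codeZ 12 = cone ∧ diff (cpow codeZ 6) cone = true ∧
    diff (cpow codeZ 4) cone = true := by decide +kernel

theorem conjList_ok : conjList.length = 65 ∧ conjList.all (fun p => cok p.1 && cok p.2 && Nat.beq (cmul p.1 p.2) cone) = true := by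
  decide +kernel

theorem conjList_sep : allBelow (fun i => allBelow (fun j => Nat.beq i j || allBelow (fun k =>
    diff (cmul (cmul (conjList.getD i (0, 0)).1 codeA) (conjList.getD i (0, 0)).2)
      (cmul (cmul (conjList.getD j (0, 0)).1 (cpow codeA k)) (conjList.getD j (0, 0)).2)) 7) 65) 65 = true := by
  decide +kernel

theorem set27_cube : set27.all (fun p => Nat.beq (cmul p.1 (cmul p.1 p.1)) cone) = true := by decide +kernel

theorem set27_length : set27.length = 27 := by decide +kernel

/-- A group of order `12096` carrying the codes satisfies the hypotheses. -/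
theorem hyp_of_code {G : Type u} [Group G] (hc : Nat.card G = 12096) (X : CodeHom.Code G) (hmul : X.mul = cmul)
    (hone : X.one = cone) (hgb : ∀ x, cok x = true → X.good x)
    (hsep : ∀ x y, X.good x → X.good y → X.ev x = X.ev y → ∀ k < 10, slot x 4 k = slot y 4 k) : Hyp G := by
  haveI : Finite G := Nat.finite_of_card_ne_zero (by rw [hc]; norm_num)
  have hne : ∀ x y, X.good x → X.good y → diff x y = true → X.ev x ≠ X.ev y := by
    intro x y hx hy h he
    simp only [diff, List.any_eq_true, List.mem_range, Bool.not_eq_true'] at h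
    obtain ⟨k, hk, hk'⟩ := h
    exact Nat.ne_of_beq_eq_false hk' (hsep x y hx hy he k hk)
  have hev1 : X.ev cone = 1 := hone ▸ X.ev_one
  have hg1 : X.good cone := hone ▸ X.one_good
  have hm : ∀ x y, X.good x → X.good y → X.good (cmul x y) ∧ X.ev (cmul x y) = X.ev x * X.ev y :=
    fun x y hx hy => hmul ▸ X.mul_spec x y hx hy
  have hinv : ∀ x x', X.good x → X.good x' → cmul x x' = cone → X.ev x' = (X.ev x)⁻¹ := fun x x' hx hx' h =>
    eq_inv_of_mul_eq_one_right (by rw [← (hm x x' hx hx').2, h, hev1])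
  have hp : ∀ x, X.good x → ∀ n, X.good (cpow x n) ∧ X.ev (cpow x n) = X.ev x ^ n := by
    intro x hx n
    induction n with
    | zero => exact ⟨hg1, by rw [pow_zero]; exact hev1⟩
    | succ n ih =>
      obtain ⟨h1, h2⟩ := hm _ x ih.1 hx
      exact ⟨h1, by rw [pow_succ, ← ih.2, ← h2]; rfl⟩
  obtain ⟨hA, hA7, hA1⟩ := codeA_ok
  have gA := hgb _ hA
  set a := X.ev codeA with ha'
  have ha1 : a ≠ 1 := hev1 ▸ hne _ _ gA hg1 hA1
  haveI : Fact (Nat.Prime 7) := ⟨prime_seven⟩
  have ha : orderOf a = 7 := orderOf_eq_prime (by rw [← (hp _ gA 7).2, hA7, hev1]) ha1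
  obtain ⟨hW, hW', hWW, hWa⟩ := codeW_ok
  have gW := hgb _ hW
  have gW' := hgb _ hW'
  have hwa : X.ev codeW * a * (X.ev codeW)⁻¹ = a ^ 3 := by
    rw [← hinv _ _ gW gW' hWW, ← (hp _ gA 3).2, ← hWa, (hm _ _ (hm _ _ gW gA).1 gW').2, (hm _ _ gW gA).2]
  obtain ⟨hlen, hall⟩ := conjList_ok
  simp only [List.all_eq_true, Bool.and_eq_true, Nat.beq_eq] at hall
  have hsep' := conjList_sep
  simp only [allBelow_iff, Bool.or_eq_true, Nat.beq_eq] at hsep'
  have key : ∀ g : G, 7 ∣ orderOf g → orderOf g = 7 := by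
    refine orderOf_eq_seven hc ha hwa (fun i => X.ev (conjList.getD i (0, 0)).1) fun i j hij k hk => ?_
    have hmem : ∀ i : Fin 65, conjList.getD i (0, 0) ∈ conjList := fun i => by
      rw [List.getD_eq_getElem _ _ (hlen.symm ▸ i.2)]; exact List.getElem_mem _
    obtain ⟨⟨hi, hi'⟩, hii⟩ := hall _ (hmem i)
    obtain ⟨⟨hj, hj'⟩, hjj⟩ := hall _ (hmem j)
    have gi := hgb _ hi; have gi' := hgb _ hi'; have gj := hgb _ hj; have gj' := hgb _ hj'
    obtain ⟨gk, hk'⟩ := hp _ gA k
    have h1 := hm _ _ gi gA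
    have h2 := hm _ _ h1.1 gi'
    have h3 := hm _ _ gj gk
    have h4 := hm _ _ h3.1 gj'
    show X.ev (conjList.getD i (0, 0)).1 * a * (X.ev (conjList.getD i (0, 0)).1)⁻¹ ≠
      X.ev (conjList.getD j (0, 0)).1 * a ^ k * (X.ev (conjList.getD j (0, 0)).1)⁻¹
    rw [← hinv _ _ gi gi' hii, ← hinv _ _ gj gj' hjj, ← hk', ← h1.2, ← h2.2, ← h3.2, ← h4.2]
    exact hne _ _ h2.1 h4.1 ((hsep' i i.2 j j.2).resolve_left (fun h => hij (Fin.ext h)) k hk)
  have h27 := set27_ok
  simp only [chkSet, Bool.and_eq_true, List.all_eq_true, List.any_eq_true, allBelow_iff, Bool.or_eq_true,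
    Nat.beq_eq, Nat.blt_eq, List.mem_range, Bool.not_eq_true'] at h27
  obtain ⟨hmem, ⟨p₀, hp₀, hp₀'⟩, hcl, hdist⟩ := h27
  have gmem : ∀ p ∈ set27, X.good p.1 := fun p hp' => hgb _ (hmem p hp').1.1
  let F0 : Fin set27.length → G := fun i => X.ev (set27.get i).1
  let M : Submonoid G :=
    { carrier := Set.range F0
      one_mem' := by
        obtain ⟨i, hi⟩ := List.mem_iff_get.1 hp₀
        exact ⟨i, by show X.ev _ = 1; rw [hi, hp₀', hev1]⟩
      mul_mem' := by
        rintro _ _ ⟨i, rfl⟩ ⟨j, rfl⟩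
        obtain ⟨r, hr, e⟩ := hcl _ (List.get_mem set27 i) _ (List.get_mem set27 j)
        obtain ⟨l, hl⟩ := List.mem_iff_get.1 hr
        refine ⟨l, ?_⟩
        show X.ev _ = X.ev _ * X.ev _
        rw [hl, ← (hm _ _ (gmem _ (List.get_mem set27 i)) (gmem _ (List.get_mem set27 j))).2, e] }
  let H : Subgroup G :=
    { M with
      inv_mem' := fun {y} hy => by
        show y⁻¹ ∈ M
        rw [inv_eq_of_mul_eq_one_right (show y * y ^ (orderOf y - 1) = 1 by
          rw [← pow_succ', Nat.sub_add_cancel (orderOf_pos y), pow_orderOf_eq_one])]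
        exact M.pow_mem hy _ }
  have hH : Nat.card H = 27 := by
    refine ((Nat.card_range_of_injective (f := F0) fun i j h => ?_).trans (Nat.card_fin _)).trans set27_length
    by_contra hne'
    obtain ⟨k, hk, hk'⟩ := (hdist i i.2 j j.2).resolve_left fun h' => hne' (Fin.ext h')
    rw [List.getD_eq_getElem _ _ i.2, List.getD_eq_getElem _ _ j.2] at hk'
    exact Nat.ne_of_beq_eq_false hk' (hsep _ _ (gmem _ (List.get_mem set27 i)) (gmem _ (List.get_mem set27 j)) h k hk)
  have hcube : ∀ y ∈ H, y ^ 3 = 1 := by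
    rintro _ ⟨i, rfl⟩
    have h3 := set27_cube
    simp only [List.all_eq_true, Nat.beq_eq] at h3
    have gi := gmem _ (List.get_mem set27 i)
    obtain ⟨g2, e2⟩ := hm _ _ gi gi
    obtain ⟨g3, e3⟩ := hm _ _ gi g2
    rw [pow_succ', pow_two]
    show X.ev _ * (X.ev _ * X.ev _) = 1
    rw [← e2, ← e3, h3 _ (List.get_mem set27 i), hev1]
  refine ⟨hc, ?_, fun g h => absurd (key g (h ▸ (by norm_num : 7 ∣ 14))) (by omega),
    fun g h => absurd (key g (h ▸ (by norm_num : 7 ∣ 21))) (by omega), ?_⟩
  · intro g hg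
    haveI : Fact (Nat.Prime 3) := ⟨Nat.prime_three⟩
    obtain ⟨S, hS⟩ := (IsPGroup.of_card (p := 3) (n := 3) (by rw [hH]; norm_num) : IsPGroup 3 H).exists_le_sylow
    have hSc : Nat.card (S : Subgroup G) = 27 := by
      simpa using card_syl 3 448 (hc.trans (by norm_num)) (by norm_num) S
    have hHS : H = (S : Subgroup G) := Subgroup.eq_of_le_of_card_ge hS (by rw [hH, hSc])
    obtain ⟨t, ht⟩ := exists_conj_mem S (n := 2) (by rw [hg]; norm_num)
    have h3 := orderOf_dvd_of_pow_eq_one (hcube _ (hHS ▸ ht))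
    rw [← MulAut.conj_apply, MulEquiv.orderOf_eq, hg] at h3
    exact absurd h3 (by norm_num)
  · obtain ⟨hZ, hZ12, hZ6, hZ4⟩ := codeZ_ok
    have gZ := hgb _ hZ
    refine ⟨X.ev codeZ, ?_⟩
    have h12 : orderOf (X.ev codeZ) ∣ 12 := orderOf_dvd_of_pow_eq_one (by rw [← (hp _ gZ 12).2, hZ12, hev1])
    have h6 : ¬ orderOf (X.ev codeZ) ∣ 6 := fun h =>
      hne _ _ (hp _ gZ 6).1 hg1 hZ6 (by rw [(hp _ gZ 6).2, hev1, orderOf_dvd_iff_pow_eq_one.1 h])
    have h4 : ¬ orderOf (X.ev codeZ) ∣ 4 := fun h =>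
      hne _ _ (hp _ gZ 4).1 hg1 hZ4 (by rw [(hp _ gZ 4).2, hev1, orderOf_dvd_iff_pow_eq_one.1 h])
    have hle := Nat.le_of_dvd (by norm_num) h12
    generalize orderOf (X.ev codeZ) = o at h12 h6 h4 hle ⊢
    interval_cases o <;> first | rfl | omega

/-- The Chevalley group of type `G₂` over the field with two elements satisfies the hypotheses. -/
theorem hyp_g2two {F : Type u} [Field F] [Fintype F] (hF : Fintype.card F = 2) :
    Hyp ↥(chevG2.group F) := by
  haveI : Fact (Nat.Prime 3) := ⟨Nat.prime_three⟩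
  letI : Fintype (GaloisField 3 2) := Fintype.ofFinite _
  have hK : Fintype.card (GaloisField 3 2) = 9 := by
    rw [← Nat.card_eq_fintype_card, GaloisField.card 3 2 two_ne_zero]; norm_num
  obtain ⟨θ, X, φ, hmul, hone, hgb, hsep, hsurj, hcard⟩ := exists_code_surjective (K := GaloisField 3 2) hF hK
  obtain ⟨E⟩ := nonempty_equiv_of_surjective hF φ hsurj hcard
  exact (hyp_of_code hcard X hmul hone hgb hsep).of_equiv E.symm

end Cfsg.Lib.Recog.G2Two
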