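import Cfsg.Agent.Lib.Recog.G2Two.Points

/-!
# Uniqueness of the group
-/

set_option autoImplicit false
set_option linter.style.haveILetI false
set_option linter.unusedSectionVars false

namespace Cfsg.Lib.Recog.G2Two

open Subgroup MulAction Pointwise

universe u

/-- The list `0, …, 15` used by the search. -/
theorem range16 : [0, 1, 2, 3, 4, 5, 6, 7, 8, 9, 10, 11, 12, 13, 14, 15] = List.range 16 := rfl

theorem pack_append : ∀ (l : List ℕ) (v : ℕ), pack (l ++ [v]) = pack l + v * 32 ^ l.length
  | [], v => by simp [pack]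
  | a :: l, v => by
    show a + 32 * pack (l ++ [v]) = a + 32 * pack l + v * 32 ^ (l.length + 1)
    rw [pack_append l v, pow_succ]
    ring

/-- The consistency conditions on the data of a model. -/
def Model.dataOk (m : Model) : Bool :=
  decide (m.twist < 2) && (Nat.beq m.tp.length 16 && (decide m.tp.Nodup &&
  (((List.range 16).all fun a => (List.range 16).all fun b =>
      decide (m.tget a b < 16) && Nat.beq (pmul (m.perm a) (m.perm b)) (m.perm (m.tget a b))) &&
  (Nat.beq (m.perm 0) (enc 1) && ((m.gens.all fun a => decide (a < 16)) && (Nat.beq m.prog.length 15 &&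
  (((List.range 15).all fun k => decide ((m.prog.getD k (0, 0)).1 ≤ k) &&
      (decide ((m.prog.getD k (0, 0)).2 < m.gens.length) &&
        Nat.beq (m.tget (m.prog.getD k (0, 0)).1 (m.gens.getD (m.prog.getD k (0, 0)).2 0)) (k + 1))) &&
  ((m.reps.all fun r => decide (1 ≤ r ∧ r < 27)) &&
  (((List.range m.reps.length).all fun j => (List.range j).all fun i => (List.range 16).all fun a =>
      !(Nat.beq (pget (m.perm a) (m.reps.getD i 0)) (m.reps.getD j 0))) &&
  (Nat.beq m.coord.length 26 && (List.range 26).all fun k => decide ((m.coord.getD k (0, 0)).1 < 16) &&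
      (decide ((m.coord.getD k (0, 0)).2 < m.reps.length) &&
        Nat.beq (pget (m.perm (m.coord.getD k (0, 0)).1) (m.reps.getD (m.coord.getD k (0, 0)).2 0)) (k + 1))))))))))))

theorem dataOk_all : ∀ m ∈ modelH :: abelModels, Model.dataOk m = true := by decide +kernel

theorem search_all : ∀ m ∈ modelH :: abelModels, Model.search m = true := by
  intro m hm
  simp only [abelModels, List.mem_cons, List.not_mem_nil, or_false] at hm
  rcases hm with rfl | rfl | rfl | rfl | rfl | rfl | rfl | rfl
  exacts [search_He, search_001, search_010, search_011, search_100, search_101, search_110, search_111]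

theorem abel_surv : ∀ m ∈ abelModels, m.surv = [] := by decide +kernel

theorem surv_coset : modelH.surv.all (fun s => (List.range 16).any fun a =>
    Nat.beq (pmul s (modelH.perm a)) (modelH.surv.getD 0 0)) = true := by decide +kernel

theorem sum_eq_of_perm (n : ℕ) (f : ℕ → ℕ) (hlt : ∀ a < n, f a < n) (hinj : ∀ a < n, ∀ b < n, f a = f b → a = b) :
    ((List.range n).map f).foldl (fun acc a => acc + 2 ^ a) 0 = (List.range n).foldl (fun acc a => acc + 2 ^ a) 0 := by
  have hnd : ((List.range n).map f).Nodup :=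
    List.Nodup.map_on (fun a ha b hb e => hinj a (List.mem_range.1 ha) b (List.mem_range.1 hb) e) List.nodup_range
  have hsub : ((List.range n).map f).Subset (List.range n) := fun x hx => by
    obtain ⟨a, ha, rfl⟩ := List.mem_map.1 hx
    exact List.mem_range.2 (hlt a (List.mem_range.1 ha))
  have hperm : ((List.range n).map f).Perm (List.range n) :=
    (List.subperm_of_subset hnd hsub).perm_of_length_le (by simp)
  exact hperm.foldl_eq' (fun x _ y _ z => by ring) 0

theorem pmul_encP (σ τ : Equiv.Perm (Fin 28)) : pmul (encP σ) (encP τ) = encP (σ * τ) := by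
  rw [pmul_eq]
  conv_rhs => rw [encP]
  congr 1
  refine List.map_congr_left fun i hi => ?_
  rw [List.mem_range] at hi
  rw [dif_pos hi, pget_encP τ ⟨i, hi⟩, pget_encP σ]
  rfl

theorem label_inv : ∀ e : Fin 2, ∀ i : Fin 27,
    invN i.1 < 27 ∧ mulN e.1 (invN i.1) i.1 = 0 ∧ mulN e.1 i.1 0 = i.1 := by decide +kernel

/-- The generators of the model on the points. -/
def modelSet : Set (Equiv.Perm (Fin 28)) :=
  {σ | encP σ ∈ (List.range 27).map (trp 1) ++ modelH.tp ++ [modelH.surv.getD 0 0]}

variable {G : Type u} [Group G] [Finite G] [Fact (Nat.Prime 3)] {h : Hyp G} {P Q₀ : Sylow 3 G} {T : Subgroup G}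

theorem Pts.word_ok {m : Model} (htw : m.twist < 2) (d : Pts h P Q₀ T m.twist)
    (h1 : ∀ t, enc (d.lab.theta d.compl t) ∈ m.tp) {τ : G} (hp27 : pget (encP (d.rho τ)) 27 = 0)
    (hp0 : pget (encP (d.rho τ)) 0 = 27) {g : ℕ} (hg : g < 27) (hpg : pget (encP (d.rho τ)) g < 27) :
    m.wordOk (encP (d.rho τ)) g = true := by
  set π := d.rho τ with hπ
  set q := invN (pget (encP π) g) with hqdef
  obtain ⟨hq, hq0, -⟩ := label_inv ⟨m.twist, htw⟩ ⟨_, hpg⟩
  change q < 27 at hq
  change mulN m.twist q (pget (encP π) g) = 0 at hq0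
  set k := τ * ((d.lab.equiv ⟨q, hq⟩ : (P : Subgroup G)) : G) * τ * ((d.lab.equiv ⟨g, hg⟩ : (P : Subgroup G)) : G) * τ
    with hk
  have hkv : ∀ i : Fin 28, (d.rho k i).1 = m.word (encP π) g i.1 := by
    intro i
    have et : trt m.twist g = encP (d.rho ((d.lab.equiv ⟨g, hg⟩ : (P : Subgroup G)) : G)) := by
      rw [d.rho_trans, trt_eq htw hg]
    have eq' : trt m.twist q = encP (d.rho ((d.lab.equiv ⟨q, hq⟩ : (P : Subgroup G)) : G)) := by
      rw [d.rho_trans, trt_eq htw hq]
    rw [Model.word, ← hqdef, et, eq', pget_encP π i, pget_encP, pget_encP, pget_encP, pget_encP, hk, map_mul,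
      map_mul, map_mul, map_mul]
    rfl
  have hw27 : m.word (encP π) g 27 = 27 := by
    have e0 : mulN m.twist g 0 = g := (label_inv ⟨m.twist, htw⟩ ⟨g, hg⟩).2.2
    rw [Model.word, ← hqdef, hp27, trt_eq htw hg, trt_eq htw hq, pget_trp m.twist g (show 0 < 27 by norm_num), e0,
      pget_trp m.twist q hpg, hq0, hp0]
  have hp : d.point ⟨27, by norm_num⟩ = P := d.point_last (by norm_num)
  have hp' : d.point ⟨0, by norm_num⟩ = Q₀ := by
    rw [d.point_lt (by norm_num : (0 : ℕ) < 27)]
    have h0 : d.lab.equiv ⟨0, by norm_num⟩ = 1 := d.lab.zero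
    rw [h0, Subgroup.coe_one, one_smul]
  have hkP : k • P = P := by
    have e27 : d.rho k ⟨27, by norm_num⟩ = ⟨27, by norm_num⟩ := Fin.ext ((hkv _).trans hw27)
    have := d.point_rho k ⟨27, by norm_num⟩
    rw [e27, hp] at this
    exact this.symm
  obtain ⟨c, t, hct⟩ := d.exists_dec hkP
  have hc : m.word (encP π) g 0 = c.1 := by
    have e0 : d.rho k ⟨0, by norm_num⟩ = ⟨c.1, by omega⟩ := by
      refine d.rho_eq ?_
      rw [hp', d.point_lt (i := ⟨c.1, _⟩) c.2, hct, mul_smul, d.fix t t.2]
    exact (hkv ⟨0, by norm_num⟩).symm.trans (congrArg Fin.val e0)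
  obtain ⟨hi, hi0, -⟩ := label_inv ⟨m.twist, htw⟩ c
  have key : ∀ i : Fin 28, pget (encP (d.rho (t : G))) i =
      pget (trt m.twist (invN (m.word (encP π) g 0))) (m.word (encP π) g i) := by
    intro i
    have et : trt m.twist (invN c.1) = encP (d.rho ((d.lab.equiv ⟨invN c.1, hi⟩ : (P : Subgroup G)) : G)) := by
      rw [d.rho_trans, trt_eq htw hi]
    rw [hc, et, ← hkv, pget_encP, pget_encP, hct, map_mul, Equiv.Perm.mul_apply]
    have hz : ((d.lab.equiv ⟨invN c.1, hi⟩ : (P : Subgroup G)) : G) * ((d.lab.equiv c : (P : Subgroup G)) : G) = 1 := by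
      rw [← Subgroup.coe_mul, ← d.lab.mul,
        show mulF m.twist ⟨invN c.1, hi⟩ c = 0 from Fin.ext hi0, d.lab.zero, Subgroup.coe_one]
    rw [← Equiv.Perm.mul_apply (d.rho _) (d.rho _), ← map_mul, hz, map_one, Equiv.Perm.one_apply]
  simp only [Model.wordOk, Model.inTp, List.any_eq_true, Bool.and_eq_true]
  refine ⟨_, d.rho_compl t ▸ h1 t, ?_, ?_, ?_⟩
  · rw [show pget (encP (d.rho (t : G))) 1 = _ from key 1]; simp
  · rw [show pget (encP (d.rho (t : G))) 3 = _ from key 3]; simp
  · rw [show pget (encP (d.rho (t : G))) 9 = _ from key 9]; simp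

set_option maxHeartbeats 1600000 in
/-- **The swap is one of the survivors.** -/
theorem Pts.swap_mem_surv {m : Model} (hok : m.dataOk = true) (hsearch : m.search = true)
    (d : Pts h P Q₀ T m.twist) (h1 : ∀ t, enc (d.lab.theta d.compl t) ∈ m.tp)
    (h2 : ∀ n ∈ m.tp, ∃ t, enc (d.lab.theta d.compl t) = n) {τ : G} (hτ : τ • P = Q₀) (hτ0 : τ • Q₀ = P)
    (hfirst : pget (encP (d.rho τ)) (m.reps.getD 0 0) ∈ m.reps) :
    encP (d.rho τ) ∈ m.surv := by
  classical
  simp only [Model.dataOk, Bool.and_eq_true, decide_eq_true_eq, List.all_eq_true, List.mem_range,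
    Bool.not_eq_true'] at hok
  obtain ⟨htw, hlen, hnd, htbl, hperm0, hgens, hplen, hprog, hreps, hsep, hclen, hcoord⟩ := hok
  have hlen' : m.tp.length = 16 := Nat.eq_of_beq_eq_true hlen
  have hperm : ∀ a (ha : a < 16), m.perm a = m.tp[a]'(by omega) := fun a ha => by
    rw [Model.perm, List.getD_eq_getElem?_getD, List.getElem?_eq_getElem (by omega)]
    rfl
  have hpinj : ∀ a < 16, ∀ b < 16, m.perm a = m.perm b → a = b := fun a ha b hb e => by
    rw [hperm a ha, hperm b hb] at e
    exact (List.Nodup.getElem_inj_iff hnd).1 e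
  -- the element with a given number
  have hex : ∀ a : ℕ, ∃ t : T, a < 16 → enc (d.lab.theta d.compl t) = m.perm a := fun a => by
    by_cases ha : a < 16
    · obtain ⟨t, ht⟩ := h2 (m.perm a) (hperm a ha ▸ List.getElem_mem _)
      exact ⟨t, fun _ => ht⟩
    · exact ⟨1, fun h' => absurd h' ha⟩
  choose el hel using hex
  have hidx : ∀ t : T, ∃ a < 16, el a = t := fun t => by
    obtain ⟨a, ha, hae⟩ := List.getElem_of_mem (h1 t)
    refine ⟨a, by omega, ?_⟩
    refine d.lab.theta_injective h d.n28 d.compl (enc_injective ?_)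
    rw [hel a (by omega), hperm a (by omega), hae]
  have helinj : ∀ a < 16, ∀ b < 16, el a = el b → a = b := fun a ha b hb e =>
    hpinj a ha b hb (by rw [← hel a ha, ← hel b hb, e])
  have hmul : ∀ a < 16, ∀ b < 16, el (m.tget a b) = el a * el b := fun a ha b hb => by
    refine d.lab.theta_injective h d.n28 d.compl (enc_injective ?_)
    rw [hel _ (htbl a ha b hb).1, map_mul, ← pmul_enc, hel a ha, hel b hb]
    exact (Nat.eq_of_beq_eq_true (htbl a ha b hb).2).symm
  have hone : el 0 = 1 := by
    refine d.lab.theta_injective h d.n28 d.compl (enc_injective ?_)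
    rw [hel 0 (by norm_num), map_one, Nat.eq_of_beq_eq_true hperm0]
  have hpel : ∀ a < 16, encP (d.rho (el a : G)) = m.perm a := fun a ha => by rw [d.rho_compl, hel a ha]
  -- conjugation by the swap
  have hconj : ∀ t : T, τ * (t : G) * τ⁻¹ ∈ T := fun t => by
    have e1 : τ⁻¹ • P = Q₀ := inv_smul_eq_iff.2 hτ0.symm
    have e2 : τ⁻¹ • Q₀ = P := inv_smul_eq_iff.2 hτ.symm
    refine d.mem_compl ?_ ?_
    · rw [mul_smul, mul_smul, e1, d.fix t t.2, hτ0]
    · rw [mul_smul, mul_smul, e2, Sylow.smul_eq_iff_mem_normalizer.2 (d.compl.le t.2), hτ]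
  choose f hf16 hf using fun a => hidx ⟨τ * (el a : G) * τ⁻¹, hconj (el a)⟩
  have hfG : ∀ a, (el (f a) : G) = τ * (el a : G) * τ⁻¹ := fun a => congrArg Subtype.val (hf a)
  have hfinj : ∀ a < 16, ∀ b < 16, f a = f b → a = b := fun a ha b hb e => by
    refine helinj a ha b hb (Subtype.ext ?_)
    have := hfG a
    rw [e, hfG b] at this
    exact (mul_left_cancel (mul_right_cancel this)).symm
  have hfmul : ∀ a < 16, ∀ b < 16, f (m.tget a b) = m.tget (f a) (f b) := fun a ha b hb => by
    refine helinj _ (hf16 _) _ (htbl _ (hf16 a) _ (hf16 b)).1 (Subtype.ext ?_)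
    rw [hfG, hmul a ha b hb, hmul _ (hf16 a) _ (hf16 b), Subgroup.coe_mul, Subgroup.coe_mul, hfG, hfG]
    group
  have hf0 : f 0 = 0 := helinj _ (hf16 0) _ (by norm_num) (Subtype.ext (by
    rw [hfG, hone, Subgroup.coe_one]; group))
  -- the permutation
  set π := d.rho τ with hπ
  let pv : ℕ → ℕ := pget (encP π)
  have hpv : ∀ i : Fin 28, pv i = (π i).1 := pget_encP π
  have hpvlt : ∀ i < 28, pv i < 28 := fun i hi => by
    rw [show pv i = (π ⟨i, hi⟩).1 from hpv ⟨i, hi⟩]; exact (π ⟨i, hi⟩).2
  have hpvinj : ∀ i < 28, ∀ j < 28, pv i = pv j → i = j := fun i hi j hj e => by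
    rw [show pv i = (π ⟨i, hi⟩).1 from hpv ⟨i, hi⟩, show pv j = (π ⟨j, hj⟩).1 from hpv ⟨j, hj⟩] at e
    exact congrArg Fin.val (π.injective (Fin.ext e))
  have hpoint0 : d.point ⟨0, by norm_num⟩ = Q₀ := by
    rw [d.point_lt (by norm_num : (0 : ℕ) < 27)]
    have h0 : d.lab.equiv ⟨0, by norm_num⟩ = 1 := d.lab.zero
    rw [h0, Subgroup.coe_one, one_smul]
  have hpoint27 : d.point ⟨27, by norm_num⟩ = P := d.point_last (by norm_num)
  have hp0 : pv 0 = 27 := by
    rw [show pv 0 = (π ⟨0, by norm_num⟩).1 from hpv ⟨0, by norm_num⟩,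
      d.rho_eq (j := ⟨27, by norm_num⟩) (by rw [hpoint0, hpoint27, hτ0])]
  have hp27 : pv 27 = 0 := by
    rw [show pv 27 = (π ⟨27, by norm_num⟩).1 from hpv ⟨27, by norm_num⟩,
      d.rho_eq (j := ⟨0, by norm_num⟩) (by rw [hpoint27, hpoint0, hτ])]
  have hpmid : ∀ i, 1 ≤ i → i < 27 → 1 ≤ pv i ∧ pv i < 27 := fun i h1i h2i => by
    have hlt := hpvlt i (by omega)
    refine ⟨Nat.one_le_iff_ne_zero.2 fun e => ?_, ?_⟩
    · have := hpvinj i (by omega) 27 (by norm_num) (e.trans hp27.symm); omega
    · by_contra hn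
      have := hpvinj i (by omega) 0 (by norm_num) ((show pv i = 27 by omega).trans hp0.symm)
      omega
  have hplt : ∀ a < 16, ∀ i < 28, pget (m.perm a) i < 28 := fun a ha i hi => by
    rw [← hpel a ha, show pget (encP (d.rho (el a : G))) i = _ from pget_encP _ ⟨i, hi⟩]
    exact Fin.is_lt _
  have hequi : ∀ a < 16, ∀ i < 28, pv (pget (m.perm a) i) = pget (m.perm (f a)) (pv i) := by
    intro a ha i hi
    rw [← hpel a ha, ← hpel (f a) (hf16 a), show pget (encP (d.rho (el a : G))) i = _ from pget_encP _ ⟨i, hi⟩, hpv,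
      show pv i = (π ⟨i, hi⟩).1 from hpv ⟨i, hi⟩, pget_encP, hfG, map_mul, map_mul, map_inv]
    simp [hπ]
  -- the extension
  have hext : ∀ (ss : List (ℕ × ℕ)) (done : List (ℕ × ℕ)), m.prog = done ++ ss →
      m.extend (m.gens.map f) ss (pack ((List.range (done.length + 1)).map f)) (done.length + 1) =
        pack ((List.range 16).map f) := by
    intro ss
    induction ss with
    | nil =>
      intro done hd
      rw [List.append_nil] at hd
      rw [← hd, Nat.eq_of_beq_eq_true hplen]
      rfl
    | cons s ss ih =>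
      intro done hd
      set k := done.length with hk
      have hk15 : k < 15 := by
        have hl := congrArg List.length hd
        rw [Nat.eq_of_beq_eq_true hplen, List.length_append, List.length_cons] at hl
        omega
      obtain ⟨hs1, hs2, hs3⟩ := hprog k hk15
      have hget : m.prog.getD k (0, 0) = s := by
        rw [hd, List.getD_eq_getElem?_getD, List.getElem?_append_right (by omega)]
        simp [hk]
      rw [hget] at hs1 hs2 hs3
      have hg16 : m.gens.getD s.2 0 < 16 := by
        rw [List.getD_eq_getElem?_getD, List.getElem?_eq_getElem hs2]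
        exact hgens _ (List.getElem_mem hs2)
      have hgetf : pget (pack ((List.range (k + 1)).map f)) s.1 = f s.1 := by
        rw [pget_pack _ (fun x hx => by
          obtain ⟨j, -, rfl⟩ := List.mem_map.1 hx
          have := hf16 j; omega) _ (by simp; omega), List.getD_eq_getElem?_getD]
        simp [show s.1 < k + 1 by omega]
      have him : (m.gens.map f).getD s.2 0 = f (m.gens.getD s.2 0) := by
        simp [List.getD_eq_getElem?_getD, hs2]
      show m.extend (m.gens.map f) ss (pack ((List.range (k + 1)).map f) +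
        m.tget (pget (pack ((List.range (k + 1)).map f)) s.1) ((m.gens.map f).getD s.2 0) * 32 ^ (k + 1)) (k + 1 + 1) = _
      rw [hgetf, him, ← hfmul _ (by omega) _ hg16, Nat.eq_of_beq_eq_true hs3]
      have := ih (done ++ [s]) (by rw [hd, List.append_assoc]; rfl)
      rw [List.length_append, List.length_singleton, List.range_succ, List.map_append, List.map_singleton,
        pack_append, List.length_map, List.length_range] at this
      exact this
  have himage : m.image (m.gens.map f) = pack ((List.range 16).map f) := by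
    have := hext m.prog [] rfl
    rw [show pack ((List.range (([] : List (ℕ × ℕ)).length + 1)).map f) = 0 by simp [pack, hf0]] at this
    exact this
  have hF : ∀ a < 16, pget (m.image (m.gens.map f)) a = f a := fun a ha => by
    rw [himage, pget_pack _ (fun x hx => by
      obtain ⟨j, -, rfl⟩ := List.mem_map.1 hx
      have := hf16 j; omega) _ (by simpa using ha), List.getD_eq_getElem?_getD]
    simp [ha]
  -- the search at the true images
  have hchoice : m.gens.map f ∈ choices (m.gens.map m.genOpts) := by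
    refine mem_choices (by simp) fun i hi => ?_
    rw [List.length_map] at hi
    simp only [List.getD_eq_getElem?_getD, List.getElem?_map, List.getElem?_eq_getElem hi, Option.map_some,
      Option.getD_some]
    have hg16 : m.gens[i] < 16 := hgens _ (List.getElem_mem hi)
    rw [Model.genOpts, List.mem_filter, range16]
    refine ⟨List.mem_range.2 (hf16 _), ?_⟩
    have hz : ∀ a < 16, Nat.beq a 0 = Nat.beq (f a) 0 := fun a ha => by
      refine Bool.eq_iff_iff.2 ⟨fun e => ?_, fun e => ?_⟩
      · rw [Nat.eq_of_beq_eq_true e, hf0]; rfl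
      · have := hfinj a ha 0 (by norm_num) ((Nat.eq_of_beq_eq_true e).trans hf0.symm)
        rw [this]; rfl
    have hsq := (htbl _ hg16 _ hg16).1
    rw [Model.powEq, hz _ hsq, hz _ (htbl _ hsq _ hsq).1, hfmul _ hsq _ hsq, hfmul _ hg16 _ hg16]
    simp
  have hat := List.all_eq_true.1 hsearch _ hchoice
  simp only [Model.searchAt, Bool.or_eq_true, Bool.not_eq_true'] at hat
  have hauto : m.autOk (m.gens.map f) (m.image (m.gens.map f)) = true := by
    simp only [Model.autOk, List.all_eq_true, range16, List.mem_range]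
    intro g hg a ha
    have hgz : g.2 = f g.1 ∧ g.1 ∈ m.gens := by
      obtain ⟨i, hi, e⟩ := List.getElem_of_mem hg
      rw [List.getElem_zip] at e
      rw [← e]
      simp only [List.getElem_map, true_and]
      exact List.getElem_mem _
    have hg16 : g.1 < 16 := hgens _ hgz.2
    rw [hF _ (htbl a ha _ hg16).1, hF a ha, hgz.1, hfmul a ha _ hg16]
    simp
  have hinjOk : Model.injOk (m.image (m.gens.map f)) = true := by
    rw [Model.injOk, range16]
    have e : (List.range 16).foldl (fun acc a => acc + 2 ^ pget (m.image (m.gens.map f)) a) 0 =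
        ((List.range 16).map f).foldl (fun acc a => acc + 2 ^ a) 0 := by
      rw [List.foldl_map]
      exact List.foldl_ext _ _ _ fun acc a ha => by rw [hF a (List.mem_range.1 ha)]
    rw [e, sum_eq_of_perm 16 f (fun a _ => hf16 a) hfinj]
    decide +kernel
  rw [hauto, hinjOk] at hat
  replace hat := (hat.resolve_left (by simp))
  -- the images of the representatives
  have hopts : ∀ r, 1 ≤ r ∧ r < 27 → pv r ∈ m.opts (m.image (m.gens.map f)) r := by
    intro r hr
    rw [Model.opts, List.mem_filter, List.all_eq_true, range16]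
    have hm := hpmid r hr.1 hr.2
    refine ⟨by rw [List.mem_range'_1]; omega, fun a ha => ?_⟩
    rw [List.mem_range] at ha
    rw [hF a ha, ← hequi a ha r (by omega)]
    refine beq_iff_eq.2 (Bool.eq_iff_iff.2 ⟨fun e => ?_, fun e => ?_⟩)
    · rw [Nat.eq_of_beq_eq_true e]; simp
    · rw [hpvinj _ (hplt a ha r (by omega)) r (by omega) (Nat.eq_of_beq_eq_true e)]; simp
  have hsel : ∀ (rs done : List ℕ), m.reps = done ++ rs →
      m.selOk (m.image (m.gens.map f)) rs (done.map pv) = true →
      m.candOk (m.build (m.image (m.gens.map f)) (m.reps.map pv)) = true := by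
    intro rs
    induction rs with
    | nil =>
      intro done hd hh
      rw [List.append_nil] at hd
      rw [hd]
      exact hh
    | cons r rs ih =>
      intro done hd hh
      have hr : 1 ≤ r ∧ r < 27 := hreps r (by rw [hd]; simp)
      simp only [Model.selOk, List.all_eq_true, Bool.or_eq_true] at hh
      have hmem := hopts r hr
      rcases hh _ hmem with hu | hrest
      · exfalso
        simp only [Model.used, List.any_eq_true, List.mem_map, range16, List.mem_range] at hu
        obtain ⟨_, ⟨r', hr', rfl⟩, b, hb, hbe⟩ := hu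
        have hbij : ∃ a < 16, f a = b := by
          have hperm' : ((List.range 16).map f).Perm (List.range 16) :=
            (List.subperm_of_subset
              (List.Nodup.map_on (fun a ha b hb e => hfinj a (List.mem_range.1 ha) b (List.mem_range.1 hb) e) List.nodup_range)
              (fun x hx => by
                obtain ⟨a, -, rfl⟩ := List.mem_map.1 hx
                exact List.mem_range.2 (hf16 a))).perm_of_length_le (by simp)
          obtain ⟨a, ha, e⟩ := List.mem_map.1 (hperm'.mem_iff.2 (List.mem_range.2 hb))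
          exact ⟨a, List.mem_range.1 ha, e⟩
        obtain ⟨a, ha, rfl⟩ := hbij
        have hr'27 : 1 ≤ r' ∧ r' < 27 := hreps r' (by rw [hd]; simp [hr'])
        have e := Nat.eq_of_beq_eq_true hbe
        rw [← hequi a ha r' (by omega)] at e
        have e' := hpvinj _ (hplt a ha r' (by omega)) r (by omega) e
        obtain ⟨i, hi, hie⟩ := List.getElem_of_mem hr'
        have hs := hsep done.length (by rw [hd]; simp) i hi a ha
        have hgi : m.reps.getD i 0 = r' := by
          rw [hd, List.getD_eq_getElem?_getD, List.getElem?_append_left hi, List.getElem?_eq_getElem hi, hie]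
          rfl
        have hgj : m.reps.getD done.length 0 = r := by
          rw [hd, List.getD_eq_getElem?_getD, List.getElem?_append_right le_rfl]
          simp
        rw [hgi, hgj, e'] at hs
        simp at hs
      · refine ih (done ++ [r]) (by rw [hd, List.append_assoc]; rfl) ?_
        rw [List.map_append, List.map_singleton]
        exact hrest
  have hcand : m.candOk (m.build (m.image (m.gens.map f)) (m.reps.map pv)) = true := by
    rcases hrs : m.reps with _ | ⟨r, rs⟩
    · simp [Model.selStart, hrs] at hat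
    simp only [Model.selStart, hrs, List.all_eq_true, List.mem_filter, List.any_eq_true, and_imp] at hat
    rw [hrs, List.getD_cons_zero] at hfirst
    have hr : 1 ≤ r ∧ r < 27 := hreps r (by rw [hrs]; exact List.mem_cons_self)
    rw [← hrs]
    refine hsel rs [r] (by rw [hrs]; rfl) (hat (pv r) (hopts r hr) ⟨pv r, hfirst, ?_⟩)
    simp
  have hcl : m.coord.length = 26 := Nat.eq_of_beq_eq_true hclen
  have hbuild : m.build (m.image (m.gens.map f)) (m.reps.map pv) = (List.range 28).map pv := by
    have hmid : m.coord.map (fun c => pget (m.perm (pget (m.image (m.gens.map f)) c.1)) ((m.reps.map pv).getD c.2 0)) =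
        (List.range 26).map fun k => pv (k + 1) := by
      refine List.ext_getElem (by simp [hcl]) fun k hk1 hk2 => ?_
      rw [List.length_map, List.length_range] at hk2
      obtain ⟨hc1, hc2, hc3⟩ := hcoord k hk2
      have hck : m.coord.getD k (0, 0) = m.coord[k]'(by omega) := by
        rw [List.getD_eq_getElem?_getD, List.getElem?_eq_getElem (by omega)]; rfl
      rw [hck] at hc1 hc2 hc3
      rw [List.getElem_map, List.getElem_map, List.getElem_range, ← Nat.eq_of_beq_eq_true hc3, hF _ hc1]
      rw [List.getD_eq_getElem?_getD (l := m.reps), List.getElem?_eq_getElem hc2, Option.getD_some]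
      rw [List.getD_eq_getElem?_getD, List.getElem?_map, List.getElem?_eq_getElem hc2, Option.map_some, Option.getD_some]
      exact (hequi _ hc1 _ (by have := hreps _ (List.getElem_mem hc2); omega)).symm
    rw [Model.build, hmid, show (List.range 28) = 0 :: ((List.range 26).map (· + 1)) ++ [27] by decide,
      List.map_append, List.map_cons, List.map_map, List.map_singleton, hp0, hp27]
    rfl
  have hpack : pack ((List.range 28).map pv) = encP π := by
    rw [encP]
    congr 1
    refine List.map_congr_left fun i hi => ?_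
    rw [List.mem_range] at hi
    rw [dif_pos hi]
    exact hpv ⟨i, hi⟩
  rw [hbuild] at hcand
  simp only [Model.candOk, hpack, Bool.or_eq_true, Bool.not_eq_true', List.contains_iff_mem] at hcand
  have hP : Model.permOk ((List.range 28).map pv) = true := by
    rw [Model.permOk, sum_eq_of_perm 28 pv hpvlt hpvinj]
    decide +kernel
  have hinTp : ∀ x y z : ℕ, (∃ t : T, pget (encP (d.rho (t : G))) 1 = x ∧ pget (encP (d.rho (t : G))) 3 = y ∧
      pget (encP (d.rho (t : G))) 9 = z) → m.inTp x y z = true := by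
    rintro x y z ⟨t, hx, hy, hz⟩
    simp only [Model.inTp, List.any_eq_true, Bool.and_eq_true]
    exact ⟨_, d.rho_compl t ▸ h1 t, by rw [hx]; simp, by rw [hy]; simp, by rw [hz]; simp⟩
  have hsquare : m.squareOk (encP π) = true := by
    refine hinTp _ _ _ ⟨⟨τ * τ, d.mem_compl (by rw [mul_smul, hτ, hτ0]) (by rw [mul_smul, hτ0, hτ])⟩, ?_⟩
    have key : ∀ i : Fin 28, pget (encP (d.rho (τ * τ))) i = pget (encP π) (pget (encP π) i) := fun i => by
      rw [pget_encP, pget_encP, pget_encP, map_mul]
      rfl
    exact ⟨key 1, key 3, key 9⟩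
  have hword : ∀ g, 1 ≤ g → g < 27 → m.wordOk (encP π) g = true := fun g hg1 hg2 =>
    d.word_ok htw h1 hp27 hp0 hg2 (hpmid g hg1 hg2).2
  rw [hP, hsquare, hword 1 le_rfl (by norm_num), hword 10 (by norm_num) (by norm_num)] at hcand
  simpa using hcand

/-- A swap may be chosen to send the first representative to a representative. -/
theorem Pts.exists_first_swap {m : Model} (hok : m.dataOk = true) (d : Pts h P Q₀ T m.twist)
    (h2 : ∀ n ∈ m.tp, ∃ t, enc (d.lab.theta d.compl t) = n) :
    ∃ τ : G, τ • P = Q₀ ∧ τ • Q₀ = P ∧ pget (encP (d.rho τ)) (m.reps.getD 0 0) ∈ m.reps := by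
  simp only [Model.dataOk, Bool.and_eq_true, decide_eq_true_eq, List.all_eq_true, List.mem_range,
    Bool.not_eq_true'] at hok
  obtain ⟨-, hlen, -, -, -, -, -, -, hreps, -, hclen, hcoord⟩ := hok
  obtain ⟨τ, hτ, hτ0⟩ := d.exists_swap
  have hlen' : m.tp.length = 16 := Nat.eq_of_beq_eq_true hlen
  have hcl : m.coord.length = 26 := Nat.eq_of_beq_eq_true hclen
  have hrne : 0 < m.reps.length := by
    obtain ⟨-, hc2, -⟩ := hcoord 0 (by norm_num)
    omega
  have hr : 1 ≤ m.reps.getD 0 0 ∧ m.reps.getD 0 0 < 27 := by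
    rw [List.getD_eq_getElem?_getD, List.getElem?_eq_getElem hrne]
    exact hreps _ (List.getElem_mem hrne)
  set r := m.reps.getD 0 0 with hrdef
  set i : Fin 28 := ⟨r, by omega⟩ with hi
  have hp : d.point i ≠ P := d.point_ne (show i.1 < 27 from hr.2)
  have hp0 : d.point i ≠ Q₀ := fun e => by
    have e' : d.point i = d.point ⟨0, by norm_num⟩ := by
      rw [e, d.point_lt (i := (⟨0, by norm_num⟩ : Fin 28)) (by norm_num)]
      have h0 : d.lab.equiv ⟨0, by norm_num⟩ = 1 := d.lab.zero
      rw [h0, Subgroup.coe_one, one_smul]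
    have := congrArg Fin.val (d.point_bijective.1 e')
    simp only [hi] at this
    omega
  -- the image of the representative is neither base point
  have hy : (d.rho τ i).1 < 27 ∧ 1 ≤ (d.rho τ i).1 := by
    have e := d.point_rho τ i
    constructor
    · by_contra hn
      rw [d.point_last hn] at e
      exact hp0 (smul_left_cancel τ (e.symm.trans hτ0.symm))
    · by_contra hn
      have e0 : d.rho τ i = ⟨0, by norm_num⟩ := Fin.ext (by show (d.rho τ i).1 = 0; omega)
      rw [e0, d.point_lt (i := (⟨0, by norm_num⟩ : Fin 28)) (by norm_num)] at e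
      have h0 : d.lab.equiv ⟨0, by norm_num⟩ = 1 := d.lab.zero
      rw [h0, Subgroup.coe_one, one_smul] at e
      exact hp (smul_left_cancel τ (e.symm.trans hτ.symm))
  obtain ⟨hc1, hc2, hc3⟩ := hcoord ((d.rho τ i).1 - 1) (by omega)
  set a := (m.coord.getD ((d.rho τ i).1 - 1) (0, 0)).1
  set r' := m.reps.getD (m.coord.getD ((d.rho τ i).1 - 1) (0, 0)).2 0 with hr'
  have hr'mem : r' ∈ m.reps := by
    rw [hr', List.getD_eq_getElem?_getD, List.getElem?_eq_getElem hc2]
    exact List.getElem_mem hc2
  obtain ⟨t, ht⟩ := h2 (m.perm a) (by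
    rw [Model.perm, List.getD_eq_getElem?_getD, List.getElem?_eq_getElem (by omega)]
    exact List.getElem_mem _)
  have hti : ∀ X : Sylow 3 G, (t : G) • X = X → (t : G)⁻¹ • X = X := fun X e => inv_smul_eq_iff.2 e.symm
  refine ⟨(t : G)⁻¹ * τ, by rw [mul_smul, hτ, hti _ (d.fix t t.2)],
    by rw [mul_smul, hτ0, hti _ (Sylow.smul_eq_iff_mem_normalizer.2 (d.compl.le t.2))], ?_⟩
  have h' := hreps r' hr'mem
  have et : d.rho (t : G) ⟨r', by omega⟩ = d.rho τ i := by
    refine Fin.ext ?_
    rw [← pget_encP, d.rho_compl, ht]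
    have := Nat.eq_of_beq_eq_true hc3
    show pget (m.perm a) r' = _
    omega
  have e2 : d.rho ((t : G)⁻¹ * τ) i = ⟨r', by omega⟩ := by
    rw [map_mul, Equiv.Perm.mul_apply, ← et, ← Equiv.Perm.mul_apply, ← map_mul, inv_mul_cancel, map_one,
      Equiv.Perm.one_apply]
  rw [show pget (encP (d.rho ((t : G)⁻¹ * τ))) r = _ from pget_encP _ i, e2]
  exact hr'mem

/-- The range of the representation is generated by the translations, the complement and one swap. -/
theorem Pts.range_eq {m : Model} (d : Pts h P Q₀ T m.twist)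
    (h1 : ∀ t, enc (d.lab.theta d.compl t) ∈ m.tp) (h2 : ∀ n ∈ m.tp, ∃ t, enc (d.lab.theta d.compl t) = n)
    {τ : G} (hτ : τ • P = Q₀) (t : T) {s0 : ℕ} (hs0 : encP (d.rho (τ * (t : G))) = s0) :
    d.rho.range = Subgroup.closure {σ | encP σ ∈ (List.range 27).map (trp m.twist) ++ m.tp ++ [s0]} := by
  refine le_antisymm ?_ ((Subgroup.closure_le _).2 fun σ hσ => ?_)
  · set U := Subgroup.closure {σ | encP σ ∈ (List.range 27).map (trp m.twist) ++ m.tp ++ [s0]} with hU
    have htr : ∀ c : Fin 27, d.rho ((d.lab.equiv c : (P : Subgroup G)) : G) ∈ U := fun c =>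
      Subgroup.subset_closure (List.mem_append_left _ (List.mem_append_left _
        (List.mem_map.2 ⟨c.1, List.mem_range.2 c.2, (d.rho_trans c).symm⟩)))
    have hT : ∀ s : T, d.rho (s : G) ∈ U := fun s =>
      Subgroup.subset_closure (List.mem_append_left _ (List.mem_append_right _ (d.rho_compl s ▸ h1 s)))
    have hN : ∀ k : G, k • P = P → d.rho k ∈ U := fun k hk => by
      obtain ⟨c, s, rfl⟩ := d.exists_dec hk
      rw [map_mul]
      exact mul_mem (htr c) (hT s)
    have hτmem : d.rho τ ∈ U := by
      have h3 : d.rho (τ * (t : G)) ∈ U :=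
        Subgroup.subset_closure (List.mem_append_right _ (List.mem_singleton.2 hs0))
      simpa using mul_mem h3 (inv_mem (hT t))
    rintro _ ⟨g, rfl⟩
    by_cases hg : g • P = P
    · exact hN g hg
    obtain ⟨x, hx, hx'⟩ := h.transitive d.n28 d.ne (R := g • P) hg
    have hfix : ((x * τ)⁻¹ * g) • P = P := by
      rw [mul_smul, inv_smul_eq_iff, mul_smul, hτ, hx']
    have := mul_mem (mul_mem (hN x (Sylow.smul_eq_iff_mem_normalizer.2 (le_normalizer hx))) hτmem) (hN _ hfix)
    rwa [← map_mul, ← map_mul, mul_inv_cancel_left] at this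
  · simp only [Set.mem_setOf_eq, List.mem_append, List.mem_map, List.mem_range, List.mem_singleton] at hσ
    rcases hσ with (⟨c, hc, hce⟩ | hσ) | hσ
    · exact ⟨(d.lab.equiv ⟨c, hc⟩ : (P : Subgroup G)), encP_injective ((d.rho_trans ⟨c, hc⟩).trans hce)⟩
    · obtain ⟨s, hs'⟩ := h2 _ hσ
      exact ⟨s, encP_injective ((d.rho_compl s).trans hs')⟩
    · exact ⟨τ * (t : G), encP_injective (hs0.trans hσ.symm)⟩

theorem Pts.exists_shift {m : Model} (d : Pts h P Q₀ T m.twist) (hlen : m.tp.length = 16)
    (h2 : ∀ n ∈ m.tp, ∃ t, enc (d.lab.theta d.compl t) = n) {τ : G} (hs : encP (d.rho τ) ∈ m.surv) {s0 : ℕ}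
    (hcoset : m.surv.all (fun s => (List.range 16).any fun a => Nat.beq (pmul s (m.perm a)) s0) = true) :
    ∃ t : T, encP (d.rho (τ * (t : G))) = s0 := by
  obtain ⟨a, ha, hae⟩ := List.any_eq_true.1 (List.all_eq_true.1 hcoset _ hs)
  rw [List.mem_range] at ha
  obtain ⟨t, ht⟩ := h2 (m.perm a) (by
    rw [Model.perm, List.getD_eq_getElem?_getD, List.getElem?_eq_getElem (by omega)]
    exact List.getElem_mem _)
  refine ⟨t, ?_⟩
  rw [← Nat.eq_of_beq_eq_true hae, map_mul, ← pmul_encP, d.rho_compl t, ht]

/-- **Every such group is the model.** -/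
theorem Hyp.equiv_model (h : Hyp G) : Nonempty (G ≃* Subgroup.closure modelSet) := by
  classical
  obtain ⟨P, Q₀, T, m, hm, d, h1, h2⟩ := Pts.exists_pts h
  have hmem : m ∈ modelH :: abelModels := by
    rcases hm with rfl | hm
    · exact List.mem_cons_self
    · exact List.mem_cons_of_mem _ hm
  obtain ⟨τ, hτ, hτ0, hfirst⟩ := d.exists_first_swap (dataOk_all m hmem) h2
  have hs := d.swap_mem_surv (dataOk_all m hmem) (search_all m hmem) h1 h2 hτ hτ0 hfirst
  rcases hm with rfl | hm
  swap
  · rw [abel_surv m hm] at hs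
    exact absurd hs (by simp)
  obtain ⟨t, ht⟩ := d.exists_shift (show modelH.tp.length = 16 from rfl) h2 hs surv_coset
  have hrange : d.rho.range = Subgroup.closure modelSet := d.range_eq h1 h2 hτ t ht
  exact ⟨(MonoidHom.ofInjective d.rho_injective).trans (MulEquiv.subgroupCongr hrange)⟩

end Cfsg.Lib.Recog.G2Two
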