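import Cfsg.Agent.Lib.Recog.G2Two.Planes
import Mathlib.Data.Finset.Powerset

/-!
# Intersections when the Sylow `3`-subgroup is abelian
-/

set_option autoImplicit false
set_option linter.style.haveILetI false
set_option linter.unusedSectionVars false

namespace Cfsg.Lib.Recog.G2Two

open Subgroup MulAction Pointwise

universe u

variable {G : Type u} [Group G] [Finite G] [Fact (Nat.Prime 3)]

local notation "N(" P ")" => normalizer ((P : Subgroup G) : Set G)

theorem sylow_comm {P : Sylow 3 G} (hab : ∀ x ∈ (P : Subgroup G), ∀ y ∈ (P : Subgroup G), x * y = y * x)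
    (Q : Sylow 3 G) : ∀ x ∈ (Q : Subgroup G), ∀ y ∈ (Q : Subgroup G), x * y = y * x := by
  obtain ⟨g, rfl⟩ := MulAction.exists_smul_eq G P Q
  rw [Sylow.coe_subgroup_smul]
  rintro _ ⟨a, ha, rfl⟩ _ ⟨b, hb, rfl⟩
  show MulAut.conj g a * MulAut.conj g b = MulAut.conj g b * MulAut.conj g a
  rw [← map_mul, ← map_mul, hab a ha b hb]

/-- The number of the other Sylow subgroups through a line. -/
theorem Hyp.line (h : Hyp G) {P : Sylow 3 G} (hab : ∀ x ∈ (P : Subgroup G), ∀ y ∈ (P : Subgroup G), x * y = y * x)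
    {L : Subgroup G} (hLP : L ≤ (P : Subgroup G)) (hL : Nat.card L = 3) [DecidablePred fun D : Subgroup G => L ≤ D] :
    Nat.card (fib P L) + ∑ D ∈ (planes P).filter (fun D => L ≤ D), Nat.card (fib P D) ∈ ({0, 3, 15} : Finset ℕ) := by
  classical
  have hiff : ∀ Q : Sylow 3 G, (Q : Subgroup G) ≤ normalizer (L : Set G) ↔ L ≤ (Q : Subgroup G) := fun Q => by
    refine ⟨fun hQ => le_of_normal_le (IsPGroup.of_card (n := 1) (by rw [hL]; norm_num)) hQ, fun hQ g hg => ?_⟩
    refine mem_normalizer_iff.2 fun y => ⟨fun hy => ?_, fun hy => ?_⟩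
    · rwa [show g * y * g⁻¹ = y by rw [sylow_comm hab Q g hg y (hQ hy), mul_inv_cancel_right]]
    · have e : g⁻¹ * (g * y * g⁻¹) = (g * y * g⁻¹) * g⁻¹ := sylow_comm hab Q _ (inv_mem hg) _ (hQ hy)
      have e2 : y = g * y * g⁻¹ := by
        have := congrArg (fun w => w * g) e
        simp only [← mul_assoc, inv_mul_cancel_right, inv_mul_cancel, one_mul] at this
        exact this
      rw [e2]; exact hy
  obtain ⟨hn, -, -⟩ := h.loc P one_ne_zero (hL.trans (pow_one 3).symm) le_rfl ((hiff P).2 hLP)
  rw [← card_sylow_le (normalizer (L : Set G)) P ((hiff P).2 hLP),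
    Nat.card_congr (Equiv.subtypeEquivRight hiff), card_containing P hLP] at hn
  suffices e : Nat.card {Q : Sylow 3 G // Q ≠ P ∧ L ≤ (Q : Subgroup G)} =
      Nat.card (fib P L) + ∑ D ∈ (planes P).filter (fun D => L ≤ D), Nat.card (fib P D) by
    rw [e] at hn
    simp only [Finset.mem_insert, Finset.mem_singleton] at hn ⊢
    omega
  let F := (planes P).filter (fun D => L ≤ D)
  have hnot : ∀ D ∈ F, D ≠ L := fun D hD e => by
    have := (mem_planes.1 (Finset.mem_filter.1 hD).1).2.1
    rw [e, hL] at this; omega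
  rw [← Finset.sum_insert (f := fun D => Nat.card (fib P D)) (s := F) (a := L) (fun hm => hnot L hm rfl)]
  let e : (Σ D : {D // D ∈ insert L F}, fib P D.1) ≃ {Q : Sylow 3 G // Q ≠ P ∧ L ≤ (Q : Subgroup G)} :=
    { toFun := fun x => ⟨x.2.1, x.2.2.1, by
        have hLD : L ≤ x.1.1 := by
          rcases Finset.mem_insert.1 x.1.2 with hx | hx
          · exact hx.ge
          · exact (Finset.mem_filter.1 hx).2
        exact hLD.trans (x.2.2.2.symm.le.trans inf_le_right)⟩
      invFun := fun Q => ⟨⟨(P : Subgroup G) ⊓ (Q.1 : Subgroup G), by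
        have hle : L ≤ (P : Subgroup G) ⊓ (Q.1 : Subgroup G) := le_inf hLP Q.2.2
        have hc := h.card_inter Q.2.1
        simp only [Finset.mem_insert, Finset.mem_singleton] at hc
        have hge := card_le_of_le hle
        rw [hL] at hge
        rcases hc with hc | hc | hc
        · omega
        · exact Finset.mem_insert.2 (Or.inl (eq_of_le_of_card_ge hle (by rw [hc, hL])).symm)
        · exact Finset.mem_insert.2 (Or.inr (Finset.mem_filter.2
            ⟨mem_planes.2 ⟨inf_le_left, hc, ⟨⟨Q.1, Q.2.1, rfl⟩⟩⟩, hle⟩))⟩, ⟨Q.1, Q.2.1, rfl⟩⟩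
      left_inv := by
        rintro ⟨⟨D, hD⟩, ⟨Q, hQ, (hQD : (P : Subgroup G) ⊓ (Q : Subgroup G) = D)⟩⟩
        cases hQD
        rfl
      right_inv := fun Q => rfl }
  rw [← Nat.card_congr e, Nat.card_sigma]
  exact Finset.sum_coe_sort (insert L F) fun D => Nat.card (fib P D)

theorem card_inf_planes (h : Hyp G) {P : Sylow 3 G} {D E : Subgroup G} (hD : D ∈ planes P) (hE : E ∈ planes P)
    (hne : D ≠ E) : Nat.card ↥(D ⊓ E) = 3 := by
  obtain ⟨hDP, hD9, -⟩ := mem_planes.1 hD
  obtain ⟨hEP, hE9, -⟩ := mem_planes.1 hE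
  have hd : Nat.card ↥(D ⊓ E) ∣ 3 ^ 2 := by simpa [hD9] using card_dvd_of_le (inf_le_left : D ⊓ E ≤ D)
  obtain ⟨i, hi, he⟩ := (Nat.dvd_prime_pow Nat.prime_three).1 hd
  have h2 : i ≠ 2 := by
    rintro rfl
    refine hne ?_
    rw [← eq_of_le_of_card_ge (inf_le_left : D ⊓ E ≤ D) (by rw [hD9, he]; norm_num),
      eq_of_le_of_card_ge (inf_le_right : D ⊓ E ≤ E) (by rw [hE9, he]; norm_num)]
  have h0 : i ≠ 0 := by
    rintro rfl
    let f : D × E → (P : Subgroup G) := fun p => ⟨p.1.1 * p.2.1, mul_mem (hDP p.1.2) (hEP p.2.2)⟩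
    have hf : Function.Injective f := fun p q e =>
      mul_injective_of_disjoint (disjoint_iff.2 (eq_bot_of_card_eq _ (by rw [he]; norm_num))) (congrArg Subtype.val e)
    have := Nat.card_le_card_of_injective f hf
    rw [Nat.card_prod, hD9, hE9, h.card_three] at this
    omega
  rw [he]
  interval_cases i <;> simp_all

/-- **The abelian case**: the intersections are trivial, or `n = 112` and there is exactly one plane. -/
theorem Hyp.abelian (h : Hyp G) {P : Sylow 3 G} (hab : ∀ x ∈ (P : Subgroup G), ∀ y ∈ (P : Subgroup G), x * y = y * x) :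
    (Nat.card (Sylow 3 G) = 28 → ∀ Q : Sylow 3 G, Q ≠ P → (P : Subgroup G) ⊓ (Q : Subgroup G) = ⊥) ∧
    (Nat.card (Sylow 3 G) = 112 → ∃ D, planes P = {D} ∧ Nat.card (fib P D) = 3 ∧
      ∀ Q : Sylow 3 G, Q ≠ P → (P : Subgroup G) ⊓ (Q : Subgroup G) = D ∨ (P : Subgroup G) ⊓ (Q : Subgroup G) = ⊥) := by
  classical
  have hsplit := h.card_split P
  have h1 : 27 ∣ Nat.card (meetCard P 1) := by simpa using h.meetCard_dvd P 1
  have h3 : 9 ∣ Nat.card (meetCard P 3) := by simpa using h.meetCard_dvd P 3
  have hf : ∀ D ∈ planes P, Nat.card (fib P D) = 3 ∨ Nat.card (fib P D) = 15 := by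
    intro D hD
    obtain ⟨hDP, hD9, hne⟩ := mem_planes.1 hD
    have e := h.plane_fib P hDP hD9
    obtain ⟨hn, -, -⟩ := h.loc P (j := 2) (by norm_num) (hD9.trans (by norm_num)) le_rfl (h.plane hDP hD9).1
    rw [← e] at hn
    have hpos : 0 < Nat.card (fib P D) := Nat.card_pos
    simp only [Finset.mem_insert, Finset.mem_singleton] at hn
    omega
  have hsingle : ∀ D ∈ planes P, Nat.card (fib P D) = 15 → planes P = {D} := by
    intro D hD h15
    refine Finset.eq_singleton_iff_unique_mem.2 ⟨hD, fun E hE => ?_⟩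
    by_contra hne
    have hL := card_inf_planes h hE hD hne
    have hl := h.line hab ((inf_le_left : E ⊓ D ≤ E).trans (mem_planes.1 hE).1) hL
    have hle : ({E, D} : Finset (Subgroup G)) ⊆ (planes P).filter fun X => E ⊓ D ≤ X := by
      intro X hX
      simp only [Finset.mem_insert, Finset.mem_singleton] at hX
      rcases hX with rfl | rfl
      · exact Finset.mem_filter.2 ⟨hE, inf_le_left⟩
      · exact Finset.mem_filter.2 ⟨hD, inf_le_right⟩
    have := Finset.sum_le_sum_of_subset (f := fun X => Nat.card (fib P X)) hle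
    rw [Finset.sum_pair hne, h15] at this
    have := hf E hE
    simp only [Finset.mem_insert, Finset.mem_singleton] at hl
    omega
  have hn2 : Nat.card (Sylow 3 G) = 28 ∨ Nat.card (Sylow 3 G) = 112 → ∀ D ∈ planes P, Nat.card (fib P D) = 3 := by
    intro hn D hD
    refine (hf D hD).resolve_right fun h15 => ?_
    have e := card_meet_nine P
    rw [hsingle D hD h15, Finset.sum_singleton, h15] at e
    obtain ⟨u, hu⟩ := h1
    obtain ⟨v, hv⟩ := h3
    rcases hn with hn | hn <;> omega
  by_cases hn : Nat.card (Sylow 3 G) = 28 ∨ Nat.card (Sylow 3 G) = 112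
  swap
  · exact ⟨fun e => absurd (Or.inl e) hn, fun e => absurd (Or.inr e) hn⟩
  have hf3 := hn2 hn
  have h9 : Nat.card (meetCard P 9) = 3 * (planes P).card := by
    rw [card_meet_nine P, Finset.sum_congr rfl hf3, Finset.sum_const, smul_eq_mul, mul_comm]
  -- the lines meeting other Sylow subgroups are the meets of two planes
  have hcases : ∀ L : Subgroup G, L ≤ (P : Subgroup G) → Nat.card L = 3 →
      (Nat.card (fib P L) = 9 ∧ ((planes P).filter fun D => L ≤ D).card = 2) ∨
        (Nat.card (fib P L) = 0 ∧ ((planes P).filter fun D => L ≤ D).card ≤ 1) := by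
    intro L hLP hL
    have hl := h.line hab hLP hL
    rw [Finset.sum_congr rfl fun D hD => hf3 D (Finset.mem_filter.1 hD).1, Finset.sum_const, smul_eq_mul] at hl
    have hnor : (P : Subgroup G) ≤ normalizer (L : Set G) := fun g hg => mem_normalizer_iff.2 fun y => by
      constructor
      · intro hy
        rwa [show g * y * g⁻¹ = y by rw [hab g hg y (hLP hy), mul_inv_cancel_right]]
      · intro hy
        have hyP : y ∈ (P : Subgroup G) := by
          have := mul_mem (mul_mem (inv_mem hg) (hLP hy)) hg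
          simpa [mul_assoc] using this
        rwa [show g * y * g⁻¹ = y by rw [hab g hg y hyP, mul_inv_cancel_right]] at hy
    have hd : 9 ∣ Nat.card (fib P L) := by
      have := fib_dvd P hLP hnor
      have e := (L.subgroupOf (P : Subgroup G)).index_mul_card
      rw [Nat.card_congr (subgroupOfEquivOfLe hLP).toEquiv, hL, h.card_three] at e
      rwa [show (L.subgroupOf (P : Subgroup G)).index = 9 by omega] at this
    have hp5 : ((planes P).filter fun D => L ≤ D).card ≤ 4 := by
      set F := (planes P).filter fun D => L ≤ D with hF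
      let f : (Σ D : {D // D ∈ F}, {x : D.1 // (x : G) ∉ L}) → {x : (P : Subgroup G) // (x : G) ∉ L} := fun a =>
        ⟨⟨a.2.1, (mem_planes.1 (Finset.mem_filter.1 a.1.2).1).1 a.2.1.2⟩, a.2.2⟩
      have hinj : Function.Injective f := by
        rintro ⟨⟨D, hD⟩, ⟨⟨x, hxD⟩, hxL⟩⟩ ⟨⟨E, hE⟩, ⟨⟨y, hyE⟩, hyL⟩⟩ e
        obtain rfl : x = y := congrArg (fun a : {x : (P : Subgroup G) // (x : G) ∉ L} => (a.1 : G)) e
        obtain rfl : D = E := by
          by_contra hne
          have hDE := card_inf_planes h (Finset.mem_filter.1 hD).1 (Finset.mem_filter.1 hE).1 hne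
          have hLeq : L = D ⊓ E := eq_of_le_of_card_ge (le_inf (Finset.mem_filter.1 hD).2 (Finset.mem_filter.1 hE).2)
            (by rw [hDE, hL])
          exact hxL (hLeq ▸ ⟨hxD, hyE⟩)
        rfl
      have hcompl : ∀ D : Subgroup G, L ≤ D → Nat.card {x : D // (x : G) ∉ L} = Nat.card D - 3 := by
        intro D hD
        letI := Fintype.ofFinite D
        rw [Nat.card_eq_fintype_card, Fintype.card_subtype_compl, ← Nat.card_eq_fintype_card,
          ← Nat.card_eq_fintype_card]
        congr 1
        rw [← hL]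
        exact Nat.card_congr (subgroupOfEquivOfLe hD).toEquiv
      have := Nat.card_le_card_of_injective f hinj
      rw [Nat.card_sigma, hcompl _ hLP, h.card_three, Finset.sum_congr rfl fun (D : {D // D ∈ F}) _ =>
        (hcompl D.1 (Finset.mem_filter.1 D.2).2).trans (by rw [(mem_planes.1 (Finset.mem_filter.1 D.2).1).2.1]),
        Finset.sum_const, Finset.card_univ, Fintype.card_coe, smul_eq_mul] at this
      omega
    simp only [Finset.mem_insert, Finset.mem_singleton] at hl
    omega
  have hm3 : Nat.card (meetCard P 3) = 9 * ((planes P).card).choose 2 := by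
    let pr : Finset (Subgroup G) → Subgroup G := fun s => s.inf id
    have hpair : ∀ s ∈ (planes P).powersetCard 2, ∃ D E, D ∈ planes P ∧ E ∈ planes P ∧ D ≠ E ∧
        s = {D, E} ∧ pr s = D ⊓ E := by
      intro s hs
      obtain ⟨hsub, hc⟩ := Finset.mem_powersetCard.1 hs
      obtain ⟨D, E, hne, rfl⟩ := Finset.card_eq_two.1 hc
      exact ⟨D, E, hsub (by simp), hsub (by simp), hne, rfl, by simp [pr]⟩
    let S := ((planes P).powersetCard 2).image pr
    have hSmem : ∀ L ∈ S, L ≤ (P : Subgroup G) ∧ Nat.card L = 3 ∧ Nat.card (fib P L) = 9 := by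
      intro L hL
      obtain ⟨s, hs, rfl⟩ := Finset.mem_image.1 hL
      obtain ⟨D, E, hD, hE, hne, rfl, hpr⟩ := hpair s hs
      rw [hpr]
      have hc := card_inf_planes h hD hE hne
      have hle : D ⊓ E ≤ (P : Subgroup G) := inf_le_left.trans (mem_planes.1 hD).1
      refine ⟨hle, hc, ((hcases _ hle hc).resolve_right fun hh => ?_).1⟩
      have h2 : ({D, E} : Finset (Subgroup G)) ⊆ (planes P).filter fun X => D ⊓ E ≤ X := by
        intro X hX
        simp only [Finset.mem_insert, Finset.mem_singleton] at hX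
        rcases hX with rfl | rfl
        · exact Finset.mem_filter.2 ⟨hD, inf_le_left⟩
        · exact Finset.mem_filter.2 ⟨hE, inf_le_right⟩
      have h2' := Finset.card_le_card h2
      rw [Finset.card_pair hne] at h2'
      have hl := h.line hab hle hc
      rw [hh.1, Finset.sum_congr rfl fun X hX => hf3 X (Finset.mem_filter.1 hX).1, Finset.sum_const,
        smul_eq_mul] at hl
      simp only [Finset.mem_insert, Finset.mem_singleton] at hl
      have := hh.2
      omega
    have hcard : S.card = (planes P).card.choose 2 := by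
      rw [← Finset.card_powersetCard]
      refine Finset.card_image_of_injOn fun s hs t ht e => ?_
      obtain ⟨D, E, hD, hE, hne, rfl, hpr⟩ := hpair s hs
      obtain ⟨D', E', hD', hE', hne', rfl, hpr'⟩ := hpair t ht
      rw [hpr, hpr'] at e
      have hle : D ⊓ E ≤ (P : Subgroup G) := inf_le_left.trans (mem_planes.1 hD).1
      have h9 := (hSmem _ (Finset.mem_image.2 ⟨_, hs, hpr⟩)).2.2
      have h2 := ((hcases _ hle (card_inf_planes h hD hE hne)).resolve_right fun hh => by omega).2
      have ha : ({D, E} : Finset (Subgroup G)) = (planes P).filter fun X => D ⊓ E ≤ X := by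
        refine Finset.eq_of_subset_of_card_le (fun X hX => ?_) (by rw [h2, Finset.card_pair hne])
        simp only [Finset.mem_insert, Finset.mem_singleton] at hX
        rcases hX with rfl | rfl
        · exact Finset.mem_filter.2 ⟨hD, inf_le_left⟩
        · exact Finset.mem_filter.2 ⟨hE, inf_le_right⟩
      rw [ha]
      refine (Finset.eq_of_subset_of_card_le (fun X hX => ?_) (by rw [h2, Finset.card_pair hne'])).symm
      simp only [Finset.mem_insert, Finset.mem_singleton] at hX
      rcases hX with rfl | rfl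
      · exact Finset.mem_filter.2 ⟨hD', e ▸ inf_le_left⟩
      · exact Finset.mem_filter.2 ⟨hE', e ▸ inf_le_right⟩
    let e : (Σ L : {L // L ∈ S}, fib P L.1) ≃ meetCard P 3 :=
      { toFun := fun x => ⟨x.2.1, x.2.2.1, by rw [x.2.2.2]; exact (hSmem _ x.1.2).2.1⟩
        invFun := fun Q => ⟨⟨(P : Subgroup G) ⊓ (Q.1 : Subgroup G), by
          set L := (P : Subgroup G) ⊓ (Q.1 : Subgroup G) with hLdef
          have hne : Nonempty (fib P L) := ⟨⟨Q.1, Q.2.1, rfl⟩⟩
          have hpos : 0 < Nat.card (fib P L) := Nat.card_pos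
          obtain ⟨-, h2⟩ := (hcases L inf_le_left Q.2.2).resolve_right fun hh => by omega
          obtain ⟨D, E, hne', hDE⟩ := Finset.card_eq_two.1 h2
          have hD : D ∈ (planes P).filter fun X => L ≤ X := by rw [hDE]; simp
          have hE : E ∈ (planes P).filter fun X => L ≤ X := by rw [hDE]; simp
          obtain ⟨hD1, hD2⟩ := Finset.mem_filter.1 hD
          obtain ⟨hE1, hE2⟩ := Finset.mem_filter.1 hE
          refine Finset.mem_image.2 ⟨{D, E}, Finset.mem_powersetCard.2 ⟨?_, Finset.card_pair hne'⟩, ?_⟩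
          · intro X hX
            simp only [Finset.mem_insert, Finset.mem_singleton] at hX
            rcases hX with rfl | rfl <;> assumption
          · have hpr : pr {D, E} = D ⊓ E := by simp [pr]
            rw [hpr]
            exact (eq_of_le_of_card_ge (le_inf hD2 hE2) (by rw [card_inf_planes h hD1 hE1 hne', Q.2.2])).symm⟩,
          ⟨Q.1, Q.2.1, rfl⟩⟩
        left_inv := by
          rintro ⟨⟨D, hD⟩, ⟨Q, hQ, (hQD : (P : Subgroup G) ⊓ (Q : Subgroup G) = D)⟩⟩
          cases hQD
          rfl
        right_inv := fun Q => rfl }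
    rw [← Nat.card_congr e, Nat.card_sigma, Finset.sum_congr rfl fun (L : {L // L ∈ S}) _ => (hSmem _ L.2).2.2,
      Finset.sum_const, Finset.card_univ, Fintype.card_coe, hcard, smul_eq_mul, mul_comm]
  have htriv : (planes P).card ≤ 1 → ∀ Q : Sylow 3 G, Q ≠ P →
      (P : Subgroup G) ⊓ (Q : Subgroup G) ∈ planes P ∨ (P : Subgroup G) ⊓ (Q : Subgroup G) = ⊥ := by
    intro hp Q hQ
    have hc := h.card_inter hQ
    simp only [Finset.mem_insert, Finset.mem_singleton] at hc
    rcases hc with hc | hc | hc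
    · exact Or.inr (eq_bot_of_card_eq _ hc)
    · exfalso
      haveI : Nonempty (meetCard P 3) := ⟨⟨Q, hQ, hc⟩⟩
      have hpos : 0 < Nat.card (meetCard P 3) := Nat.card_pos
      rw [hm3, Nat.choose_eq_zero_of_lt (by omega)] at hpos
      omega
    · exact Or.inl (mem_planes.2 ⟨inf_le_left, hc, ⟨⟨Q, hQ, rfl⟩⟩⟩)
  have hch : 2 * (planes P).card.choose 2 = (planes P).card * ((planes P).card - 1) := by
    rw [Nat.choose_two_right, Nat.mul_div_cancel' (Nat.even_mul_pred_self _).two_dvd]
  set p := (planes P).card with hp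
  refine ⟨fun e28 Q hQ => ?_, fun e112 => ?_⟩
  · have hp0 : p = 0 := by
      have hb : p ≤ 9 := by omega
      interval_cases p <;> omega
    refine (htriv (by omega) Q hQ).resolve_left fun hm => ?_
    rw [Finset.card_eq_zero.1 hp0] at hm
    exact Finset.notMem_empty _ hm
  · have hp1 : p = 1 := by
      have hb : p ≤ 37 := by omega
      interval_cases p <;> omega
    obtain ⟨D, hD⟩ := Finset.card_eq_one.1 hp1
    refine ⟨D, hD, hf3 D (by rw [hD]; exact Finset.mem_singleton_self D), fun Q hQ => ?_⟩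
    refine (htriv (by omega) Q hQ).imp_left fun hm => ?_
    rw [hD] at hm
    exact Finset.mem_singleton.1 hm

end Cfsg.Lib.Recog.G2Two
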