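import Cfsg.Agent.Lib.Core.Cores
import Cfsg.Agent.Lib.Small.SimpleOrder
import Cfsg.Agent.S0976
import Cfsg.Agent.S0983
import Mathlib.GroupTheory.Perm.Cycle.Type
import Cfsg.Prelude.Def_Transfer

/-!
# Groups of order `12096` without elements of order `9`, `14` and `21`

The hypotheses under which `G₂(2)` is recognised, and their first consequences: the subgroups of order prime to `7`
have order at most `864`, and there is no proper factor group of order a power of `3`.
-/

set_option autoImplicit false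
set_option linter.style.haveILetI false

namespace Cfsg.Lib.Recog.G2Two

universe u

/-- The hypotheses on the group to be recognised. -/
structure Hyp (G : Type u) [Group G] : Prop where
  card : Nat.card G = 12096
  no9 : ∀ g : G, orderOf g ≠ 9
  no14 : ∀ g : G, orderOf g ≠ 14
  no21 : ∀ g : G, orderOf g ≠ 21
  has12 : ∃ g : G, orderOf g = 12

variable {G : Type u} [Group G]

theorem Hyp.finite (h : Hyp G) : Finite G :=
  Nat.finite_of_card_ne_zero (by rw [h.card]; norm_num)

theorem prime_seven : Nat.Prime 7 := by norm_num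

/-- The order of a Sylow subgroup. -/
theorem card_syl [Finite G] {p : ℕ} [Fact p.Prime] (a m : ℕ) (hc : Nat.card G = p ^ a * m) (hm : ¬ p ∣ m)
    (S : Sylow p G) : Nat.card (S : Subgroup G) = p ^ a :=
  Cfsg.Lib.Small.card_sylow a m hc hm S

/-- A subgroup generated by a set closed under conjugation is normal. -/
theorem closure_normal {s : Set G} (hs : ∀ g : G, ∀ x ∈ s, g * x * g⁻¹ ∈ s) : (Subgroup.closure s).Normal := by
  refine ⟨fun x hx g => ?_⟩
  induction hx using Subgroup.closure_induction with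
  | mem y hy => exact Subgroup.subset_closure (hs g y hy)
  | one => rw [mul_one, mul_inv_cancel]; exact one_mem _
  | mul y z _ _ h1 h2 => rw [show g * (y * z) * g⁻¹ = g * y * g⁻¹ * (g * z * g⁻¹) by group]; exact mul_mem h1 h2
  | inv y _ h1 => rw [show g * y⁻¹ * g⁻¹ = (g * y * g⁻¹)⁻¹ by group]; exact inv_mem h1

/-- A nontrivial element of order prime to `7` has a power of order `2` or `3`. -/
theorem Hyp.exists_power (h : Hyp G) {x : G} (hx : x ≠ 1) (h7 : ¬ 7 ∣ orderOf x) :
    ∃ q k : ℕ, (q = 2 ∨ q = 3) ∧ orderOf (x ^ k) = q := by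
  haveI := h.finite
  obtain ⟨q, hq, hqd⟩ := Nat.exists_prime_and_dvd (mt orderOf_eq_one_iff.1 hx)
  have hq' : q ∣ 2 ^ 6 * (3 ^ 3 * 7) := by
    have := hqd.trans (orderOf_dvd_natCard x)
    rwa [h.card] at this
  refine ⟨q, orderOf x / q, ?_, orderOf_pow_orderOf_div (orderOf_pos x).ne' hqd⟩
  rcases hq.dvd_mul.1 hq' with h2 | h37
  · exact Or.inl ((Nat.prime_dvd_prime_iff_eq hq Nat.prime_two).1 (hq.dvd_of_dvd_pow h2))
  rcases hq.dvd_mul.1 h37 with h3 | h7'
  · exact Or.inr ((Nat.prime_dvd_prime_iff_eq hq Nat.prime_three).1 (hq.dvd_of_dvd_pow h3))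
  · exact absurd hqd (((Nat.prime_dvd_prime_iff_eq hq prime_seven).1 h7') ▸ h7)

/-- An element of order `7` commutes only with its powers among the elements of order prime to `7`. -/
theorem Hyp.eq_one_of_commute_seven (h : Hyp G) {x y : G} (hy : orderOf y = 7) (h7 : ¬ 7 ∣ orderOf x)
    (hxy : Commute x y) : x = 1 := by
  by_contra hx
  obtain ⟨q, k, hq, hk⟩ := h.exists_power hx h7
  have ho := (hxy.pow_left k).orderOf_mul_eq_mul_orderOf_of_coprime (by
    rw [hk, hy]; rcases hq with rfl | rfl <;> norm_num)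
  rw [hk, hy] at ho
  rcases hq with rfl | rfl
  · exact h.no14 _ ho
  · exact h.no21 _ ho

/-- An element of order `7` normalising a subgroup of order prime to `7` fixes only one of its elements. -/
theorem Hyp.card_mod_seven (h : Hyp G) {y : G} (hy : orderOf y = 7) {R : Subgroup G}
    (h7 : ¬ 7 ∣ Nat.card R) (hR : y ∈ Subgroup.normalizer (R : Set G)) : Nat.card R % 7 = 1 := by
  classical
  haveI := h.finite
  haveI : Fact (Nat.Prime 7) := ⟨prime_seven⟩
  letI := Fintype.ofFinite R
  let σ : Equiv.Perm R :=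
    { toFun := fun r => ⟨y * r * y⁻¹, (Subgroup.mem_normalizer_iff.1 hR r).1 r.2⟩
      invFun := fun r => ⟨y⁻¹ * r * y, by
        have := (Subgroup.mem_normalizer_iff.1 (inv_mem hR) r).1 r.2
        simpa using this⟩
      left_inv := fun r => Subtype.ext (by simp [mul_assoc])
      right_inv := fun r => Subtype.ext (by simp [mul_assoc]) }
  have hσ : ∀ r : R, ((σ r : R) : G) = y * r * y⁻¹ := fun r => rfl
  have hpow : ∀ (n : ℕ) (r : R), (((σ ^ n) r : R) : G) = y ^ n * r * (y ^ n)⁻¹ := by
    intro n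
    induction n with
    | zero => intro r; simp
    | succ n ih =>
      intro r
      rw [pow_succ' σ, Equiv.Perm.mul_apply, hσ, ih, pow_succ' y, mul_inv_rev]
      group
  have h1 : σ ^ 7 ^ 1 = 1 := by
    refine Equiv.ext fun r => Subtype.ext ?_
    rw [pow_one, hpow, ← hy, pow_orderOf_eq_one]
    simp
  have hfix : σ.supportᶜ = {1} := by
    ext r
    simp only [Finset.mem_compl, Equiv.Perm.mem_support, not_not, Finset.mem_singleton]
    refine ⟨fun hr => Subtype.ext ?_, fun hr => Subtype.ext (by rw [hr, hσ]; simp)⟩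
    have hr' : y * (r : G) * y⁻¹ = r := by rw [← hσ]; exact congrArg Subtype.val hr
    refine h.eq_one_of_commute_seven hy (fun hd => h7 (hd.trans ?_)) ?_
    · rw [Subgroup.orderOf_coe r]; exact orderOf_dvd_natCard r
    · exact (mul_inv_eq_iff_eq_mul.1 hr').symm
  have h2 := Equiv.Perm.card_compl_support_modEq h1
  rw [hfix, Finset.card_singleton, ← Nat.card_eq_fintype_card] at h2
  exact h2.symm

theorem dvd_cases {n : ℕ} (hn : n ∣ 12096) (h7 : ¬ 7 ∣ n) :
    ∃ i j, i ≤ 6 ∧ j ≤ 3 ∧ n = 2 ^ i * 3 ^ j := by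
  have hc : Nat.Coprime n 7 := (prime_seven.coprime_iff_not_dvd.2 h7).symm
  have hd : n ∣ 2 ^ 6 * 3 ^ 3 := Nat.Coprime.dvd_of_dvd_mul_right hc (by norm_num; exact hn)
  obtain ⟨u, v, hu, hv, rfl⟩ := exists_dvd_and_dvd_of_dvd_mul hd
  obtain ⟨i, hi, rfl⟩ := (Nat.dvd_prime_pow Nat.prime_two).1 hu
  obtain ⟨j, hj, rfl⟩ := (Nat.dvd_prime_pow Nat.prime_three).1 hv
  exact ⟨i, j, hi, hj, rfl⟩

theorem Hyp.exists_seven (h : Hyp G) : ∃ y : G, orderOf y = 7 := by
  haveI := h.finite
  haveI : Fact (Nat.Prime 7) := ⟨prime_seven⟩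
  exact exists_prime_orderOf_dvd_card' 7 (by rw [h.card]; norm_num)

/-- No element of order `7` normalises a nontrivial `3`-subgroup. -/
theorem Hyp.not_normalize_three (h : Hyp G) {y : G} (hy : orderOf y = 7) {R : Subgroup G} {j : ℕ} (hj : j ≠ 0)
    (hc : Nat.card R = 3 ^ j) : y ∉ Subgroup.normalizer (R : Set G) := by
  haveI := h.finite
  intro hR
  have h7 : ¬ 7 ∣ Nat.card R := by
    rw [hc]; exact fun hd => absurd (prime_seven.dvd_of_dvd_pow hd) (by norm_num)
  have hm := h.card_mod_seven hy h7 hR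
  have : j ≤ 3 := by
    by_contra hlt
    have h81 : 3 ^ 4 ∣ Nat.card G :=
      (pow_dvd_pow 3 (show 4 ≤ j by omega)).trans (hc ▸ Subgroup.card_subgroup_dvd_card R)
    rw [h.card] at h81; norm_num at h81
  rw [hc] at hm
  interval_cases j <;> simp_all

/-- A normal subgroup of order prime to `7` is a `2`-group. -/
theorem Hyp.normal_card_two (h : Hyp G) {R : Subgroup G} (hR : R.Normal) (h7 : ¬ 7 ∣ Nat.card R) :
    ∃ i ≤ 6, Nat.card R = 2 ^ i := by
  haveI := h.finite
  haveI := hR
  haveI : Fact (Nat.Prime 3) := ⟨Nat.prime_three⟩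
  haveI : Fact (Nat.Prime 7) := ⟨prime_seven⟩
  obtain ⟨i, j, hi, -, hc⟩ := dvd_cases (h.card ▸ Subgroup.card_subgroup_dvd_card R) h7
  rcases eq_or_ne j 0 with rfl | hj0
  · exact ⟨i, hi, by rw [hc, pow_zero, mul_one]⟩
  exfalso
  obtain ⟨Q⟩ : Nonempty (Sylow 3 R) := inferInstance
  have hQ : Nat.card (Q : Subgroup R) = 3 ^ j :=
    card_syl j (2 ^ i) (hc.trans (mul_comm _ _))
      (fun hd => absurd (Nat.prime_three.dvd_of_dvd_pow hd) (by norm_num)) Q
  set N := Subgroup.normalizer (((Q : Subgroup R).map R.subtype : Subgroup G) : Set G)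
  have htop : N ⊔ R = ⊤ := Sylow.normalizer_sup_eq_top Q
  have hmap : N.map (QuotientGroup.mk' R) = ⊤ := by
    have e := congrArg (Subgroup.map (QuotientGroup.mk' R)) htop
    rwa [Subgroup.map_sup, QuotientGroup.map_mk'_self, sup_bot_eq,
      Subgroup.map_top_of_surjective _ (QuotientGroup.mk'_surjective R)] at e
  have h7N : 7 ∣ Nat.card N := by
    refine Dvd.dvd.trans ?_ ((hmap ▸ Subgroup.card_map_dvd N (QuotientGroup.mk' R) : _))
    rw [Subgroup.card_top]
    have e := Subgroup.card_eq_card_quotient_mul_card_subgroup R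
    rw [h.card] at e
    exact (prime_seven.dvd_mul.1 (e ▸ (by norm_num : 7 ∣ 12096))).resolve_right h7
  obtain ⟨⟨z, hzN⟩, hz⟩ := exists_prime_orderOf_dvd_card' 7 h7N
  rw [← Subgroup.orderOf_coe] at hz
  exact h.not_normalize_three hz hj0
    ((Nat.card_congr (Subgroup.equivMapOfInjective _ _ R.subtype_injective).toEquiv).symm.trans hQ) hzN

/-- No nontrivial normal subgroup has order prime to `7`. -/
theorem Hyp.normal_eq_bot (h : Hyp G) {R : Subgroup G} (hR : R.Normal) (h7 : ¬ 7 ∣ Nat.card R) : R = ⊥ := by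
  haveI := h.finite
  haveI := hR
  haveI : Fact (Nat.Prime 3) := ⟨Nat.prime_three⟩
  haveI : Fact (Nat.Prime 7) := ⟨prime_seven⟩
  obtain ⟨y, hy⟩ := h.exists_seven
  obtain ⟨i, hi, hc⟩ := h.normal_card_two hR h7
  have hm := h.card_mod_seven hy h7 (by simp [Subgroup.normalizer_eq_top R])
  rw [hc] at hm
  interval_cases i
  · exact Subgroup.eq_bot_of_card_eq R (by simpa using hc)
  iterate 2 simp at hm
  · exfalso
    norm_num at hc
    let φ : G →* MulAut R := MulAut.conjNormal
    have hk7 : ¬ 7 ∣ Nat.card φ.ker := by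
      intro hd
      obtain ⟨⟨z, hzk⟩, hz⟩ := exists_prime_orderOf_dvd_card' 7 hd
      rw [← Subgroup.orderOf_coe] at hz
      obtain ⟨r, hr⟩ : ∃ r : R, r ≠ 1 := by
        haveI : Nontrivial R := Finite.one_lt_card_iff_nontrivial.1 (by rw [hc]; norm_num)
        exact exists_ne 1
      have hfix : z * (r : G) * z⁻¹ = r :=
        congrArg Subtype.val (DFunLike.congr_fun (MonoidHom.mem_ker.1 hzk) r)
      refine hr (Subtype.ext (h.eq_one_of_commute_seven hz (fun hd' => h7 (hd'.trans ?_))
        (mul_inv_eq_iff_eq_mul.1 hfix).symm))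
      rw [Subgroup.orderOf_coe]; exact orderOf_dvd_natCard r
    obtain ⟨i', -, hck⟩ := h.normal_card_two (R := φ.ker) inferInstance hk7
    have h27 : 3 ^ 3 ∣ Nat.card φ.range := by
      have e := Subgroup.card_eq_card_quotient_mul_card_subgroup φ.ker
      rw [h.card, Nat.card_congr (QuotientGroup.quotientKerEquivRange φ).toEquiv, hck] at e
      refine Nat.Coprime.dvd_of_dvd_mul_right (Nat.Coprime.pow 3 i' (by norm_num : Nat.Coprime 3 2)) ?_
      rw [← e]; norm_num
    -- permutations of the seven nontrivial elements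
    let ψ : φ.range →* Equiv.Perm {r : R // r ≠ 1} :=
      { toFun := fun a =>
          { toFun := fun r => ⟨a.1 r.1, fun e => r.2 (a.1.injective (by rw [e, map_one]))⟩
            invFun := fun r => ⟨a.1⁻¹ r.1, fun e => r.2 ((a.1⁻¹ : MulAut R).injective (by rw [e, map_one]))⟩
            left_inv := fun r => Subtype.ext (a.1.symm_apply_apply r.1)
            right_inv := fun r => Subtype.ext (a.1.apply_symm_apply r.1) }
        map_one' := by ext r; rfl
        map_mul' := fun a b => by ext r; rfl }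
    have hψ : Function.Injective ψ := fun a b e => Subtype.ext (MulEquiv.ext fun r => by
      rcases eq_or_ne r 1 with rfl | hr
      · rw [map_one, map_one]
      · exact congrArg (fun f : Equiv.Perm {r : R // r ≠ 1} => (f ⟨r, hr⟩).1) e)
    have hn : Nat.card {r : R // r ≠ 1} = 7 := by
      classical
      letI := Fintype.ofFinite R
      rw [Nat.card_eq_fintype_card, Fintype.card_subtype_compl, Fintype.card_subtype_eq, ← Nat.card_eq_fintype_card,
        hc]
    have := h27.trans (Subgroup.card_dvd_of_injective ψ hψ)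
    rw [Nat.card_perm, hn] at this
    exact absurd this (by decide)
  iterate 2 simp at hm
  · exfalso
    norm_num at hc
    have hidx : Nat.card (G ⧸ R) = 189 := by
      have := Subgroup.card_eq_card_quotient_mul_card_subgroup R
      rw [h.card, hc] at this; omega
    obtain ⟨S⟩ : Nonempty (Sylow 7 (G ⧸ R)) := inferInstance
    have hS : Nat.card (S : Subgroup (G ⧸ R)) = 7 := by
      simpa using card_syl 1 27 (hidx.trans (by norm_num)) (by norm_num) S
    have hn : Nat.card (Sylow 7 (G ⧸ R)) = 1 := by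
      have hd : Nat.card (Sylow 7 (G ⧸ R)) ∣ 3 ^ 3 := by
        have h1 := S.card_dvd_index
        have e := (S : Subgroup (G ⧸ R)).index_mul_card
        rw [hS, hidx] at e
        rwa [show (S : Subgroup (G ⧸ R)).index = 3 ^ 3 by norm_num; omega] at h1
      have hm7 := card_sylow_modEq_one 7 (G ⧸ R)
      obtain ⟨k, hk, hk'⟩ := (Nat.dvd_prime_pow Nat.prime_three).1 hd
      rw [hk'] at hm7 ⊢
      unfold Nat.ModEq at hm7
      interval_cases k <;> simp_all
    haveI : Subsingleton (Sylow 7 (G ⧸ R)) := Finite.card_le_one_iff_subsingleton.1 hn.le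
    have hSn : (S : Subgroup (G ⧸ R)).Normal := S.normal_of_subsingleton
    obtain ⟨a, ha⟩ := exists_prime_orderOf_dvd_card' 7 (by rw [hS] : 7 ∣ Nat.card (S : Subgroup (G ⧸ R)))
    rw [← Subgroup.orderOf_coe] at ha
    obtain ⟨P⟩ : Nonempty (Sylow 3 (G ⧸ R)) := inferInstance
    have hP : Nat.card (P : Subgroup (G ⧸ R)) = 27 := by
      simpa using card_syl 3 7 (hidx.trans (by norm_num)) (by norm_num) P
    let f : ↥(P : Subgroup (G ⧸ R)) → ↥(S : Subgroup (G ⧸ R)) := fun g =>
      ⟨g * a * (g : G ⧸ R)⁻¹, hSn.conj_mem _ a.2 _⟩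
    obtain ⟨g₁, g₂, he, hne⟩ : ∃ g₁ g₂, f g₁ = f g₂ ∧ g₁ ≠ g₂ := Function.not_injective_iff.1 fun hinj =>
      absurd (Nat.card_le_card_of_injective f hinj) (by rw [hS, hP]; norm_num)
    have he' : (g₁ : G ⧸ R) * a * (g₁ : G ⧸ R)⁻¹ = g₂ * a * (g₂ : G ⧸ R)⁻¹ := congrArg Subtype.val he
    set d := g₂⁻¹ * g₁ with hd
    have hd1 : d ≠ 1 := fun e => hne (inv_mul_eq_one.1 e).symm
    have hcd : Commute (d : G ⧸ R) (a : G ⧸ R) := by
      rw [hd, Subgroup.coe_mul, Subgroup.coe_inv]
      show _ = _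
      calc (g₂ : G ⧸ R)⁻¹ * g₁ * a = (g₂ : G ⧸ R)⁻¹ * (g₁ * a * (g₁ : G ⧸ R)⁻¹) * g₁ := by group
        _ = (g₂ : G ⧸ R)⁻¹ * (g₂ * a * (g₂ : G ⧸ R)⁻¹) * g₁ := by rw [he']
        _ = a * ((g₂ : G ⧸ R)⁻¹ * g₁) := by group
    obtain ⟨m, hm'⟩ := (IsPGroup.iff_orderOf.1 P.isPGroup') d
    have hm0 : m ≠ 0 := fun e => hd1 (orderOf_eq_one_iff.1 (by rw [hm', e, pow_zero]))
    rw [← Subgroup.orderOf_coe] at hm'
    have h3 : orderOf ((d : G ⧸ R) ^ (orderOf (d : G ⧸ R) / 3)) = 3 :=
      orderOf_pow_orderOf_div (orderOf_pos _).ne' (hm' ▸ dvd_pow_self 3 hm0)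
    have h21 := (hcd.pow_left (orderOf (d : G ⧸ R) / 3)).orderOf_mul_eq_mul_orderOf_of_coprime (by
      rw [h3, ha]; norm_num)
    rw [h3, ha] at h21
    obtain ⟨w, hw⟩ := QuotientGroup.mk'_surjective R ((d : G ⧸ R) ^ (orderOf (d : G ⧸ R) / 3) * a)
    have hdvd : 3 * 7 ∣ orderOf w := by
      rw [← h21, ← hw]; exact orderOf_map_dvd _ w
    exact h.no21 _ (orderOf_pow_orderOf_div (orderOf_pos w).ne' hdvd)

/-- A subgroup of order prime to `7` has trivial core. -/
theorem Hyp.normalCore_eq_bot (h : Hyp G) {X : Subgroup G} (h7 : ¬ 7 ∣ Nat.card X) : X.normalCore = ⊥ :=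
  h.normal_eq_bot inferInstance fun hd => h7 (hd.trans (Subgroup.card_dvd_of_le X.normalCore_le))

/-- The action on the cosets of a subgroup of order prime to `7` is faithful. -/
theorem Hyp.coset_faithful (h : Hyp G) {X : Subgroup G} (h7 : ¬ 7 ∣ Nat.card X) {g : G}
    (hg : ∀ c : G ⧸ X, g • c = c) : g = 1 := by
  have hm : g ∈ (MulAction.toPermHom G (G ⧸ X)).ker := MonoidHom.mem_ker.2 (Equiv.ext hg)
  rw [← Subgroup.normalCore_eq_ker, h.normalCore_eq_bot h7] at hm
  exact Subgroup.mem_bot.1 hm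

/-- A subgroup of order prime to `7` has index at least `14`. -/
theorem Hyp.index_ge (h : Hyp G) {X : Subgroup G} (h7 : ¬ 7 ∣ Nat.card X) : 14 ≤ X.index ∧ 7 ∣ X.index := by
  haveI := h.finite
  have hinj : Function.Injective (MulAction.toPermHom G (G ⧸ X)) :=
    (injective_iff_map_eq_one _).2 fun g hg => h.coset_faithful h7 fun c => DFunLike.congr_fun hg c
  have hd := Subgroup.card_dvd_of_injective _ hinj
  rw [Nat.card_perm, ← Subgroup.index_eq_card, h.card] at hd
  have hidx : 9 ≤ X.index := by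
    by_contra hlt
    exact absurd (hd.trans (Nat.factorial_dvd_factorial (show X.index ≤ 8 by omega))) (by decide)
  have hmul := X.index_mul_card
  rw [h.card] at hmul
  have h7i : 7 ∣ X.index :=
    (prime_seven.dvd_mul.1 (by rw [hmul]; norm_num : 7 ∣ X.index * Nat.card X)).resolve_right h7
  exact ⟨by obtain ⟨m, hm⟩ := h7i; omega, h7i⟩

/-- A subgroup of order prime to `7` has order at most `864`. -/
theorem Hyp.card_le (h : Hyp G) {X : Subgroup G} (h7 : ¬ 7 ∣ Nat.card X) : Nat.card X ≤ 864 := by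
  have := Nat.mul_le_mul_right (Nat.card X) (h.index_ge h7).1
  have hmul := X.index_mul_card
  rw [h.card] at hmul
  omega

/-- An element of order `7` generates its centralizer. -/
theorem Hyp.centralizer_seven (h : Hyp G) {y : G} (hy : orderOf y = 7) :
    Nat.card (Subgroup.centralizer ({y} : Set G)) = 7 := by
  haveI := h.finite
  set C := Subgroup.centralizer ({y} : Set G)
  have hyC : Subgroup.zpowers y ≤ C := by
    rw [Subgroup.zpowers_le, Subgroup.mem_centralizer_singleton_iff]
  have h7 : 7 ∣ Nat.card C := by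
    have := Subgroup.card_dvd_of_le hyC
    rwa [Nat.card_zpowers, hy] at this
  obtain ⟨k, hk⟩ := h7
  have hk1 : k = 1 := by
    by_contra hne
    obtain ⟨q, hq, hqk⟩ := Nat.exists_prime_and_dvd hne
    haveI := Fact.mk hq
    obtain ⟨⟨x, hxC⟩, hx⟩ := exists_prime_orderOf_dvd_card' q (hk ▸ Dvd.dvd.mul_left hqk 7 : q ∣ Nat.card C)
    rw [← Subgroup.orderOf_coe] at hx
    by_cases hq7 : q = 7
    · subst hq7
      have := Subgroup.card_subgroup_dvd_card C
      rw [h.card, hk] at this
      have h49 : 49 ∣ 12096 := (Nat.mul_dvd_mul_left 7 hqk).trans this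
      norm_num at h49
    · have h1 := h.eq_one_of_commute_seven hy (x := x)
        (fun hd => hq7 ((Nat.prime_dvd_prime_iff_eq prime_seven hq).1 (hx ▸ hd)).symm)
        (Subgroup.mem_centralizer_singleton_iff.1 hxC)
      simp only [h1, orderOf_one] at hx
      exact hq.ne_one hx.symm
  rw [hk, hk1]

/-- There are at least `288` Sylow `7`-subgroups. -/
theorem Hyp.card_sylow_seven (h : Hyp G) : 288 ≤ Nat.card (Sylow 7 G) := by
  haveI := h.finite
  haveI : Fact (Nat.Prime 7) := ⟨prime_seven⟩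
  obtain ⟨S⟩ : Nonempty (Sylow 7 G) := inferInstance
  have hS : Nat.card (S : Subgroup G) = 7 := by
    simpa using card_syl 1 1728 (h.card.trans (by norm_num)) (by norm_num) S
  obtain ⟨s, hs⟩ := exists_prime_orderOf_dvd_card' 7 (by rw [hS] : 7 ∣ Nat.card (S : Subgroup G))
  rw [← Subgroup.orderOf_coe] at hs
  set N := Subgroup.normalizer ((S : Subgroup G) : Set G) with hN
  classical
  letI := Fintype.ofFinite (S : Subgroup G)
  let f : N → {x : (S : Subgroup G) // x ≠ 1} := fun g =>
    ⟨⟨g * s * (g : G)⁻¹, (Subgroup.mem_normalizer_iff.1 g.2 _).1 s.2⟩,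
      fun e => by
        have e' : (g : G) * s * (g : G)⁻¹ = 1 := congrArg Subtype.val e
        rw [conj_eq_one_iff] at e'
        rw [e', orderOf_one] at hs; norm_num at hs⟩
  have hfib : ∀ x, Nat.card {g : N // f g = x} ≤ 7 := by
    intro x
    rcases isEmpty_or_nonempty {g : N // f g = x} with he | ⟨⟨g₀, hg₀⟩⟩
    · simp
    · refine le_of_le_of_eq ?_ (h.centralizer_seven hs)
      let e : {g : N // f g = x} → Subgroup.centralizer ({(s : G)} : Set G) := fun g =>
        ⟨(g₀ : G)⁻¹ * g.1, by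
          have he : (g.1 : G) * s * (g.1 : G)⁻¹ = g₀ * s * (g₀ : G)⁻¹ :=
            congrArg (fun t : {x : (S : Subgroup G) // x ≠ 1} => (t.1 : G)) (g.2.trans hg₀.symm)
          rw [Subgroup.mem_centralizer_singleton_iff]
          calc (g₀ : G)⁻¹ * g.1 * s = (g₀ : G)⁻¹ * (g.1 * s * (g.1 : G)⁻¹) * g.1 := by group
            _ = (g₀ : G)⁻¹ * (g₀ * s * (g₀ : G)⁻¹) * g.1 := by rw [he]
            _ = s * ((g₀ : G)⁻¹ * g.1) := by group⟩
      exact Nat.card_le_card_of_injective e fun a b hab =>
        Subtype.ext (Subtype.ext (mul_left_cancel (congrArg Subtype.val hab)))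
  have h6 : Nat.card {x : (S : Subgroup G) // x ≠ 1} = 6 := by
    rw [Nat.card_eq_fintype_card, Fintype.card_subtype_compl, Fintype.card_subtype_eq, ← Nat.card_eq_fintype_card, hS]
  have hN42 : Nat.card N ≤ 42 := by
    rw [← Nat.card_congr (Equiv.sigmaFiberEquiv f), Nat.card_sigma]
    calc _ ≤ ∑ _x : {x : (S : Subgroup G) // x ≠ 1}, 7 := Finset.sum_le_sum fun x _ => hfib x
      _ = 42 := by rw [Finset.sum_const, Finset.card_univ, ← Nat.card_eq_fintype_card, h6]; rfl
  have e := N.index_mul_card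
  have e2 := S.card_eq_index_normalizer
  rw [h.card] at e
  rw [show Nat.card (Sylow 7 G) = N.index from e2] at *
  by_contra hlt
  have := Nat.mul_le_mul (show N.index ≤ 287 by omega) hN42
  omega

/-- The factor groups of order a power of `3` are trivial. -/
theorem Hyp.pResidual_three (h : Hyp G) : Cfsg.pResidual 3 G = ⊤ := by
  haveI := h.finite
  haveI : Fact (Nat.Prime 7) := ⟨prime_seven⟩
  haveI : Fact (Nat.Prime 2) := ⟨Nat.prime_two⟩
  set K := Cfsg.pResidual 3 G
  have hcop : ∀ g : G, Nat.Coprime (orderOf g) 3 → g ∈ K := fun g hg => Subgroup.subset_closure hg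
  have hconj : ∀ g x : G, orderOf (g * x * g⁻¹) = orderOf x := fun g x => by
    rw [show g * x * g⁻¹ = MulAut.conj g x from rfl, MulEquiv.orderOf_eq]
  -- the subgroup generated by the elements of order seven
  let L := Subgroup.closure {g : G | orderOf g = 7}
  haveI hLn : L.Normal := closure_normal fun g x hx => (hconj g x).trans hx
  have hLK : L ≤ K := (Subgroup.closure_le _).2 fun g (hg : orderOf g = 7) => hcop g (by rw [hg]; norm_num)
  have hS7 : ∀ T : Sylow 7 G, Nat.card (T : Subgroup G) = 7 := fun T => by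
    simpa using card_syl 1 1728 (h.card.trans (by norm_num)) (by norm_num) T
  have hord : ∀ (T : Sylow 7 G) (x : (T : Subgroup G)), x ≠ 1 → orderOf (x : G) = 7 := by
    intro T x hx
    rw [Subgroup.orderOf_coe]
    exact ((Nat.dvd_prime prime_seven).1 ((orderOf_dvd_natCard x).trans (hS7 T).dvd)).resolve_left
      (mt orderOf_eq_one_iff.1 hx)
  -- count the elements of order seven inside `L`
  have hcount : 1729 ≤ Nat.card L := by
    let j : Option (Σ T : Sylow 7 G, {x : (T : Subgroup G) // x ≠ 1}) → L := fun o =>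
      o.elim 1 fun p => ⟨p.2.1, Subgroup.subset_closure (hord p.1 _ p.2.2)⟩
    have hz : ∀ (U : Sylow 7 G) (u : {x : (U : Subgroup G) // x ≠ 1}),
        Subgroup.zpowers (u.1 : G) = (U : Subgroup G) := fun U u =>
      Subgroup.eq_of_le_of_card_ge (Subgroup.zpowers_le.2 u.1.2) (by
        rw [Nat.card_zpowers, hord U _ u.2, hS7 U])
    have hj : Function.Injective j := by
      rintro (_ | ⟨T, x⟩) (_ | ⟨T', x'⟩) he
      · rfl
      · have hv : (1 : G) = x'.1 := congrArg Subtype.val he
        exact (x'.2 (Subtype.ext hv.symm)).elim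
      · have hv : (x.1 : G) = 1 := congrArg Subtype.val he
        exact (x.2 (Subtype.ext hv)).elim
      · have hv : (x.1 : G) = x'.1 := congrArg Subtype.val he
        obtain rfl : T = T' := Sylow.ext ((hz T x).symm.trans ((congrArg _ hv).trans (hz T' x')))
        obtain rfl : x = x' := Subtype.ext (Subtype.ext hv)
        rfl
    classical
    letI := Fintype.ofFinite (Sylow 7 G)
    have h6 : ∀ T : Sylow 7 G, Nat.card {x : (T : Subgroup G) // x ≠ 1} = 6 := fun T => by
      letI := Fintype.ofFinite (T : Subgroup G)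
      rw [Nat.card_eq_fintype_card, Fintype.card_subtype_compl, Fintype.card_subtype_eq, ← Nat.card_eq_fintype_card,
        hS7 T]
    have := Nat.card_le_card_of_injective j hj
    rw [Finite.card_option, Nat.card_sigma, Finset.sum_congr rfl fun T _ => h6 T, Finset.sum_const,
      Finset.card_univ, ← Nat.card_eq_fintype_card, smul_eq_mul] at this
    have := h.card_sylow_seven
    omega
  have h64 : 64 ∣ Nat.card K := by
    obtain ⟨T⟩ : Nonempty (Sylow 2 G) := inferInstance
    have hT : Nat.card (T : Subgroup G) = 64 := by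
      simpa using card_syl 6 189 (h.card.trans (by norm_num)) (by norm_num) T
    refine hT ▸ Subgroup.card_dvd_of_le fun g hg => hcop g ?_
    obtain ⟨k, hk⟩ := (IsPGroup.iff_orderOf.1 T.isPGroup') ⟨g, hg⟩
    rw [← Subgroup.orderOf_coe] at hk
    rw [show orderOf g = 2 ^ k from hk]
    exact Nat.Coprime.pow_left k (by norm_num)
  obtain ⟨y, hy⟩ := h.exists_seven
  have h7L : 7 ∣ Nat.card L := by
    have : orderOf (⟨y, Subgroup.subset_closure hy⟩ : L) = 7 := by rw [Subgroup.orderOf_mk]; exact hy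
    exact this ▸ orderOf_dvd_natCard _
  by_contra hne
  have hKlt : Nat.card K < 12096 := by
    have := Subgroup.card_le_card_group K
    rw [h.card] at this
    exact lt_of_le_of_ne this fun e => hne (Subgroup.eq_top_of_card_eq _ (e.trans h.card.symm))
  have hK : Nat.card K = 4032 := by
    have h1 : 448 ∣ Nat.card K :=
      Nat.Coprime.mul_dvd_of_dvd_of_dvd (by norm_num : Nat.Coprime 64 7) h64
        (h7L.trans (Subgroup.card_dvd_of_le hLK))
    obtain ⟨k, hk⟩ := h1
    have h2 : k ∣ 3 ^ 3 := by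
      have := Subgroup.card_subgroup_dvd_card K
      rw [h.card, hk] at this
      exact (Nat.mul_dvd_mul_iff_left (by norm_num : 0 < 448)).1 (show 448 * k ∣ 448 * 27 by simpa using this)
    have hle := hcount.trans (Subgroup.card_le_of_le hLK)
    obtain ⟨m, hm, rfl⟩ := (Nat.dvd_prime_pow Nat.prime_three).1 h2
    interval_cases m <;> omega
  have hLcard : Nat.card L = 2016 ∨ Nat.card L = 4032 := by
    obtain ⟨c, hc⟩ := Subgroup.card_dvd_of_le hLK
    rw [hK] at hc
    have : c ≤ 2 := by
      by_contra hlt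
      have := Nat.mul_le_mul hcount (show 3 ≤ c by omega)
      omega
    interval_cases c <;> omega
  haveI : Nontrivial L := (Subgroup.nontrivial_iff_ne_bot L).2 fun e => by
    rw [e, Subgroup.card_bot] at hcount; omega
  haveI : IsSimpleGroup L := ⟨fun M hM => by
    by_cases h7M : 7 ∣ Nat.card M
    · right
      obtain ⟨⟨w, hwM⟩, hw⟩ := exists_prime_orderOf_dvd_card' 7 h7M
      rw [← Subgroup.orderOf_coe] at hw
      have hU : ∀ U : Sylow 7 L, Nat.card (U : Subgroup L) = 7 := fun U => by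
        rcases hLcard with e | e
        · simpa using card_syl 1 288 (e.trans (by norm_num)) (by norm_num) U
        · simpa using card_syl 1 576 (e.trans (by norm_num)) (by norm_num) U
      have hsy : ∀ u : L, orderOf u = 7 → ∃ U : Sylow 7 L, (U : Subgroup L) = Subgroup.zpowers u := fun u hu => by
        obtain ⟨U, hle⟩ := (IsPGroup.of_card (p := 7) (n := 1) (by rw [Nat.card_zpowers, hu, pow_one]) :
          IsPGroup 7 (Subgroup.zpowers u)).exists_le_sylow
        exact ⟨U, (Subgroup.eq_of_le_of_card_ge hle (by rw [Nat.card_zpowers, hu, hU])).symm⟩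
      obtain ⟨W, hW⟩ := hsy w hw
      have hall : L ≤ M.map L.subtype := (Subgroup.closure_le _).2 fun z (hz : orderOf z = 7) => by
        obtain ⟨Z, hZ⟩ := hsy ⟨z, Subgroup.subset_closure hz⟩ (by rw [Subgroup.orderOf_mk]; exact hz)
        obtain ⟨g, rfl⟩ := MulAction.exists_smul_eq L W Z
        have hmem := Subgroup.mem_zpowers (⟨z, Subgroup.subset_closure hz⟩ : L)
        rw [← hZ, Sylow.coe_subgroup_smul] at hmem
        obtain ⟨v, hv, he⟩ := hmem
        refine ⟨⟨z, Subgroup.subset_closure hz⟩, he ▸ hM.conj_mem v ?_ g, rfl⟩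
        exact (hW ▸ Subgroup.zpowers_le.2 hwM : (W : Subgroup L) ≤ M) hv
      refine eq_top_iff.2 fun x _ => ?_
      obtain ⟨v, hv, he⟩ := hall x.2
      rwa [← Subtype.ext he]
    · left
      have hle : M ≤ Cfsg.pPrimeCore 7 L :=
        le_sSup ⟨hM, (prime_seven.coprime_iff_not_dvd.2 h7M).symm⟩
      have hc7 : ¬ 7 ∣ Nat.card (Cfsg.pPrimeCore 7 L) := fun hd =>
        absurd (Nat.Coprime.coprime_dvd_left hd (Cfsg.Lib.Core.pPrimeCore_coprime 7 L)) (by norm_num)
      haveI : (Cfsg.pPrimeCore 7 L).Characteristic := Cfsg.Lib.Core.pPrimeCore_characteristic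
      have hbot : (Cfsg.pPrimeCore 7 L).map L.subtype = ⊥ := h.normal_eq_bot inferInstance (by
        rwa [← Nat.card_congr (Subgroup.equivMapOfInjective _ _ L.subtype_injective).toEquiv])
      rw [Subgroup.map_eq_bot_iff_of_injective _ L.subtype_injective] at hbot
      exact le_bot_iff.1 (hbot ▸ hle)⟩
  rcases hLcard with e | e
  · have hna : ¬ IsMulCommutative L := fun hab => by
      haveI := hab
      letI : CommGroup L := { (inferInstance : Group L) with mul_comm := mul_comm' }
      have := IsSimpleGroup.prime_card (α := L)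
      rw [e] at this; norm_num at this
    have := Cfsg.Lib.Small.OrderFilter.check_sound hna e (by norm_num) (w := 300070000) (by decide +kernel)
    simp [Cfsg.Lib.Small.OrderFilter.special] at this
  · exact Cfsg.Agent.S0976.result e

end Cfsg.Lib.Recog.G2Two
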