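import Cfsg.Agent.Lib.Recog.G2Two.Semireg
import Mathlib.GroupTheory.Perm.Fin
import Mathlib.Data.Fintype.Perm

/-!
# An abelian Sylow `3`-subgroup has `28` conjugates
-/

set_option autoImplicit false
set_option linter.style.haveILetI false
set_option linter.unusedSectionVars false

namespace Cfsg.Lib.Recog.G2Two

open Subgroup MulAction Pointwise

universe u

/-- The four-group in the symmetric group on four points. -/
def klein : Subgroup (Equiv.Perm (Fin 4)) where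
  carrier := {s | s * s = 1 ∧ (s = 1 ∨ ∀ i, s i ≠ i)}
  one_mem' := ⟨one_mul 1, Or.inl rfl⟩
  mul_mem' := by
    intro a b ha hb
    revert a b
    show ∀ a b : Equiv.Perm (Fin 4), (a * a = 1 ∧ (a = 1 ∨ ∀ i, a i ≠ i)) → (b * b = 1 ∧ (b = 1 ∨ ∀ i, b i ≠ i)) →
      (a * b * (a * b) = 1 ∧ (a * b = 1 ∨ ∀ i, (a * b) i ≠ i))
    decide +kernel
  inv_mem' := by
    intro a ha
    revert a
    show ∀ a : Equiv.Perm (Fin 4), (a * a = 1 ∧ (a = 1 ∨ ∀ i, a i ≠ i)) →
      (a⁻¹ * a⁻¹ = 1 ∧ (a⁻¹ = 1 ∨ ∀ i, a⁻¹ i ≠ i))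
    decide +kernel

theorem mem_klein {s : Equiv.Perm (Fin 4)} : s ∈ klein ↔ s * s = 1 ∧ (s = 1 ∨ ∀ i, s i ≠ i) := Iff.rfl

theorem klein_conj : ∀ a b : Equiv.Perm (Fin 4), (b * b = 1 ∧ (b = 1 ∨ ∀ i, b i ≠ i)) →
    (a * b * a⁻¹ * (a * b * a⁻¹) = 1 ∧ (a * b * a⁻¹ = 1 ∨ ∀ i, (a * b * a⁻¹) i ≠ i)) := by
  decide +kernel

theorem perm_four : ∀ a b : Equiv.Perm (Fin 4), a * a * a = 1 → b * b * b = 1 → a * b ≠ b * a →
    ((a * b * a⁻¹ * b⁻¹) * (a * b * a⁻¹ * b⁻¹) = 1 ∧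
      (a * b * a⁻¹ * b⁻¹ = 1 ∨ ∀ i, (a * b * a⁻¹ * b⁻¹) i ≠ i)) ∧
    (a * b * a⁻¹ * b⁻¹) * a * (a * b * a⁻¹ * b⁻¹)⁻¹ * a⁻¹ ≠ 1 := by
  decide +kernel

variable {G : Type u} [Group G] [Finite G] [Fact (Nat.Prime 3)]

local notation "N(" P ")" => normalizer ((P : Subgroup G) : Set G)

theorem Hyp.abelian_not_112 (h : Hyp G) {P : Sylow 3 G}
    (hab : ∀ x ∈ (P : Subgroup G), ∀ y ∈ (P : Subgroup G), x * y = y * x)
    (h112 : Nat.card (Sylow 3 G) = 112) : False := by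
  classical
  obtain ⟨T, hC⟩ := h.exists_complement P
  obtain ⟨D, hpl, hf, hint⟩ := (h.abelian hab).2 h112
  obtain ⟨hDP, hD, -⟩ := mem_planes.1 (hpl ▸ Finset.mem_singleton_self D : D ∈ planes P)
  have hTD : T ≤ normalizer (D : Set G) := fun t ht => mem_normalizer_iff.2 fun y => by
    have hm := smul_mem_planes (hC.le ht) (hpl ▸ Finset.mem_singleton_self D : D ∈ planes P)
    rw [hpl, Finset.mem_singleton] at hm
    conv_rhs => rw [← hm, mem_pointwise_smul_iff_inv_smul_mem]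
    simp [MulAut.smul_def, ← map_inv, mul_assoc]
  obtain ⟨hNX, hX⟩ := h.card_plane_normalizer hC h112 hDP hD hf hTD
  set X := normalizer (D : Set G) with hXdef
  have hPX : (P : Subgroup G) ≤ X := le_normalizer.trans hNX
  have hmeet : ∀ Q : Sylow 3 G, Q ≠ P → ∀ a ∈ (P : Subgroup G), a ∈ (Q : Subgroup G) → a ≠ 1 →
      (P : Subgroup G) ⊓ (Q : Subgroup G) = D ∧ (Q : Subgroup G) ≤ X := by
    intro Q hQ a haP haQ ha
    have hi : (P : Subgroup G) ⊓ (Q : Subgroup G) = D := (hint Q hQ).resolve_right fun e => ha (by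
      have : a ∈ (P : Subgroup G) ⊓ (Q : Subgroup G) := ⟨haP, haQ⟩
      rwa [e, mem_bot] at this)
    exact ⟨hi, (h.plane (hi.symm.le.trans inf_le_right) hD).1⟩
  -- the nontrivial elements of `D` fix only `X`
  have halone : ∀ d ∈ D, d ≠ 1 → Alone X d := by
    intro d hd hd1 g hg
    have hd3 : (g⁻¹ * d * g) ^ 3 = 1 := by
      rw [show g⁻¹ * d * g = g⁻¹ * d * g⁻¹⁻¹ by group, conj_pow, h.pow_three P (hDP hd)]
      group
    obtain ⟨x, hxX, hxe⟩ := exists_conj_into hPX hg hd3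
    haveI : IsMulCommutative ↥(P : Subgroup G) := ⟨⟨fun a b => Subtype.ext (hab a a.2 b b.2)⟩⟩
    have hg1 : (g * x⁻¹)⁻¹ * d * (g * x⁻¹) = x * (g⁻¹ * d * g) * x⁻¹ := by group
    obtain ⟨n, hn, hne⟩ := P.conj_eq_normalizer_conj_of_mem d (g * x⁻¹) (hDP hd) (hg1 ▸ hxe)
    set c := g * x⁻¹ * n⁻¹ with hc
    have hcd : c⁻¹ * d * c = d := by
      rw [hc, show (g * x⁻¹ * n⁻¹)⁻¹ * d * (g * x⁻¹ * n⁻¹) = n * ((g * x⁻¹)⁻¹ * d * (g * x⁻¹)) * n⁻¹ by group, hne]
      group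
    suffices hcX : c ∈ X by
      have : g = c * n * x := by rw [hc]; group
      rw [this]
      exact mul_mem (mul_mem hcX (hNX hn)) hxX
    by_cases hcP : c • P = P
    · exact hNX (Sylow.smul_eq_iff_mem_normalizer.1 hcP)
    have hdQ : d ∈ ((c • P : Sylow 3 G) : Subgroup G) := by
      rw [Sylow.coe_subgroup_smul, mem_pointwise_smul_iff_inv_smul_mem]
      simp only [MulAut.smul_def, ← map_inv, MulAut.conj_apply, inv_inv, hcd]
      exact hDP hd
    obtain ⟨y, hy, hye⟩ := exists_conj_sylow hPX (hmeet _ hcP d (hDP hd) hdQ hd1).2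
    have : y⁻¹ * c ∈ N(P) := Sylow.smul_eq_iff_mem_normalizer.1 (by rw [mul_smul, ← hye, inv_smul_smul])
    simpa using mul_mem hy (hNX this)
  -- the action of `X` on its four Sylow subgroups
  have h4 : Nat.card (Sylow 3 X) = 4 := by rw [← h.plane_fib P hDP hD, hf]
  let eΩ : Sylow 3 X ≃ Fin 4 := Finite.equivFinOfCardEq h4
  let F : X →* Equiv.Perm (Fin 4) := eΩ.permCongrHom.toMonoidHom.comp (MulAction.toPermHom X (Sylow 3 X))
  have hFfix : ∀ (x : X) (Q : Sylow 3 G) (hQ : (Q : Subgroup G) ≤ X),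
      F x (eΩ (Q.subtype hQ)) = eΩ (Q.subtype hQ) ↔ (x : G) • Q = Q := by
    intro x Q hQ
    show eΩ (x • eΩ.symm (eΩ (Q.subtype hQ))) = eΩ (Q.subtype hQ) ↔ _
    rw [eΩ.apply_eq_iff_eq, eΩ.symm_apply_apply, Sylow.smul_subtype]
    exact ⟨fun e => Sylow.subtype_injective e, fun e => Sylow.ext (by
      rw [Sylow.coe_subtype, Sylow.coe_subtype]
      show ((((x : G) • Q : Sylow 3 G)) : Subgroup G).subgroupOf X = _
      rw [e])⟩
  obtain ⟨⟨Q, hQ, hQD⟩⟩ : Nonempty (fib P D) := (Nat.card_pos_iff.1 (by omega)).1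
  have hQX : (Q : Subgroup G) ≤ X := (h.plane (hQD.symm.le.trans inf_le_right) hD).1
  obtain ⟨x, hx, hxD⟩ : ∃ x ∈ (P : Subgroup G), x ∉ D := by
    by_contra hall
    push Not at hall
    have := card_le_of_le (fun y hy => hall y hy : (P : Subgroup G) ≤ D)
    rw [hD, h.card_three] at this
    omega
  obtain ⟨y, hy, hyD⟩ : ∃ y ∈ (Q : Subgroup G), y ∉ D := by
    by_contra hall
    push Not at hall
    have := card_le_of_le (fun y hy => hall y hy : (Q : Subgroup G) ≤ D)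
    rw [hD, h.card_three] at this
    omega
  set xX : X := ⟨x, hPX hx⟩ with hxX
  set yX : X := ⟨y, hQX hy⟩ with hyX
  have hx3 : F xX * F xX * F xX = 1 := by
    rw [← map_mul, ← map_mul, show xX * xX * xX = 1 from Subtype.ext (by
      show x * x * x = 1; rw [← h.pow_three P hx, pow_succ, pow_two]), map_one]
  have hy3 : F yX * F yX * F yX = 1 := by
    rw [← map_mul, ← map_mul, show yX * yX * yX = 1 from Subtype.ext (by
      show y * y * y = 1; rw [← h.pow_three Q hy, pow_succ, pow_two]), map_one]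
  have hxmoves : ∀ (R : Sylow 3 G) (_ : (R : Subgroup G) ≤ X), x • R = R → R = P := by
    intro R hR e
    by_contra hne
    have hxR := (smul_eq_iff_mem hx).1 e
    have h1 : x ≠ 1 := fun e1 => hxD (e1 ▸ one_mem D)
    exact hxD ((hmeet R hne x hx hxR h1).1 ▸ ⟨hx, hxR⟩)
  have hncomm : F xX * F yX ≠ F yX * F xX := by
    intro e
    set p := eΩ (P.subtype hPX) with hp
    have hxp : F xX p = p := (hFfix xX P hPX).2 (Sylow.smul_eq_iff_mem_normalizer.2 (le_normalizer hx))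
    have h1 : F xX (F yX p) = F yX p := by
      rw [← Equiv.Perm.mul_apply, e, Equiv.Perm.mul_apply, hxp]
    have h2 : ((y : G) • P : Sylow 3 G) = P := by
      have hle : ((y • P : Sylow 3 G) : Subgroup G) ≤ X := Sylow.smul_le hPX yX
      have he : F yX p = eΩ ((y • P : Sylow 3 G).subtype hle) := by
        show eΩ (yX • eΩ.symm (eΩ (P.subtype hPX))) = _
        rw [eΩ.symm_apply_apply, Sylow.smul_subtype]
        rfl
      rw [he] at h1
      exact hxmoves _ hle ((hFfix xX _ hle).1 h1)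
    have hyP : y ∈ (P : Subgroup G) := (smul_eq_iff_mem hy).1 h2
    exact hyD (hQD ▸ ⟨hyP, hy⟩)
  obtain ⟨hk, hk'⟩ := perm_four _ _ hx3 hy3 hncomm
  set cX : X := xX * yX * xX⁻¹ * yX⁻¹ with hcX
  have hFc : F cX = F xX * F yX * (F xX)⁻¹ * (F yX)⁻¹ := by simp [hcX]
  rw [← hFc] at hk hk'
  set M := (klein.comap F).map X.subtype ⊓ centralizer (D : Set G) with hMdef
  have hXM : X ≤ normalizer (M : Set G) := by
    have key : ∀ g ∈ X, ∀ m ∈ M, g * m * g⁻¹ ∈ M := by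
      intro g hg m hm
      obtain ⟨⟨a, ha, rfl⟩, hmC⟩ := mem_inf.1 hm
      refine mem_inf.2 ⟨⟨⟨g, hg⟩ * a * ⟨g, hg⟩⁻¹, ?_, rfl⟩, mem_centralizer_iff.2 fun d hd => ?_⟩
      · show F _ ∈ klein
        rw [map_mul, map_mul, map_inv]
        exact klein_conj _ _ ha
      · have hd' : g⁻¹ * d * g ∈ D := by simpa using (mem_normalizer_iff.1 (inv_mem hg) d).1 hd
        have e : g⁻¹ * d * g * (a : G) = (a : G) * (g⁻¹ * d * g) := mem_centralizer_iff.1 hmC _ hd'
        show d * (g * (a : G) * g⁻¹) = g * (a : G) * g⁻¹ * d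
        calc d * (g * (a : G) * g⁻¹) = g * (g⁻¹ * d * g * (a : G)) * g⁻¹ := by group
          _ = g * ((a : G) * (g⁻¹ * d * g)) * g⁻¹ := by rw [e]
          _ = g * (a : G) * g⁻¹ * d := by group
    intro g hg
    refine mem_normalizer_iff.2 fun m => ⟨fun hm => key g hg m hm, fun hm => ?_⟩
    have := key g⁻¹ (inv_mem hg) _ hm
    rwa [show g⁻¹ * (g * m * g⁻¹) * g⁻¹⁻¹ = m by group] at this
  have hMX : M ≤ X := inf_le_left.trans (map_subtype_le _)
  have hDM : D ≤ M := by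
    intro d hd
    have hdX : d ∈ X := hPX (hDP hd)
    refine mem_inf.2 ⟨⟨⟨d, hdX⟩, ?_, rfl⟩, mem_centralizer_iff.2 fun e he => (h.plane hDP hD).2 e he d hd⟩
    show F _ ∈ klein
    suffices F ⟨d, hdX⟩ = 1 by rw [this]; exact one_mem _
    refine Equiv.ext fun i => ?_
    obtain ⟨S, rfl⟩ := eΩ.surjective i
    obtain ⟨a, rfl⟩ := MulAction.exists_smul_eq X (P.subtype hPX) S
    rw [Sylow.smul_subtype]
    refine (hFfix _ _ _).2 (Sylow.smul_eq_iff_mem_normalizer.2 (le_normalizer ?_))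
    show d ∈ (((a : G) • P : Sylow 3 G) : Subgroup G)
    rw [Sylow.coe_subgroup_smul, mem_pointwise_smul_iff_inv_smul_mem]
    simp only [MulAut.smul_def, ← map_inv, MulAut.conj_apply, inv_inv]
    exact hDP (by simpa using (mem_normalizer_iff.1 (inv_mem a.2) d).1 hd)
  have hM27 : ¬ 27 ∣ Nat.card M := by
    intro hd
    obtain ⟨K, hK⟩ := Sylow.exists_subgroup_card_pow_prime 3 (n := 3) (G := M) (by simpa using hd)
    have hK' : Nat.card (K.map M.subtype) = 3 ^ 3 := by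
      rw [← Nat.card_congr (equivMapOfInjective _ _ M.subtype_injective).toEquiv, hK]
    obtain ⟨S, hS⟩ := (IsPGroup.of_card (p := 3) (n := 3) hK').exists_le_sylow
    have hSe : K.map M.subtype = (S : Subgroup G) :=
      eq_of_le_of_card_ge hS (by rw [h.card_three, hK']; norm_num)
    have hSM : (S : Subgroup G) ≤ M := hSe ▸ map_subtype_le K
    obtain ⟨g, hg, hge⟩ := exists_conj_sylow hPX (hSM.trans hMX)
    have hxM : x ∈ M := by
      have hm : g * x * g⁻¹ ∈ M := hSM (by rw [← hge, Sylow.coe_subgroup_smul]; exact ⟨x, hx, rfl⟩)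
      exact (mem_normalizer_iff.1 (hXM hg) x).2 hm
    obtain ⟨⟨a, ha, hax⟩, -⟩ := mem_inf.1 hxM
    rw [show a = xX from Subtype.ext hax] at ha
    have h1 : F xX = 1 := by
      have := (mem_klein.1 ha).1
      rw [this, one_mul] at hx3
      exact hx3
    exact hncomm (by rw [h1, one_mul, mul_one])
  have hcomm : ∀ (R : Sylow 3 G), D ≤ (R : Subgroup G) → ∀ a ∈ (R : Subgroup G), a ∈ centralizer (D : Set G) :=
    fun R hR a ha => mem_centralizer_iff.2 fun d hd => sylow_comm hab R d (hR hd) a ha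
  have hxC := hcomm P hDP x hx
  have hyC := hcomm Q (hQD.symm.le.trans inf_le_right) y hy
  have hcM : (cX : G) ∈ M := mem_inf.2 ⟨⟨cX, hk, rfl⟩,
    mul_mem (mul_mem (mul_mem hxC hyC) (inv_mem hxC)) (inv_mem hyC)⟩
  refine h.semiregular_absurd (X := X) (D := D) (M := M) (c := (cX : G)) (x := x) hX hD le_rfl le_normalizer hXM hMX
    hDM inf_le_right hM27 hcM (hPX hx) (h.pow_three P hx) ?_ fun g hg => Or.inl ?_
  · intro e
    set wX : X := cX * xX * cX⁻¹ * xX⁻¹ with hwX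
    have he : wX ^ 9 = 1 := Subtype.ext e
    have hw : F wX = F cX * F xX * (F cX)⁻¹ * (F xX)⁻¹ := by simp [hwX]
    have hwk : F wX ∈ klein := by
      rw [hw, show F cX * F xX * (F cX)⁻¹ * (F xX)⁻¹ = F cX * (F xX * (F cX)⁻¹ * (F xX)⁻¹) by group]
      exact mul_mem hk (klein_conj _ _ (mem_klein.1 (inv_mem hk)))
    have h9 : F wX ^ 9 = F wX := by
      rw [pow_succ, show (8 : ℕ) = 2 * 4 by norm_num, pow_mul, pow_two, (mem_klein.1 hwk).1, one_pow, one_mul]
    rw [← map_pow, he, map_one, hw] at h9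
    exact hk' h9.symm
  · rw [eq_bot_iff]
    intro d hd
    rw [mem_bot]
    by_contra hd1
    exact hg (halone d hd.2 hd1 g (mem_point_stabilizer.1 hd.1).2)

end Cfsg.Lib.Recog.G2Two
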