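import Cfsg.Agent.Lib.Recog.G2Two.Frames

/-!
# The possible complements, up to a change of labels
-/

set_option autoImplicit false
set_option linter.style.haveILetI false
set_option linter.unusedSectionVars false

namespace Cfsg.Lib.Recog.G2Two

open Subgroup MulAction Pointwise

universe u

/-- A packed permutation of the labels, fixing the last point. -/
def enc (σ : Equiv.Perm (Fin 27)) : ℕ :=
  pack ((List.range 28).map fun i => if h : i < 27 then (σ ⟨i, h⟩).1 else 27)

theorem pget_pack_map (f : ℕ → ℕ) (hf : ∀ i < 28, f i < 32) {i : ℕ} (hi : i < 28) :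
    pget (pack ((List.range 28).map f)) i = f i := by
  rw [pget_pack _ (fun a ha => by
    obtain ⟨j, hj, rfl⟩ := List.mem_map.1 ha
    exact hf j (List.mem_range.1 hj)) i (by simpa using hi), List.getD_eq_getElem?_getD]
  simp [hi]

theorem pget_enc (σ : Equiv.Perm (Fin 27)) (i : Fin 27) : pget (enc σ) i = (σ i).1 := by
  rw [enc, pget_pack_map _ (fun j _ => by split <;> omega) (by omega)]
  simp [i.2]

theorem pget_enc_last (σ : Equiv.Perm (Fin 27)) : pget (enc σ) 27 = 27 := by
  rw [enc, pget_pack_map _ (fun j _ => by split <;> omega) (by omega)]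
  simp

theorem enc_injective : Function.Injective enc := fun σ τ e => Equiv.ext fun i => Fin.ext (by
  rw [← pget_enc, ← pget_enc, e])

theorem pmul_enc (σ τ : Equiv.Perm (Fin 27)) : pmul (enc σ) (enc τ) = enc (σ * τ) := by
  rw [pmul_eq]
  conv_rhs => rw [enc]
  congr 1
  refine List.map_congr_left fun i hi => ?_
  rw [List.mem_range] at hi
  by_cases h : i < 27
  · rw [dif_pos h, pget_enc τ ⟨i, h⟩, pget_enc σ]; rfl
  · rw [dif_neg h, show i = 27 by omega, pget_enc_last, pget_enc_last]

/-- A number packs an automorphism of the table. -/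
def autTp (e n : ℕ) : Bool :=
  Nat.beq ((List.range 27).foldl (fun acc i => acc + 2 ^ pget n i) 0) (2 ^ 27 - 1) &&
    (Nat.beq (pack ((List.range 28).map fun i => if i < 27 then pget n i else 27)) n &&
      (List.range 27).all fun i => decide (pget n i < 27) &&
        (List.range 27).all fun j => Nat.beq (pget n (mulN e i j)) (mulN e (pget n i) (pget n j)) &&
          (decide (i = j) || !(Nat.beq (pget n i) (pget n j))))

theorem exists_of_autTp {e n : ℕ} (hn : autTp e n = true) : ∃ σ ∈ autF e, enc σ = n := by
  simp only [autTp, Bool.and_eq_true, List.all_eq_true, List.mem_range, decide_eq_true_eq, Bool.or_eq_true,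
    Bool.not_eq_true'] at hn
  obtain ⟨-, hp, hall⟩ := hn
  let f : Fin 27 → Fin 27 := fun i => ⟨pget n i, (hall i i.2).1⟩
  have hinj : Function.Injective f := fun i j e' => by
    by_contra hne
    rcases ((hall i i.2).2 j j.2).2 with h | h
    · exact hne (Fin.ext h)
    · exact absurd (congrArg Fin.val e' : pget n i = pget n j) (Nat.ne_of_beq_eq_false h)
  refine ⟨Equiv.ofBijective f (Finite.injective_iff_bijective.1 hinj), fun i j => Fin.ext ?_, ?_⟩
  · exact Nat.eq_of_beq_eq_true ((hall i i.2).2 j j.2).1
  · conv_rhs => rw [← Nat.eq_of_beq_eq_true hp]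
    rw [enc]
    congr 1

/-- The conditions on a list of packed automorphisms to be a subgroup. -/
def groupTp (e : ℕ) (l : List ℕ) : Bool :=
  (l.all fun a => autTp e a) && (l.contains (enc 1) && (decide l.Nodup && l.all fun a => l.all fun b => l.contains (pmul a b)))

/-- The subgroup of a list of packed automorphisms. -/
def listGroup {e : ℕ} {l : List ℕ} (hl : groupTp e l = true) : Subgroup (Equiv.Perm (Fin 27)) where
  carrier := {σ | σ ∈ autF e ∧ enc σ ∈ l}
  one_mem' := ⟨one_mem _, by
    simp only [groupTp, Bool.and_eq_true, List.contains_iff_mem] at hl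
    exact hl.2.1⟩
  mul_mem' := by
    rintro a b ⟨ha, ha'⟩ ⟨hb, hb'⟩
    simp only [groupTp, Bool.and_eq_true, List.all_eq_true, List.contains_iff_mem] at hl
    exact ⟨mul_mem ha hb, pmul_enc a b ▸ hl.2.2.2 _ ha' _ hb'⟩
  inv_mem' := by
    rintro a ⟨ha, ha'⟩
    simp only [groupTp, Bool.and_eq_true, List.all_eq_true, List.contains_iff_mem] at hl
    have hpow : ∀ k : ℕ, a ^ k ∈ autF e ∧ enc (a ^ k) ∈ l := by
      intro k
      induction k with
      | zero => exact ⟨one_mem _, hl.2.1⟩
      | succ k ih => rw [pow_succ]; exact ⟨mul_mem ih.1 ha, pmul_enc _ a ▸ hl.2.2.2 _ ih.2 _ ha'⟩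
    have he : a⁻¹ = a ^ (orderOf a - 1) := inv_eq_of_mul_eq_one_right (by
      rw [← pow_succ', Nat.sub_add_cancel (orderOf_pos a), pow_orderOf_eq_one])
    rw [he]
    exact hpow _

theorem card_listGroup {e : ℕ} {l : List ℕ} (hl : groupTp e l = true) : Nat.card (listGroup hl) = l.length := by
  have hl' := hl
  simp only [groupTp, Bool.and_eq_true, List.all_eq_true, decide_eq_true_eq] at hl'
  rw [← List.toFinset_card_of_nodup hl'.2.2.1, ← Nat.card_eq_finsetCard]
  refine Nat.card_congr (Equiv.ofBijective (fun σ => ⟨enc σ.1, List.mem_toFinset.2 σ.2.2⟩) ⟨fun a b e' => ?_, ?_⟩)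
  · exact Subtype.ext (enc_injective (congrArg Subtype.val e' :))
  · rintro ⟨n, hn⟩
    obtain ⟨σ, hσ, e'⟩ := exists_of_autTp (hl'.1 n (List.mem_toFinset.1 hn))
    exact ⟨⟨σ, hσ, e'.symm ▸ List.mem_toFinset.1 hn⟩, Subtype.ext e'⟩

theorem eq_beq_of_iff {x y z : Bool} (h : x = true ↔ (y = true ↔ z = true)) : x = (y == z) := by
  cases x <;> cases y <;> cases z <;> simp_all

theorem groupTp_He : groupTp 1 modelH.tp = true := by decide +kernel

theorem groupTp_sylow : groupTp 0 sylowTp = true := by decide +kernel

/-- The models with componentwise table. -/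
def abelModels : List Model := [model001, model010, model011, model100, model101, model110, model111]

/-- The membership pattern of an index two subgroup determined on the generators. -/
def par (c : List Bool) : List Bool :=
  sylowProg.foldl (fun acc s => acc ++ [acc.getD s.1 false == c.getD s.2 false]) [true]

theorem par_rec : ∀ x y z : Bool, ∀ k : Fin 31,
    (sylowProg.getD k.1 (0, 0)).1 ≤ k.1 ∧ (sylowProg.getD k.1 (0, 0)).2 < 3 ∧
    (par [x, y, z]).getD (k.1 + 1) false =
      ((par [x, y, z]).getD (sylowProg.getD k.1 (0, 0)).1 false == [x, y, z].getD (sylowProg.getD k.1 (0, 0)).2 false) := by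
  decide +kernel

theorem sylow_steps : ∀ k : Fin 31, pmul (sylowTp.getD (sylowProg.getD k.1 (0, 0)).1 0)
    (sylowTp.getD (sylowGens.getD (sylowProg.getD k.1 (0, 0)).2 0) 0) = sylowTp.getD (k.1 + 1) 0 := by decide +kernel

theorem sylow_gens_lt : ∀ j : Fin 3, sylowGens.getD j.1 0 < 32 := by decide +kernel

theorem par_models : ∀ x y z : Bool, (x && y && z) = false →
    (abelModels.any fun m => m.twist == 0 &&
      ((List.range 32).all fun a => !((par [x, y, z]).getD a false) || m.tp.contains (sylowTp.getD a 0)) &&
      (m.tp.all fun n => (List.range 32).any fun a => (par [x, y, z]).getD a false && Nat.beq (sylowTp.getD a 0) n)) =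
      true := by
  decide +kernel

theorem par_all : ∀ a : Fin 32, (par [true, true, true]).getD a.1 false = true := by decide +kernel

variable {G : Type u} [Group G] [Finite G] [Fact (Nat.Prime 3)] {P : Sylow 3 G}

/-- The complement is one of the models in suitable labels. -/
theorem Hyp.exists_model (h : Hyp G) {T : Subgroup G} (hC : Compl P T) :
    ∃ m : Model, (m = modelH ∨ m ∈ abelModels) ∧ ∃ L : Lab P m.twist,
      (∀ t, enc (L.theta hC t) ∈ m.tp) ∧ ∀ n ∈ m.tp, ∃ t, enc (L.theta hC t) = n := by
  classical
  haveI : Fact (Nat.Prime 2) := ⟨Nat.prime_two⟩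
  have h28 := h.card_sylow_three
  have hT : Nat.card T = 16 := by rcases h.n_cases P hC with ⟨-, e⟩ | ⟨e, -⟩ <;> omega
  obtain ⟨e, ⟨L⟩⟩ := h.exists_lab P
  have hcard : ∀ L' : Lab P e, Nat.card (L'.theta hC).range = 16 := fun L' =>
    (Nat.card_congr (MonoidHom.ofInjective (L'.theta_injective h h28 hC)).toEquiv).symm.trans hT
  have h2 : IsPGroup 2 (L.theta hC).range := hC.two.of_surjective (L.theta hC).rangeRestrict (L.theta hC).rangeRestrict_surjective
  have hle : (L.theta hC).range ≤ autF e := by rintro _ ⟨t, rfl⟩; exact L.theta_mem hC t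
  fin_cases e
  · -- componentwise table
    change Lab P 0 at L
    change (L.theta hC).range ≤ autF 0 at hle
    change ∀ L' : Lab P 0, _ at hcard
    obtain ⟨σ, hσ, hconj⟩ := conj_into_largest (B := autF 0) (S₀ := listGroup groupTp_sylow) (k := 5)
      (fun a ha => ha.1) hle (by rw [card_listGroup]; rfl) (fun R hR hR2 => two_subgroup_le' hR hR2) h2
    set L' := L.relabel hσ with hL'
    set S := listGroup groupTp_sylow with hSdef
    set U := (L'.theta hC).range with hU
    have hUS : U ≤ S := by
      rintro _ ⟨t, rfl⟩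
      rw [hL', Lab.theta_relabel]
      exact hconj _ ⟨t, rfl⟩
    have hidx : (U.subgroupOf S).index = 2 := by
      have e2 := (U.subgroupOf S).index_mul_card
      have hU16 : Nat.card U = 16 := hcard L'
      have hS32 : Nat.card S = 32 := (card_listGroup groupTp_sylow).trans rfl
      rw [Nat.card_congr (subgroupOfEquivOfLe hUS).toEquiv, hU16, hS32] at e2
      omega
    let K : ℕ → Bool := fun a => decide (∃ t, enc (L'.theta hC t) = sylowTp.getD a 0)
    have hel : ∀ a, a < 32 → ∃ s : S, enc s.1 = sylowTp.getD a 0 := fun a ha => by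
      have hm : sylowTp.getD a 0 ∈ sylowTp := by
        have hlen : a < sylowTp.length := ha
        rw [List.getD_eq_getElem?_getD, List.getElem?_eq_getElem hlen]
        exact List.getElem_mem hlen
      have hg := groupTp_sylow
      simp only [groupTp, Bool.and_eq_true, List.all_eq_true] at hg
      obtain ⟨σ, hσ, e2⟩ := exists_of_autTp (hg.1 _ hm)
      exact ⟨⟨σ, hσ, e2.symm ▸ hm⟩, e2⟩
    have hK : ∀ a (s : S), a < 32 → enc s.1 = sylowTp.getD a 0 → (K a = true ↔ s ∈ U.subgroupOf S) := by
      intro a s _ hs
      simp only [K, decide_eq_true_eq, mem_subgroupOf]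
      constructor
      · rintro ⟨t, ht⟩
        exact ⟨t, enc_injective (ht.trans hs.symm)⟩
      · rintro ⟨t, ht⟩
        exact ⟨t, by rw [ht, hs]⟩
    set c := [K (sylowGens.getD 0 0), K (sylowGens.getD 1 0), K (sylowGens.getD 2 0)] with hc
    have hpar : ∀ a, a < 32 → K a = (par c).getD a false := by
      intro a
      induction a using Nat.strong_induction_on with
      | _ a ih =>
        intro ha
        rcases a with _ | k
        · have h0 : (par c).getD 0 false = true := by
            rcases Bool.eq_false_or_eq_true (K (sylowGens.getD 0 0)) with e0 | e0 <;>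
              rcases Bool.eq_false_or_eq_true (K (sylowGens.getD 1 0)) with e1 | e1 <;>
              rcases Bool.eq_false_or_eq_true (K (sylowGens.getD 2 0)) with e2 | e2 <;>
              rw [hc, e0, e1, e2] <;> decide +kernel
          rw [h0]
          obtain ⟨s, hs⟩ := hel 0 (by norm_num)
          refine (hK 0 s (by norm_num) hs).2 ?_
          have : s = 1 := Subtype.ext (enc_injective (hs.trans (by decide +kernel)))
          rw [this]; exact one_mem _
        · obtain ⟨hb, hj, hrec⟩ := par_rec (K (sylowGens.getD 0 0)) (K (sylowGens.getD 1 0)) (K (sylowGens.getD 2 0))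
            ⟨k, by omega⟩
          rw [hc, hrec]
          have hstep := sylow_steps ⟨k, by omega⟩
          set b := (sylowProg.getD k (0, 0)).1 with hbdef
          set j := (sylowProg.getD k (0, 0)).2 with hjdef
          have hgj : sylowGens.getD j 0 < 32 := sylow_gens_lt ⟨j, hj⟩
          obtain ⟨sb, hsb⟩ := hel b (by simp at hb; omega)
          obtain ⟨sg, hsg⟩ := hel _ hgj
          have hprod : enc (sb * sg).1 = sylowTp.getD (k + 1) 0 := by
            rw [Subgroup.coe_mul, ← pmul_enc, hsb, hsg]
            exact hstep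
          have hiff := (hK (k + 1) (sb * sg) ha hprod).trans (mul_mem_iff_of_index_two hidx)
          rw [← hK b sb (by simp at hb; omega) hsb, ← hK _ sg hgj hsg] at hiff
          rw [ih b (by simp at hb; omega) (by simp at hb; omega)] at hiff
          have hcj : K (sylowGens.getD j 0) =
              [K (sylowGens.getD 0 0), K (sylowGens.getD 1 0), K (sylowGens.getD 2 0)].getD j false := by
            rcases show j = 0 ∨ j = 1 ∨ j = 2 by omega with e0 | e0 | e0 <;> rw [e0] <;> rfl
          rw [hcj, hc] at hiff
          exact eq_beq_of_iff hiff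
    have hnall : (K (sylowGens.getD 0 0) && K (sylowGens.getD 1 0) && K (sylowGens.getD 2 0)) = false := by
      by_contra hne
      rw [Bool.not_eq_false, Bool.and_eq_true, Bool.and_eq_true] at hne
      obtain ⟨⟨e0, e1⟩, e2⟩ := hne
      have hSU : S ≤ U := by
        intro s hs
        obtain ⟨a, ha, hae⟩ := List.getElem_of_mem hs.2
        have ha' : a < 32 := ha
        have := hpar a ha'
        rw [hc, e0, e1, e2, par_all ⟨a, ha'⟩] at this
        exact (hK a ⟨s, hs⟩ ha' (by rw [List.getD_eq_getElem?_getD, List.getElem?_eq_getElem ha]; exact hae.symm)).1 this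
      have := card_le_of_le hSU
      rw [hcard L', hSdef, card_listGroup] at this
      exact absurd this (by decide)
    obtain ⟨m, hm, hmt⟩ := List.any_eq_true.1 (par_models _ _ _ hnall)
    simp only [Bool.and_eq_true, List.all_eq_true, List.any_eq_true, beq_iff_eq, List.mem_range, Bool.or_eq_true,
      Bool.not_eq_true', List.contains_iff_mem] at hmt
    obtain ⟨⟨htw, hfw⟩, hbw⟩ := hmt
    refine ⟨m, Or.inr hm, ?_⟩
    rw [htw]
    refine ⟨L', fun t => ?_, fun n hn => ?_⟩
    · obtain ⟨a, ha, hae⟩ := List.getElem_of_mem ((hUS ⟨t, rfl⟩ : L'.theta hC t ∈ S).2)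
      have ha' : a < 32 := ha
      have hget : sylowTp.getD a 0 = enc (L'.theta hC t) := by
        rw [List.getD_eq_getElem?_getD, List.getElem?_eq_getElem ha]; exact hae
      have hKa : K a = true := by simp only [K, decide_eq_true_eq]; exact ⟨t, hget.symm⟩
      rw [hpar a ha', hc] at hKa
      rcases hfw a ha' with e0 | e0
      · rw [e0] at hKa; exact absurd hKa (by simp)
      · exact hget ▸ e0
    · obtain ⟨a, ha, hpa, hbe⟩ := hbw n hn
      have hKa := hpar a ha
      rw [hc, hpa] at hKa
      simp only [K, decide_eq_true_eq] at hKa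
      obtain ⟨t, ht⟩ := hKa
      exact ⟨t, ht.trans (Nat.eq_of_beq_eq_true hbe)⟩
  · -- Heisenberg table
    change Lab P modelH.twist at L
    change (L.theta hC).range ≤ autF modelH.twist at hle
    change ∀ L' : Lab P modelH.twist, _ at hcard
    obtain ⟨σ, hσ, hconj⟩ := conj_into_largest (B := autF modelH.twist) (S₀ := listGroup groupTp_He) (k := 4)
      (fun a ha => ha.1) hle (by rw [card_listGroup]; rfl) (fun R hR hR2 => two_subgroup_le hR hR2) h2
    refine ⟨modelH, Or.inl rfl, L.relabel hσ, ?_, ?_⟩
    · intro t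
      rw [Lab.theta_relabel]
      exact (hconj _ ⟨t, rfl⟩).2
    · intro n hn
      have hsub : ((L.relabel hσ).theta hC).range ≤ listGroup groupTp_He := by
        rintro _ ⟨t, rfl⟩
        rw [Lab.theta_relabel]
        exact hconj _ ⟨t, rfl⟩
      have hg := groupTp_He
      simp only [groupTp, Bool.and_eq_true, List.all_eq_true] at hg
      obtain ⟨s, hs, e2⟩ := exists_of_autTp (hg.1 n hn)
      have heq := eq_of_le_of_card_ge hsub
        (((card_listGroup groupTp_He).trans (rfl : modelH.tp.length = 16)).le.trans (hcard (L.relabel hσ)).ge)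
      obtain ⟨t, ht⟩ := heq.ge (show s ∈ listGroup groupTp_He from ⟨hs, e2.symm ▸ hn⟩)
      exact ⟨t, by rw [ht, e2]⟩

end Cfsg.Lib.Recog.G2Two
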