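import Mathlib.GroupTheory.Sylow
import Mathlib.GroupTheory.GroupAction.Quotient
import Mathlib.Algebra.Group.Subgroup.Pointwise

/-!
# Counting Sylow subgroups by their intersection with a fixed one
-/

set_option autoImplicit false
set_option linter.style.haveILetI false

namespace Cfsg.Lib.Recog.G2Two

open Subgroup MulAction Pointwise

universe u

/-- If all stabilisers are equal, their index divides the number of points. -/
theorem index_dvd_card_of_stabilizer {A α : Type u} [Group A] [MulAction A α] [Finite A] [Finite α]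
    (S : Subgroup A) (h : ∀ a : α, stabilizer A a = S) : S.index ∣ Nat.card α := by
  classical
  letI : Fintype (MulAction.orbitRel.Quotient A α) := Fintype.ofFinite _
  rw [Nat.card_congr (selfEquivSigmaOrbitsQuotientStabilizer A α), Nat.card_sigma]
  refine Finset.dvd_sum fun ω _ => ?_
  rw [← Subgroup.index_eq_card, h]

variable {G : Type u} [Group G] [Finite G] {p : ℕ} [Fact p.Prime]

/-- The Sylow subgroups other than `P` meeting it in `S`. -/
abbrev fib (P : Sylow p G) (S : Subgroup G) : Type u :=
  {Q : Sylow p G // Q ≠ P ∧ (P : Subgroup G) ⊓ (Q : Subgroup G) = S}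

theorem smul_inf_eq {P Q : Sylow p G} {g : G} (hg : g ∈ normalizer ((P : Subgroup G) : Set G)) :
    (P : Subgroup G) ⊓ ((g • Q : Sylow p G) : Subgroup G) =
      MulAut.conj g • ((P : Subgroup G) ⊓ (Q : Subgroup G)) := by
  rw [Sylow.coe_subgroup_smul, Subgroup.smul_inf]
  congr 1
  rw [← Sylow.coe_subgroup_smul, Sylow.smul_eq_iff_mem_normalizer.2 hg]

theorem conj_smul_eq_self {S : Subgroup G} {g : G} (hg : g ∈ normalizer (S : Set G)) :
    MulAut.conj g • S = S := by
  ext x
  rw [Subgroup.mem_pointwise_smul_iff_inv_smul_mem]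
  simp only [MulAut.smul_def, ← map_inv, MulAut.conj_apply, inv_inv]
  have := mem_normalizer_iff.1 (inv_mem hg) x
  rw [inv_inv] at this
  exact this.symm

/-- The index of a normal subgroup `S` of `P` divides the number of Sylow subgroups meeting `P` in `S`. -/
theorem fib_dvd (P : Sylow p G) {S : Subgroup G} (hSP : S ≤ (P : Subgroup G))
    (hn : (P : Subgroup G) ≤ normalizer (S : Set G)) :
    (S.subgroupOf (P : Subgroup G)).index ∣ Nat.card (fib P S) := by
  letI : MulAction (P : Subgroup G) (fib P S) :=
    { smul := fun g Q => ⟨(g : G) • Q.1, fun e => Q.2.1 (by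
          rw [← smul_left_cancel_iff (g : G), e, Sylow.smul_eq_iff_mem_normalizer.2 (le_normalizer g.2)]),
        by rw [smul_inf_eq (le_normalizer g.2), Q.2.2, conj_smul_eq_self (hn g.2)]⟩
      one_smul := fun Q => Subtype.ext (one_smul G Q.1)
      mul_smul := fun a b Q => Subtype.ext (mul_smul (a : G) (b : G) Q.1) }
  refine index_dvd_card_of_stabilizer _ fun Q => ?_
  ext g
  rw [mem_stabilizer_iff, mem_subgroupOf]
  have key : (g : G) • Q.1 = Q.1 ↔ (g : G) ∈ S := by
    rw [Sylow.smul_eq_iff_mem_normalizer]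
    constructor
    · intro hg
      have : (g : G) ∈ (P : Subgroup G) ⊓ normalizer ((Q.1 : Subgroup G) : Set G) := ⟨g.2, hg⟩
      have h2 : (P : Subgroup G) ⊓ normalizer ((Q.1 : Subgroup G) : Set G) = (P : Subgroup G) ⊓ (Q.1 : Subgroup G) :=
        P.isPGroup'.inf_normalizer_sylow Q.1
      rwa [h2, Q.2.2] at this
    · intro hg
      rw [← Q.2.2] at hg
      exact le_normalizer hg.2
  exact ⟨fun e => key.1 (congrArg Subtype.val e), fun hg => Subtype.ext (key.2 hg)⟩

/-- A normal subgroup of prime power order lies in the Sylow subgroups of a group containing them. -/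
theorem le_of_normal_le {Q : Sylow p G} {S : Subgroup G} (hS : IsPGroup p S)
    (hn : (Q : Subgroup G) ≤ normalizer (S : Set G)) : S ≤ (Q : Subgroup G) :=
  sup_eq_left.1 (Q.is_maximal' (Q.isPGroup'.to_sup_of_normal_right' hS hn) le_sup_left)

/-- The Sylow subgroups inside a subgroup containing one. -/
theorem card_sylow_le (H : Subgroup G) (P : Sylow p G) (hP : (P : Subgroup G) ≤ H) :
    Nat.card {Q : Sylow p G // (Q : Subgroup G) ≤ H} = Nat.card (Sylow p H) := by
  refine Nat.card_congr (Equiv.ofBijective (fun Q => Q.1.subtype Q.2) ⟨fun a b e => ?_, fun T => ?_⟩)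
  · exact Subtype.ext (Sylow.subtype_injective e)
  · obtain ⟨h, rfl⟩ := exists_smul_eq H (P.subtype hP) T
    exact ⟨⟨(h : G) • P, Sylow.smul_le hP h⟩, (Sylow.smul_subtype hP h).symm⟩

/-- The order of a subgroup containing a Sylow subgroup. -/
theorem card_eq_mul_card_sylow (H : Subgroup G) (P : Sylow p G) (hP : (P : Subgroup G) ≤ H) :
    Nat.card H = Nat.card (Sylow p H) * Nat.card ↥(H ⊓ normalizer ((P : Subgroup G) : Set G)) := by
  have e := (normalizer (((P.subtype hP : Sylow p H) : Subgroup H) : Set H)).index_mul_card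
  rw [show (normalizer (((P.subtype hP : Sylow p H) : Subgroup H) : Set H)).index = Nat.card (Sylow p H) from
    (P.subtype hP).card_eq_index_normalizer.symm] at e
  rw [← e]
  congr 1
  have hmap : (normalizer (((P.subtype hP : Sylow p H) : Subgroup H) : Set H)).map H.subtype =
      H ⊓ normalizer ((P : Subgroup G) : Set G) := by
    ext g
    simp only [mem_map, mem_inf, Subgroup.coe_subtype, Sylow.coe_subtype]
    constructor
    · rintro ⟨x, hx, rfl⟩
      refine ⟨x.2, mem_normalizer_iff.2 fun y => ⟨fun hy => ?_, fun hy => ?_⟩⟩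
      · have := (mem_normalizer_iff.1 hx ⟨y, hP hy⟩).1 (by simpa [mem_subgroupOf] using hy)
        simpa [mem_subgroupOf] using this
      · have hyH : y ∈ H := by
          have := H.mul_mem (H.mul_mem (H.inv_mem x.2) (hP hy)) x.2
          simpa [mul_assoc] using this
        have := (mem_normalizer_iff.1 hx ⟨y, hyH⟩).2 (by simpa [mem_subgroupOf] using hy)
        simpa [mem_subgroupOf] using this
    · rintro ⟨hgH, hg⟩
      refine ⟨⟨g, hgH⟩, mem_normalizer_iff.2 fun y => ?_, rfl⟩
      simp only [mem_subgroupOf, Subgroup.coe_mul, Subgroup.coe_inv]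
      exact mem_normalizer_iff.1 hg y
  rw [← hmap]
  exact Nat.card_congr (equivMapOfInjective _ _ H.subtype_injective).toEquiv

/-- The Sylow subgroups other than `P`, fibred by their intersections with `P`. -/
theorem sum_fib (P : Sylow p G) [Fintype (Subgroup G)] :
    ∑ S : Subgroup G, Nat.card (fib P S) = Nat.card (Sylow p G) - 1 := by
  classical
  letI := Fintype.ofFinite (Sylow p G)
  have e : (Σ S : Subgroup G, fib P S) ≃ {Q : Sylow p G // Q ≠ P} :=
    { toFun := fun x => ⟨x.2.1, x.2.2.1⟩
      invFun := fun Q => ⟨(P : Subgroup G) ⊓ (Q.1 : Subgroup G), ⟨Q.1, Q.2, rfl⟩⟩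
      left_inv := by
        rintro ⟨S, Q, hQ, rfl⟩
        rfl
      right_inv := fun Q => rfl }
  rw [← Nat.card_sigma, Nat.card_congr e, Nat.card_eq_fintype_card, Fintype.card_subtype_compl,
    Fintype.card_subtype_eq, ← Nat.card_eq_fintype_card]

/-- The Sylow subgroups containing a subgroup of `P`, apart from `P`. -/
theorem card_containing (P : Sylow p G) {T : Subgroup G} (hT : T ≤ (P : Subgroup G)) :
    Nat.card {Q : Sylow p G // T ≤ (Q : Subgroup G)} =
      Nat.card {Q : Sylow p G // Q ≠ P ∧ T ≤ (Q : Subgroup G)} + 1 := by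
  classical
  rw [← Finite.card_option]
  refine Nat.card_congr
    { toFun := fun Q => if h : Q.1 = P then none else some ⟨Q.1, h, Q.2⟩
      invFun := fun o => o.elim ⟨P, hT⟩ fun Q => ⟨Q.1, Q.2.2⟩
      left_inv := fun Q => by
        by_cases h : Q.1 = P
        · simp only [h, dif_pos]; exact Subtype.ext h.symm
        · simp [h]
      right_inv := by rintro (_ | ⟨Q, hQ, hTQ⟩) <;> simp_all }

end Cfsg.Lib.Recog.G2Two
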