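import Cfsg.Agent.Lib.Recog.G2Two.Heis
import Cfsg.Agent.Lib.Recog.G2Two.Abelian

/-!
# Twenty-eight Sylow `3`-subgroups meet trivially
-/

set_option autoImplicit false
set_option linter.style.haveILetI false
set_option linter.unusedSectionVars false

namespace Cfsg.Lib.Recog.G2Two

open Subgroup MulAction Pointwise

universe u

variable {G : Type u} [Group G] [Finite G] [Fact (Nat.Prime 3)]

local notation "N(" P ")" => normalizer ((P : Subgroup G) : Set G)

/-- An element fixing all Sylow `3`-subgroups is trivial. -/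
theorem Hyp.eq_one_of_fix_all (h : Hyp G) {k : G} (hk : ∀ Q : Sylow 3 G, k • Q = Q) : k = 1 := by
  obtain ⟨P⟩ : Nonempty (Sylow 3 G) := inferInstance
  refine h.coset_faithful (h.not_seven_dvd (j := 3) (by norm_num) (S := (P : Subgroup G))
    (by rw [h.card_three]; norm_num) (H := N(P)) le_rfl) fun c => ?_
  refine c.inductionOn fun g => ?_
  rw [MulAction.Quotient.smul_mk, QuotientGroup.eq]
  refine Sylow.smul_eq_iff_mem_normalizer.1 ?_
  rw [smul_eq_mul, mul_inv_rev, mul_smul, mul_smul]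
  have hki : k⁻¹ • g • P = g • P := inv_smul_eq_iff.2 (hk (g • P)).symm
  rw [hki, inv_smul_smul]

/-- The stabiliser in `P` of another Sylow subgroup is their intersection. -/
theorem smul_eq_iff_mem {P Q : Sylow 3 G} {g : G} (hg : g ∈ (P : Subgroup G)) :
    g • Q = Q ↔ g ∈ (Q : Subgroup G) := by
  rw [Sylow.smul_eq_iff_mem_normalizer]
  refine ⟨fun hn => ?_, fun hq => le_normalizer hq⟩
  have h2 : (P : Subgroup G) ⊓ N(Q) = (P : Subgroup G) ⊓ (Q : Subgroup G) :=
    P.isPGroup'.inf_normalizer_sylow Q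
  have hm : g ∈ (P : Subgroup G) ⊓ N(Q) := mem_inf.2 ⟨hg, hn⟩
  rw [h2] at hm
  exact hm.2

/-- The orbit lengths of `P`. -/
theorem Hyp.orbit_ncard (h : Hyp G) (P Q : Sylow 3 G) :
    (orbit (P : Subgroup G) Q).ncard * Nat.card ↥((P : Subgroup G) ⊓ (Q : Subgroup G)) = 27 := by
  rw [← index_stabilizer]
  have e : stabilizer (P : Subgroup G) Q =
      ((P : Subgroup G) ⊓ (Q : Subgroup G)).subgroupOf (P : Subgroup G) := by
    ext g
    rw [mem_stabilizer_iff, mem_subgroupOf, mem_inf]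
    exact (smul_eq_iff_mem g.2).trans (and_iff_right g.2).symm
  have := (((P : Subgroup G) ⊓ (Q : Subgroup G)).subgroupOf (P : Subgroup G)).index_mul_card
  rw [Nat.card_congr (subgroupOfEquivOfLe inf_le_left).toEquiv, h.card_three] at this
  rw [e, this]

/-- A `2`-element commuting with `P` fixes any point it moves within its `P`-orbit. -/
theorem Hyp.fix_of_orbit (h : Hyp G) {P Q : Sylow 3 G} {k g : G} {m : ℕ} (hk : k ^ 2 ^ m = 1)
    (hc : ∀ x ∈ (P : Subgroup G), k * x = x * k) (hg : g ∈ (P : Subgroup G)) (e : k • Q = g • Q) : k • Q = Q := by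
  have hpow : ∀ i : ℕ, k ^ i • Q = g ^ i • Q := by
    intro i
    induction i with
    | zero => simp
    | succ i ih =>
      rw [pow_succ', mul_smul, ih, ← mul_smul, hc _ (pow_mem hg i), mul_smul, e, ← mul_smul, ← pow_succ]
  have h2 : g ^ 2 ^ m • Q = Q := by rw [← hpow, hk, one_smul]
  have h3 : g ^ 3 • Q = Q := by rw [h.pow_three P hg, one_smul]
  have hmod : g ^ 2 ^ m = g ^ (2 ^ m % 3) := by
    conv_lhs => rw [← Nat.div_add_mod (2 ^ m) 3, pow_add, pow_mul, h.pow_three P hg, one_pow, one_mul]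
  have hne : 2 ^ m % 3 ≠ 0 := fun e0 => by
    have : 3 ∣ 2 ^ m := Nat.dvd_of_mod_eq_zero e0
    exact absurd (Nat.prime_three.dvd_of_dvd_pow this) (by norm_num)
  have hg1 : g • Q = Q := by
    rcases show 2 ^ m % 3 = 1 ∨ 2 ^ m % 3 = 2 by omega with e1 | e1
    · rwa [hmod, e1, pow_one] at h2
    · rw [hmod, e1] at h2
      conv_lhs => rw [← h2, ← mul_smul, ← pow_succ', h.pow_three P hg, one_smul]
  rw [e, hg1]

theorem HeisData.conj_data {h : Hyp G} {P : Sylow 3 G} (hH : HeisData h P) (Q : Sylow 3 G) : HeisData h Q :=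
  ⟨fun hab => hH.ne (sylow_comm hab P)⟩

/-- The cosets of a plane. -/
theorem Hyp.coset_cases (h : Hyp G) {P : Sylow 3 G} {D : Subgroup G} (hDP : D ≤ (P : Subgroup G))
    (hD : Nat.card D = 9) {x u : G} (hx : x ∈ (P : Subgroup G)) (hxD : x ∉ D) (hu : u ∈ (P : Subgroup G))
    (huD : u ∉ D) : x⁻¹ * u ∈ D ∨ x * u ∈ D := by
  haveI : (D.subgroupOf (P : Subgroup G)).Normal :=
    (normal_subgroupOf_iff_le_normalizer hDP).2 (h.plane hDP hD).1
  have hq : Nat.card ((P : Subgroup G) ⧸ D.subgroupOf (P : Subgroup G)) = 3 := by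
    have e := card_eq_card_quotient_mul_card_subgroup (D.subgroupOf (P : Subgroup G))
    rw [Nat.card_congr (subgroupOfEquivOfLe hDP).toEquiv, hD, h.card_three] at e
    omega
  set a : (P : Subgroup G) ⧸ D.subgroupOf (P : Subgroup G) := QuotientGroup.mk ⟨x, hx⟩ with ha
  set b : (P : Subgroup G) ⧸ D.subgroupOf (P : Subgroup G) := QuotientGroup.mk ⟨u, hu⟩ with hb
  have ha1 : a ≠ 1 := fun e => hxD (by
    rw [ha, QuotientGroup.eq_one_iff, mem_subgroupOf] at e; exact e)
  have hb1 : b ≠ 1 := fun e => huD (by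
    rw [hb, QuotientGroup.eq_one_iff, mem_subgroupOf] at e; exact e)
  have hmem : b ∈ zpowers a := by rw [zpowers_eq_top_of_prime_card hq ha1]; exact mem_top b
  have ha3 : a ^ 3 = 1 := by
    have := pow_card_eq_one' (x := a)
    rwa [hq] at this
  have ho : orderOf a = 3 := orderOf_eq_prime ha3 ha1
  classical
  rw [mem_zpowers_iff_mem_range_orderOf, ho] at hmem
  simp only [Finset.mem_image, Finset.mem_range] at hmem
  obtain ⟨i, hi, e⟩ := hmem
  interval_cases i
  · exact absurd (by rw [← e, pow_zero]) hb1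
  · left
    rw [pow_one, ha, hb, QuotientGroup.eq, mem_subgroupOf] at e
    exact e
  · right
    have e' : a⁻¹ = b := by
      rw [← e]
      exact inv_eq_of_mul_eq_one_right (by rw [← pow_succ', ha3])
    rw [ha, hb, ← QuotientGroup.mk_inv, QuotientGroup.eq, mem_subgroupOf] at e'
    simpa using e'

/-- The centre of a nonabelian Sylow subgroup is normalised only by its normalizer. -/
theorem HeisData.centre_normalizer_eq {h : Hyp G} {P : Sylow 3 G} (hH : HeisData h P)
    (h28 : Nat.card (Sylow 3 G) = 28) : normalizer (ctr P : Set G) = N(P) := by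
  obtain ⟨hn, hle⟩ := hH.centre_normalizer
  have hN := card_normalizer_mul h P
  rw [h28] at hN
  have h1 : Nat.card (Sylow 3 ↥(normalizer (ctr P : Set G))) = 1 := by
    simp only [Finset.mem_insert, Finset.mem_singleton] at hn
    rcases hn with hn | hn | hn <;> rw [hn] at hle <;> omega
  have hsub : N(P) ≤ normalizer (ctr P : Set G) := fun g hg => ctr_le_normalizer P hg
  have e := card_eq_mul_card_sylow (normalizer (ctr P : Set G)) P (le_normalizer.trans hsub)
  rw [h1, one_mul, inf_eq_right.2 hsub] at e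
  exact (eq_of_le_of_card_ge hsub e.le).symm

/-- There are no planes. -/
theorem HeisData.no_planes {h : Hyp G} {P : Sylow 3 G} (hH : HeisData h P)
    (h28 : Nat.card (Sylow 3 G) = 28) : planes P = ∅ := by
  classical
  obtain ⟨T, hC⟩ := h.exists_complement P
  have hT : Nat.card T = 16 := by rcases h.n_cases P hC with ⟨-, e⟩ | ⟨e, -⟩ <;> omega
  have hfib : ∀ D ∈ planes P, Nat.card (fib P D) = 3 ∧ Nat.card ↥(T ⊓ normalizer (D : Set G)) ≤ 8 := by
    intro D hD
    obtain ⟨hDP, hD9, hne⟩ := mem_planes.1 hD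
    have e := h.plane_fib P hDP hD9
    have hpos : 0 < Nat.card (fib P D) := Nat.card_pos
    obtain ⟨hn, hle⟩ := hH.card_normalizer_plane hC hDP hD9
    have h4 := hH.stab_plane hC hDP hD9
    rw [hT] at h4
    simp only [Finset.mem_insert, Finset.mem_singleton] at hn
    rcases hn with hn | hn | hn <;> rw [hn] at hle e <;> omega
  have hp4 : (planes P).card ≤ 4 := hH.card_planes_le _ fun D hD => ⟨(mem_planes.1 hD).1, (mem_planes.1 hD).2.1⟩
  have h9 : Nat.card (meetCard P 9) = 3 * (planes P).card := by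
    rw [card_meet_nine P, Finset.sum_congr rfl fun D hD => (hfib D hD).1, Finset.sum_const, smul_eq_mul, mul_comm]
  have h3 : 9 ∣ Nat.card (meetCard P 3) := by simpa using h.meetCard_dvd P 3
  have h1 : 27 ∣ Nat.card (meetCard P 1) := by simpa using h.meetCard_dvd P 1
  have hs := h.card_split P
  have hp : (planes P).card = 0 ∨ (planes P).card = 3 := by
    obtain ⟨a, ha⟩ := h3
    obtain ⟨b, hb⟩ := h1
    omega
  rcases hp with hp | hp
  · exact Finset.card_eq_zero.1 hp
  exfalso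
  letI : MulAction T {D // D ∈ planes P} :=
    { smul := fun t D => ⟨MulAut.conj (t : G) • D.1, smul_mem_planes (hC.le t.2) D.2⟩
      one_smul := fun D => Subtype.ext (by
        show MulAut.conj ((1 : T) : G) • D.1 = D.1
        rw [Subgroup.coe_one, map_one, one_smul])
      mul_smul := fun a b D => Subtype.ext (by
        show MulAut.conj ((a * b : T) : G) • D.1 = MulAut.conj (a : G) • MulAut.conj (b : G) • D.1
        rw [Subgroup.coe_mul, map_mul, mul_smul]) }
  haveI : Fact (Nat.Prime 2) := ⟨Nat.prime_two⟩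
  have hmod := hC.two.card_modEq_card_fixedPoints {D // D ∈ planes P}
  rw [Nat.card_eq_finsetCard, hp] at hmod
  haveI : Nonempty (fixedPoints T {D // D ∈ planes P}) := by
    by_contra hne
    rw [not_nonempty_iff] at hne
    rw [Nat.card_of_isEmpty] at hmod
    exact absurd hmod (by decide)
  obtain ⟨⟨D, hD⟩⟩ := ‹Nonempty (fixedPoints T {D // D ∈ planes P})›
  have hle : T ≤ normalizer (D.1 : Set G) := fun t ht => mem_normalizer_iff.2 fun y => by
    have e : MulAut.conj t • D.1 = D.1 := congrArg Subtype.val (hD ⟨t, ht⟩)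
    conv_rhs => rw [← e, mem_pointwise_smul_iff_inv_smul_mem]
    simp [MulAut.smul_def, ← map_inv, mul_assoc]
  have h8 := (hfib D.1 D.2).2
  rw [inf_eq_left.2 hle, hT] at h8
  omega

/-- The centre lies in no other Sylow subgroup. -/
theorem HeisData.ctr_not_le {h : Hyp G} {P : Sylow 3 G} (hH : HeisData h P)
    (h28 : Nat.card (Sylow 3 G) = 28) {Q : Sylow 3 G} (hQ : Q ≠ P) : ¬ ctr P ≤ (Q : Subgroup G) := by
  intro hZ
  have hNZ := hH.centre_normalizer_eq h28
  have hne : ctr P ≠ ctr Q := by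
    intro e
    have hle : (Q : Subgroup G) ≤ N(P) := by
      rw [← hNZ, e]
      exact le_normalizer.trans fun g hg => ctr_le_normalizer Q hg
    refine hQ (Sylow.ext (eq_of_le_of_card_ge (le_of_normal_le P.isPGroup' hle) ?_).symm)
    rw [h.card_three, h.card_three]
  set F := (Q : Subgroup G) ⊓ centralizer (ctr P : Set G) with hF
  have h9 : 9 ≤ Nat.card F := by
    refine sup_ctr_card h (h.card_ctr hH.ne P) (h.card_ctr hH.ne Q) hne (fun z hz => mem_inf.2
      ⟨hZ hz, mem_centralizer_iff.2 fun y hy => ?_⟩) (fun z hz => mem_inf.2 ⟨(mem_ctr.1 hz).1,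
      mem_centralizer_iff.2 fun y hy => (mem_ctr.1 hz).2 y (hZ hy)⟩)
    exact (mem_ctr.1 hz).2 y (mem_ctr.1 hy).1
  have hFP : F ≤ (P : Subgroup G) := by
    have h2 : F ⊓ N(P) = F ⊓ (P : Subgroup G) := (Q.isPGroup'.to_le inf_le_left).inf_normalizer_sylow P
    have hFN : F ≤ N(P) := hNZ ▸ inf_le_right.trans (centralizer_le_normalizer _)
    exact inf_eq_left.1 (h2.symm.trans (inf_eq_left.2 hFN))
  have hle : F ≤ (P : Subgroup G) ⊓ (Q : Subgroup G) := le_inf hFP inf_le_left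
  have hc := h.card_inter hQ
  simp only [Finset.mem_insert, Finset.mem_singleton] at hc
  have hge := card_le_of_le hle
  have hpl : (P : Subgroup G) ⊓ (Q : Subgroup G) ∈ planes P :=
    mem_planes.2 ⟨inf_le_left, by omega, ⟨⟨Q, hQ, rfl⟩⟩⟩
  rw [hH.no_planes h28] at hpl
  exact Finset.notMem_empty _ hpl

/-- The kernel of the action of the complement has order at least `4` if some intersection is a line. -/
theorem HeisData.four_le_centralizer {h : Hyp G} {P Q : Sylow 3 G} (hH : HeisData h P)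
    (h28 : Nat.card (Sylow 3 G) = 28) {T : Subgroup G} (hC : Compl P T) (hT : Nat.card T = 16)
    (hQ : Q ≠ P) (hS : Nat.card ↥((P : Subgroup G) ⊓ (Q : Subgroup G)) = 3) (hTQ : T ≤ N(Q)) :
    4 ≤ Nat.card ↥(T ⊓ centralizer ((P : Subgroup G) : Set G)) := by
  classical
  set S := (P : Subgroup G) ⊓ (Q : Subgroup G) with hSdef
  have hSP : S ≤ (P : Subgroup G) := inf_le_left
  have hZP : ctr P ≤ (P : Subgroup G) := fun z hz => (mem_ctr.1 hz).1
  have hne : S ≠ ctr P := fun e => hH.ctr_not_le h28 hQ (e ▸ inf_le_right)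
  have hconj : ∀ t ∈ T, MulAut.conj t • S = S := fun t ht => by
    rw [hSdef, Subgroup.smul_inf, conj_smul_eq_self (hC.le ht), conj_smul_eq_self (hTQ ht)]
  set E := S ⊔ ctr P with hEdef
  have hEP : E ≤ (P : Subgroup G) := sup_le hSP hZP
  have hE : Nat.card E = 9 := by
    have h9 := sup_ctr_card h hS (h.card_ctr hH.ne P) hne le_sup_left le_sup_right (R := E)
    have hd : Nat.card E ∣ 3 ^ 3 := by simpa [h.card_three] using card_dvd_of_le hEP
    obtain ⟨i, hi, he⟩ := (Nat.dvd_prime_pow Nat.prime_three).1 hd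
    have h3 : i ≠ 3 := by
      rintro rfl
      refine hH.ne ?_
      have heq : E = (P : Subgroup G) := eq_of_le_of_card_ge hEP (by rw [he, h.card_three]; norm_num)
      have hcomm : ∀ x ∈ E, ∀ y ∈ S, x * y = y * x := by
        intro x hx y hy
        have hle : E ≤ centralizer ({y} : Set G) := by
          refine sup_le (fun a ha => ?_) (fun a ha => ?_)
          · haveI : IsMulCommutative S := by
              haveI := isCyclic_of_prime_card (α := S) hS
              infer_instance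
            exact mem_centralizer_singleton_iff.2 (congrArg Subtype.val (mul_comm' (⟨a, ha⟩ : S) ⟨y, hy⟩))
          · exact mem_centralizer_singleton_iff.2 ((mem_ctr.1 ha).2 y (hSP hy)).symm
        exact mem_centralizer_singleton_iff.1 (hle hx)
      intro x hx y hy
      rw [← heq] at hx hy
      have hle : E ≤ centralizer ({x} : Set G) := sup_le
        (fun a ha => mem_centralizer_singleton_iff.2 (hcomm x hx a ha).symm)
        (fun a ha => mem_centralizer_singleton_iff.2 ((mem_ctr.1 ha).2 x (hEP hx)).symm)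
      exact (mem_centralizer_singleton_iff.1 (hle hy)).symm
    rw [he] at h9 ⊢
    interval_cases i <;> simp_all
  have hZE : ctr P ≤ E := le_sup_right
  have hEab := (h.plane hEP hE).2
  have hTE : ∀ t ∈ T, ∀ y ∈ E, t * y * t⁻¹ ∈ E := fun t ht y hy => by
    have e : MulAut.conj t • E = E := by
      rw [hEdef, Subgroup.smul_sup, hconj t ht]
      congr 1
      have := ctr_smul t P
      rw [Sylow.smul_eq_iff_mem_normalizer.2 (hC.le ht)] at this
      exact this.symm
    rw [← e]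
    exact ⟨y, hy, rfl⟩
  obtain ⟨⟨s, hs⟩, hs1⟩ : ∃ s : S, s ≠ 1 := by
    haveI : Nontrivial S := Finite.one_lt_card_iff_nontrivial.1 (by rw [hS]; norm_num)
    exact exists_ne 1
  have hsne : s ≠ 1 := fun e => hs1 (Subtype.ext e)
  obtain ⟨x, hx, hxE⟩ : ∃ x ∈ (P : Subgroup G), x ∉ E := by
    by_contra hall
    push Not at hall
    have := card_le_of_le (fun y hy => hall y hy : (P : Subgroup G) ≤ E)
    rw [hE, h.card_three] at this
    omega
  have hsx : s * x * s⁻¹ * x⁻¹ ≠ 1 := by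
    intro e
    have hc : s * x = x * s := by
      have := mul_inv_eq_one.1 e
      exact mul_inv_eq_iff_eq_mul.1 this
    have hle : (P : Subgroup G) ≤ centralizer ({s} : Set G) := by
      intro y hy
      have hA : 9 < Nat.card ↥((P : Subgroup G) ⊓ centralizer ({s} : Set G)) := by
        have hlt : E < (P : Subgroup G) ⊓ centralizer ({s} : Set G) := by
          refine lt_of_le_of_ne (le_inf hEP fun a ha => mem_centralizer_singleton_iff.2
            (hEab a ha s (le_sup_left (a := S) hs))) fun e' => hxE ?_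
          rw [e']
          exact ⟨hx, mem_centralizer_singleton_iff.2 hc.symm⟩
        by_contra hle'
        exact hlt.ne (eq_of_le_of_card_ge hlt.le (by rw [hE]; omega))
      have hd : Nat.card ↥((P : Subgroup G) ⊓ centralizer ({s} : Set G)) ∣ 3 ^ 3 := by
        simpa [h.card_three] using card_dvd_of_le
          (inf_le_left : (P : Subgroup G) ⊓ centralizer ({s} : Set G) ≤ _)
      obtain ⟨i, hi, he⟩ := (Nat.dvd_prime_pow Nat.prime_three).1 hd
      have e27 : Nat.card ↥((P : Subgroup G) ⊓ centralizer ({s} : Set G)) = 27 := by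
        rw [he] at hA ⊢
        interval_cases i <;> omega
      exact ((eq_of_le_of_card_ge inf_le_left (by rw [e27, h.card_three]) :
        (P : Subgroup G) ⊓ centralizer ({s} : Set G) = P).ge hy).2
    have hsZ : s ∈ ctr P := mem_ctr.2 ⟨hSP hs, fun y hy => mem_centralizer_singleton_iff.1 (hle hy)⟩
    have hd := sup_ctr_card h hS (h.card_ctr hH.ne P) hne (R := ctr P) ?_ le_rfl
    · rw [h.card_ctr hH.ne P] at hd; omega
    · intro a ha
      have hmem : (⟨a, ha⟩ : S) ∈ zpowers (⟨s, hs⟩ : S) := by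
        rw [zpowers_eq_top_of_prime_card hS hs1]; exact mem_top _
      obtain ⟨i, hi⟩ := mem_zpowers_iff.1 hmem
      rw [show a = s ^ i by simpa using (congrArg Subtype.val hi).symm]
      exact zpow_mem hsZ i
  have hgen : ∀ {A : Subgroup G}, Nat.card A = 3 → ∀ {a : G}, a ∈ A → a ≠ 1 → ∀ {k : G}, k * a = a * k →
      ∀ b ∈ A, k * b = b * k := by
    intro A hA a ha ha1 k hk b hb
    have hmem : (⟨b, hb⟩ : A) ∈ zpowers (⟨a, ha⟩ : A) := by
      rw [zpowers_eq_top_of_prime_card hA (fun e => ha1 (congrArg Subtype.val e))]; exact mem_top _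
    obtain ⟨i, hi⟩ := mem_zpowers_iff.1 hmem
    rw [show b = a ^ i by simpa using (congrArg Subtype.val hi).symm]
    exact Commute.zpow_right hk i
  have hScases : ∀ t ∈ T, t * s * t⁻¹ = s ∨ t * s * t⁻¹ = s⁻¹ := by
    intro t ht
    have hm : t * s * t⁻¹ ∈ S := by
      rw [← hconj t ht]
      exact ⟨s, hs, rfl⟩
    have hmem : (⟨t * s * t⁻¹, hm⟩ : S) ∈ zpowers (⟨s, hs⟩ : S) := by
      rw [zpowers_eq_top_of_prime_card hS hs1]; exact mem_top _
    have ho : orderOf (⟨s, hs⟩ : S) = 3 := orderOf_eq_prime (by rw [← hS]; exact pow_card_eq_one') hs1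
    rw [mem_zpowers_iff_mem_range_orderOf, ho] at hmem
    simp only [Finset.mem_image, Finset.mem_range] at hmem
    obtain ⟨i, hi, e⟩ := hmem
    have e' : s ^ i = t * s * t⁻¹ := congrArg Subtype.val e
    interval_cases i
    · exfalso
      rw [pow_zero, eq_comm, conj_eq_one_iff] at e'
      exact hsne e'
    · exact Or.inl (by rw [← e', pow_one])
    · refine Or.inr ?_
      rw [← e']
      exact eq_inv_of_mul_eq_one_left (by rw [← pow_succ]; exact h.pow_three P (hSP hs))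
  have hux : ∀ t ∈ T, t * x * t⁻¹ ∈ (P : Subgroup G) ∧ t * x * t⁻¹ ∉ E := fun t ht =>
    ⟨(mem_normalizer_iff.1 (hC.le ht) x).1 hx, fun hm => hxE (by
      have := hTE t⁻¹ (inv_mem ht) _ hm
      rwa [show t⁻¹ * (t * x * t⁻¹) * t⁻¹⁻¹ = x by group] at this)⟩
  have key := card_le_mul_stab T (centralizer ((P : Subgroup G) : Set G))
    (fun t => (decide ((t : G) * s * (t : G)⁻¹ = s), decide (x⁻¹ * ((t : G) * x * (t : G)⁻¹) ∈ E))) ?_
  · rw [hT, Nat.card_prod, Nat.card_eq_fintype_card (α := Bool), Fintype.card_bool] at key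
    omega
  intro a b e
  simp only [Prod.mk.injEq, decide_eq_decide] at e
  obtain ⟨e1, e2⟩ := e
  obtain ⟨⟨hua, hua'⟩, ⟨hub, hub'⟩⟩ := hux a a.2, hux b b.2
  have hks : (a : G) * s * (a : G)⁻¹ = (b : G) * s * (b : G)⁻¹ := by
    rcases hScases a a.2 with ha | ha <;> rcases hScases b b.2 with hb | hb
    · rw [ha, hb]
    · rw [ha, e1.1 ha]
    · rw [hb, e1.2 hb]
    · rw [ha, hb]
  have hkx : (x⁻¹ * ((a : G) * x * (a : G)⁻¹))⁻¹ * (x⁻¹ * ((b : G) * x * (b : G)⁻¹)) ∈ E ∨
      (x * ((a : G) * x * (a : G)⁻¹))⁻¹ * (x * ((b : G) * x * (b : G)⁻¹)) ∈ E := by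
    by_cases hm : x⁻¹ * ((a : G) * x * (a : G)⁻¹) ∈ E
    · exact Or.inl (mul_mem (inv_mem hm) (e2.1 hm))
    · exact Or.inr (mul_mem (inv_mem ((h.coset_cases hEP hE hx hxE hua hua').resolve_left hm))
        ((h.coset_cases hEP hE hx hxE hub hub').resolve_left (mt e2.2 hm)))
  have huv : ((a : G) * x * (a : G)⁻¹)⁻¹ * ((b : G) * x * (b : G)⁻¹) ∈ E := by
    rcases hkx with hk | hk <;> (rw [mul_inv_rev, mul_assoc] at hk; simpa using hk)
  set k := (a : G)⁻¹ * b with hk
  have hkT : k ∈ T := mul_mem (inv_mem a.2) b.2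
  have hks' : k * s = s * k := by
    have : k * s * k⁻¹ = s := by
      rw [hk, show (a : G)⁻¹ * b * s * ((a : G)⁻¹ * b)⁻¹ = (a : G)⁻¹ * ((b : G) * s * (b : G)⁻¹) * a by group, ← hks]
      group
    exact mul_inv_eq_iff_eq_mul.1 this
  set m := x⁻¹ * (k * x * k⁻¹) with hm
  have hmE : m ∈ E := by
    have := hTE (a : G)⁻¹ (inv_mem a.2) _ huv
    rwa [show (a : G)⁻¹ * (((a : G) * x * (a : G)⁻¹)⁻¹ * ((b : G) * x * (b : G)⁻¹)) * (a : G)⁻¹⁻¹ = m by
      rw [hm, hk]; group] at this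
  have hkxm : k * x * k⁻¹ = x * m := by rw [hm]; group
  have hms : s * m = m * s := hEab s (le_sup_left (a := S) hs) m hmE
  have hkz : k * (s * x * s⁻¹ * x⁻¹) = (s * x * s⁻¹ * x⁻¹) * k := by
    refine mul_inv_eq_iff_eq_mul.1 ?_
    calc k * (s * x * s⁻¹ * x⁻¹) * k⁻¹
        = (k * s * k⁻¹) * (k * x * k⁻¹) * (k * s * k⁻¹)⁻¹ * (k * x * k⁻¹)⁻¹ := by group
      _ = s * (x * m) * s⁻¹ * (x * m)⁻¹ := by rw [hkxm, mul_inv_eq_iff_eq_mul.2 hks']
      _ = s * x * (m * s⁻¹ * m⁻¹) * x⁻¹ := by group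
      _ = s * x * s⁻¹ * x⁻¹ := by
        rw [show m * s⁻¹ * m⁻¹ = s⁻¹ by
          rw [mul_inv_eq_iff_eq_mul]; exact ((Commute.inv_left hms).eq).symm]
  have hz0 : s * x * s⁻¹ * x⁻¹ ∈ ctr P := hH.comm_mem (hSP hs) hx
  have hkE : ∀ y ∈ E, k * y = y * k := by
    have hle : E ≤ centralizer ({k} : Set G) := sup_le
      (fun y hy => mem_centralizer_singleton_iff.2 (hgen hS hs hsne hks' y hy).symm)
      (fun y hy => mem_centralizer_singleton_iff.2 (hgen (h.card_ctr hH.ne P) hz0 hsx hkz y hy).symm)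
    exact fun y hy => (mem_centralizer_singleton_iff.1 (hle hy)).symm
  obtain ⟨e, he⟩ := hC.two ⟨k, hkT⟩
  have hm1 : m = 1 := eq_one_of_series (congrArg Subtype.val he : k ^ 2 ^ e = 1) hkxm
    (mul_inv_eq_iff_eq_mul.2 (hkE m hmE)) (h.pow_three P (hEP hmE))
  rw [hm1, mul_one] at hkxm
  refine mem_centralizer_iff.2 fun y hy => ?_
  by_cases hyE : y ∈ E
  · exact (hkE y hyE).symm
  have hxk : k * x = x * k := mul_inv_eq_iff_eq_mul.1 hkxm
  rcases h.coset_cases hEP hE hx hxE hy hyE with hy' | hy'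
  · have : k * (x * (x⁻¹ * y)) = x * (x⁻¹ * y) * k := by
      rw [← mul_assoc, hxk, mul_assoc, hkE _ hy', ← mul_assoc]
    simpa using this.symm
  · have hxi : k * x⁻¹ = x⁻¹ * k := (Commute.inv_right hxk)
    have : k * (x⁻¹ * (x * y)) = x⁻¹ * (x * y) * k := by
      rw [← mul_assoc, hxi, mul_assoc, hkE _ hy', ← mul_assoc]
    simpa using this.symm

/-- **The nonabelian case**: the intersections are trivial. -/
theorem HeisData.trivial_inter {h : Hyp G} {P : Sylow 3 G} (hH : HeisData h P)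
    (h28 : Nat.card (Sylow 3 G) = 28) : ∀ Q : Sylow 3 G, Q ≠ P → (P : Subgroup G) ⊓ (Q : Subgroup G) = ⊥ := by
  classical
  have hno9 : ∀ Q : Sylow 3 G, Q ≠ P → Nat.card ↥((P : Subgroup G) ⊓ (Q : Subgroup G)) ≠ 9 := fun Q hQ e => by
    have hpl : (P : Subgroup G) ⊓ (Q : Subgroup G) ∈ planes P := mem_planes.2 ⟨inf_le_left, e, ⟨⟨Q, hQ, rfl⟩⟩⟩
    rw [hH.no_planes h28] at hpl
    exact Finset.notMem_empty _ hpl
  intro Q hQ
  have hc := h.card_inter hQ
  simp only [Finset.mem_insert, Finset.mem_singleton] at hc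
  rcases hc with hc | hc | hc
  · exact eq_bot_of_card_eq _ hc
  swap
  · exact absurd hc (hno9 Q hQ)
  exfalso
  have hall : ∀ R : Sylow 3 G, R ≠ P → Nat.card ↥((P : Subgroup G) ⊓ (R : Subgroup G)) = 3 := by
    intro R hR
    have hs := h.card_split P
    haveI : Nonempty (meetCard P 3) := ⟨⟨Q, hQ, hc⟩⟩
    have hpos : 0 < Nat.card (meetCard P 3) := Nat.card_pos
    have h3 : 9 ∣ Nat.card (meetCard P 3) := by simpa using h.meetCard_dvd P 3
    have h1 : 27 ∣ Nat.card (meetCard P 1) := by simpa using h.meetCard_dvd P 1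
    have h9 : IsEmpty (meetCard P 9) := ⟨fun X => hno9 X.1 X.2.1 X.2.2⟩
    rw [Nat.card_of_isEmpty (α := meetCard P 9), h28] at hs
    have hm1 : Nat.card (meetCard P 1) = 0 := by
      obtain ⟨a, ha⟩ := h3
      obtain ⟨b, hb⟩ := h1
      omega
    have hd := h.card_inter hR
    simp only [Finset.mem_insert, Finset.mem_singleton] at hd
    rcases hd with hd | hd | hd
    · haveI : Nonempty (meetCard P 1) := ⟨⟨R, hR, hd⟩⟩
      have hp : 0 < Nat.card (meetCard P 1) := Nat.card_pos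
      omega
    · exact hd
    · exact absurd hd (hno9 R hR)
  obtain ⟨T, hC⟩ := h.exists_complement P
  have hT : Nat.card T = 16 := by rcases h.n_cases P hC with ⟨-, e⟩ | ⟨e, -⟩ <;> omega
  obtain ⟨Q0, hQ0, hTQ0⟩ : ∃ Q0 : Sylow 3 G, Q0 ≠ P ∧ T ≤ N(Q0) := by
    haveI : Fact (Nat.Prime 2) := ⟨Nat.prime_two⟩
    have hmod := hC.two.card_modEq_card_fixedPoints (Sylow 3 G)
    rw [h28] at hmod
    by_contra hne
    push Not at hne
    have huniq : ∀ X : fixedPoints T (Sylow 3 G), X.1 = P := fun X => by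
      by_contra hX
      exact hne X.1 hX fun t ht => Sylow.smul_eq_iff_mem_normalizer.1 (X.2 ⟨t, ht⟩)
    haveI : Unique (fixedPoints T (Sylow 3 G)) :=
      ⟨⟨⟨P, fun t => Sylow.smul_eq_iff_mem_normalizer.2 (hC.le t.2)⟩⟩, fun X => Subtype.ext (huniq X)⟩
    rw [Nat.card_unique] at hmod
    exact absurd hmod (by decide)
  have hK4 := hH.four_le_centralizer h28 hC hT hQ0 (hall Q0 hQ0) hTQ0
  set K := T ⊓ centralizer ((P : Subgroup G) : Set G) with hKdef
  let O : Sylow 3 G → Set (Sylow 3 G) := fun R => orbit (P : Subgroup G) R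
  have hPself : ∀ g ∈ (P : Subgroup G), g • P = P := fun g hg =>
    Sylow.smul_eq_iff_mem_normalizer.2 (le_normalizer hg)
  have hPO : ∀ R : Sylow 3 G, R ≠ P → P ∉ O R := by
    rintro R hR ⟨g, hg⟩
    exact hR (smul_left_cancel (g : G) ((hPself g g.2).trans hg.symm)).symm
  have hO9 : ∀ R : Sylow 3 G, R ≠ P → (O R).ncard = 9 := fun R hR => by
    have := h.orbit_ncard P R
    rw [hall R hR] at this
    show (orbit (P : Subgroup G) R).ncard = 9
    omega
  have hcomm : ∀ k ∈ K, ∀ x ∈ (P : Subgroup G), k * x = x * k := fun k hk x hx =>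
    (mem_centralizer_iff.1 hk.2 x hx).symm
  have hpw : ∀ k ∈ K, ∃ m, k ^ 2 ^ m = 1 := fun k hk => by
    obtain ⟨m, hm⟩ := hC.two ⟨k, hk.1⟩
    exact ⟨m, congrArg Subtype.val hm⟩
  have hfixO : ∀ k ∈ K, ∀ R : Sylow 3 G, k • R = R → ∀ X ∈ O R, k • X = X := by
    rintro k hk R e X ⟨g, rfl⟩
    show k • (g : G) • R = (g : G) • R
    rw [← mul_smul, hcomm k hk g g.2, mul_smul, e]
  obtain ⟨Q1, hQ1, hQ1O⟩ : ∃ Q1 : Sylow 3 G, Q1 ≠ P ∧ Q1 ∉ O Q0 := by
    by_contra hne
    push Not at hne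
    have hsub : (Set.univ : Set (Sylow 3 G)) ⊆ insert P (O Q0) := fun X _ => by
      by_cases hX : X = P
      · exact Set.mem_insert_iff.2 (Or.inl hX)
      · exact Set.mem_insert_iff.2 (Or.inr (hne X hX))
    have := Set.ncard_le_ncard hsub (Set.toFinite _)
    rw [Set.ncard_univ, h28, Set.ncard_insert_of_notMem (hPO Q0 hQ0) (Set.toFinite _), hO9 Q0 hQ0] at this
    omega
  have hrest : ∀ X Y : Sylow 3 G, X ≠ P → Y ≠ P → X ∉ O Q0 → X ∉ O Q1 → Y ∉ O Q0 → Y ∉ O Q1 → Y ∈ O X := by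
    intro X Y hX hY hX0 hX1 hY0 hY1
    by_contra hYX
    have hdis : ∀ A B : Sylow 3 G, B ∉ O A → Disjoint (O A) (O B) := fun A B hAB => by
      rw [Set.disjoint_left]
      intro C hCA hCB
      exact hAB (by
        show B ∈ orbit (P : Subgroup G) A
        rw [← orbit_eq_iff.2 hCA, orbit_eq_iff.2 hCB]
        exact mem_orbit_self B)
    have hle := Set.ncard_le_card (((O Q0 ∪ O Q1) ∪ O X) ∪ O Y)
    rw [Set.ncard_union_eq (Set.disjoint_union_left.2 ⟨Set.disjoint_union_left.2 ⟨hdis _ _ hY0, hdis _ _ hY1⟩,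
        hdis _ _ hYX⟩) (Set.toFinite _) (Set.toFinite _),
      Set.ncard_union_eq (Set.disjoint_union_left.2 ⟨hdis _ _ hX0, hdis _ _ hX1⟩) (Set.toFinite _) (Set.toFinite _),
      Set.ncard_union_eq (hdis _ _ hQ1O) (Set.toFinite _) (Set.toFinite _),
      hO9 _ hQ0, hO9 _ hQ1, hO9 _ hX, hO9 _ hY, h28] at hle
    omega
  have h0 : ∀ k ∈ K, k • Q0 = Q0 := fun k hk => Sylow.smul_eq_iff_mem_normalizer.2 (hTQ0 hk.1)
  have hkP : ∀ k ∈ K, k • P = P := fun k hk => Sylow.smul_eq_iff_mem_normalizer.2 (hC.le hk.1)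
  -- elements moving `Q1` out of its orbit
  have hmove : ∀ k ∈ K, k • Q1 ∉ O Q1 → k • Q1 ≠ P ∧ k • Q1 ∉ O Q0 := by
    intro k hk _
    refine ⟨fun e => hQ1 (smul_left_cancel k (e.trans (hkP k hk).symm)), fun hm => hQ1O ?_⟩
    have e := hfixO k hk Q0 (h0 k hk) _ hm
    rwa [smul_left_cancel k e] at hm
  have hstab := card_le_mul_stab K (stabilizer G Q1) (fun k => decide ((k : G) • Q1 ∈ O Q1)) ?_
  swap
  · intro a b e
    rw [decide_eq_decide] at e
    have hab : (a : G)⁻¹ * b ∈ K := mul_mem (inv_mem a.2) b.2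
    obtain ⟨m, hm⟩ := hpw _ hab
    have hg : ∃ g ∈ (P : Subgroup G), (b : G) • Q1 = g • (a : G) • Q1 := by
      by_cases ha : (a : G) • Q1 ∈ O Q1
      · obtain ⟨g2, hg2⟩ := e.1 ha
        obtain ⟨g1, hg1⟩ := ha
        refine ⟨g2 * (g1 : G)⁻¹, mul_mem g2.2 (inv_mem g1.2), ?_⟩
        rw [← hg1, ← hg2]
        show (g2 : G) • Q1 = ((g2 : G) * (g1 : G)⁻¹) • (g1 : G) • Q1
        rw [mul_smul, inv_smul_smul]
      · have hb := mt e.2 ha
        obtain ⟨ha1, ha2⟩ := hmove a a.2 ha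
        obtain ⟨hb1, hb2⟩ := hmove b b.2 hb
        obtain ⟨g, hg⟩ := hrest _ _ ha1 hb1 ha2 ha hb2 hb
        exact ⟨g, g.2, hg.symm⟩
    obtain ⟨g, hg, eg⟩ := hg
    refine h.fix_of_orbit hm (hcomm _ hab) hg ?_
    rw [mul_smul, eg, ← mul_smul, hcomm _ (inv_mem a.2) g hg, mul_smul, inv_smul_smul]
  rw [Nat.card_eq_fintype_card (α := Bool), Fintype.card_bool] at hstab
  obtain ⟨⟨k, hk⟩, hk1⟩ : ∃ k : ↥(K ⊓ stabilizer G Q1), k ≠ 1 := by
    haveI : Nontrivial ↥(K ⊓ stabilizer G Q1) := Finite.one_lt_card_iff_nontrivial.1 (by omega)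
    exact exists_ne 1
  refine hk1 (Subtype.ext (h.eq_one_of_fix_all fun X => ?_))
  by_cases hX : X = P
  · rw [hX]; exact hkP k hk.1
  by_cases hX0 : X ∈ O Q0
  · exact hfixO k hk.1 Q0 (h0 k hk.1) X hX0
  by_cases hX1 : X ∈ O Q1
  · exact hfixO k hk.1 Q1 hk.2 X hX1
  obtain ⟨m, hm⟩ := hpw k hk.1
  have hX' : k • X ≠ P := fun e => hX (smul_left_cancel k (e.trans (hkP k hk.1).symm))
  have hX0' : k • X ∉ O Q0 := fun hm' => hX0 (by
    have e := hfixO k hk.1 Q0 (h0 k hk.1) _ hm'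
    rwa [smul_left_cancel k e] at hm')
  have hX1' : k • X ∉ O Q1 := fun hm' => hX1 (by
    have e := hfixO k hk.1 Q1 hk.2 _ hm'
    rwa [smul_left_cancel k e] at hm')
  obtain ⟨g, hg⟩ := hrest X (k • X) hX hX' hX0 hX1 hX0' hX1'
  exact h.fix_of_orbit hm (hcomm k hk.1) g.2 hg.symm

/-- **Twenty-eight Sylow subgroups meet trivially.** -/
theorem Hyp.trivial_inter (h : Hyp G) (h28 : Nat.card (Sylow 3 G) = 28) (P Q : Sylow 3 G) (hQ : Q ≠ P) :
    (P : Subgroup G) ⊓ (Q : Subgroup G) = ⊥ := by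
  by_cases hab : ∀ x ∈ (P : Subgroup G), ∀ y ∈ (P : Subgroup G), x * y = y * x
  · exact (h.abelian hab).1 h28 Q hQ
  · exact HeisData.trivial_inter (h := h) ⟨hab⟩ h28 Q hQ

/-- `P` is transitive on the other Sylow subgroups. -/
theorem Hyp.transitive (h : Hyp G) (h28 : Nat.card (Sylow 3 G) = 28) {P Q R : Sylow 3 G} (hQ : Q ≠ P)
    (hR : R ≠ P) : ∃ g ∈ (P : Subgroup G), g • Q = R := by
  have hn : (orbit (P : Subgroup G) Q).ncard = 27 := by
    have := h.orbit_ncard P Q
    rwa [h.trivial_inter h28 P Q hQ, card_bot, mul_one] at this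
  have hsub : orbit (P : Subgroup G) Q ⊆ {X : Sylow 3 G | X ≠ P} := by
    rintro X ⟨g, rfl⟩ (e : (g : G) • Q = P)
    exact hQ (smul_left_cancel (g : G) (e.trans (Sylow.smul_eq_iff_mem_normalizer.2 (le_normalizer g.2)).symm))
  have hc : ({X : Sylow 3 G | X ≠ P}).ncard = 27 := by
    rw [show {X : Sylow 3 G | X ≠ P} = ({P} : Set (Sylow 3 G))ᶜ by ext; simp, Set.ncard_compl, Set.ncard_singleton, h28]
  have hm : R ∈ orbit (P : Subgroup G) Q := by
    rw [Set.eq_of_subset_of_ncard_le hsub (by rw [hc, hn]) (Set.toFinite _)]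
    exact hR
  obtain ⟨g, hg⟩ := hm
  exact ⟨g, g.2, hg⟩

/-- The translations are free. -/
theorem Hyp.free (h : Hyp G) (h28 : Nat.card (Sylow 3 G) = 28) {P Q : Sylow 3 G} (hQ : Q ≠ P) {g : G}
    (hg : g ∈ (P : Subgroup G)) (e : g • Q = Q) : g = 1 := by
  have : g ∈ (P : Subgroup G) ⊓ (Q : Subgroup G) := ⟨hg, (smul_eq_iff_mem hg).1 e⟩
  rwa [h.trivial_inter h28 P Q hQ, mem_bot] at this

/-- No nontrivial `2`-element of the normalizer centralises `P`. -/
theorem Hyp.eq_one_of_centralizes (h : Hyp G) (h28 : Nat.card (Sylow 3 G) = 28) {P : Sylow 3 G} {T : Subgroup G}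
    (hC : Compl P T) {t : G} (ht : t ∈ T) (hc : ∀ x ∈ (P : Subgroup G), t * x = x * t) : t = 1 := by
  obtain ⟨m, hm⟩ := hC.two ⟨t, ht⟩
  have hP : t • P = P := Sylow.smul_eq_iff_mem_normalizer.2 (hC.le ht)
  refine h.eq_one_of_fix_all fun X => ?_
  by_cases hX : X = P
  · rw [hX, hP]
  obtain ⟨g, hg, e⟩ := h.transitive h28 hX (R := t • X) fun e => hX (smul_left_cancel t (e.trans hP.symm))
  exact h.fix_of_orbit (congrArg Subtype.val hm : t ^ 2 ^ m = 1) hc hg e.symm

/-- The complement fixes another Sylow subgroup. -/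
theorem Hyp.exists_fixed (h : Hyp G) (h28 : Nat.card (Sylow 3 G) = 28) {P : Sylow 3 G} {T : Subgroup G}
    (hC : Compl P T) : ∃ Q : Sylow 3 G, Q ≠ P ∧ ∀ t ∈ T, t • Q = Q := by
  haveI : Fact (Nat.Prime 2) := ⟨Nat.prime_two⟩
  have hmod := hC.two.card_modEq_card_fixedPoints (Sylow 3 G)
  rw [h28] at hmod
  by_contra hne
  push Not at hne
  have huniq : ∀ X : fixedPoints T (Sylow 3 G), X.1 = P := fun X => by
    by_contra hX
    obtain ⟨t, ht, hne'⟩ := hne X.1 hX
    exact hne' (X.2 ⟨t, ht⟩)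
  haveI : Unique (fixedPoints T (Sylow 3 G)) :=
    ⟨⟨⟨P, fun t => Sylow.smul_eq_iff_mem_normalizer.2 (hC.le t.2)⟩⟩, fun X => Subtype.ext (huniq X)⟩
  rw [Nat.card_unique] at hmod
  exact absurd hmod (by decide)

end Cfsg.Lib.Recog.G2Two
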