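import Cfsg.Agent.Lib.Recog.G2Two.HeSame

/-!
# The Sylow subgroups through the plane cannot have distinct centres
-/

set_option autoImplicit false
set_option linter.style.haveILetI false
set_option linter.unusedSectionVars false

namespace Cfsg.Lib.Recog.G2Two

open Subgroup MulAction Pointwise

universe u

variable {G : Type u} [Group G] [Finite G] [Fact (Nat.Prime 3)]

local notation "N(" P ")" => normalizer ((P : Subgroup G) : Set G)

namespace OnePlane

variable {h : Hyp G} {P : Sylow 3 G} {T D : Subgroup G}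

/-- The normalizer of the centre is that of `P`. -/
theorem centre_eq (o : OnePlane h P T D) (hS : ¬ SameCentre P D) : normalizer (ctr P : Set G) = N(P) := by
  classical
  have hsub : N(P) ≤ normalizer (ctr P : Set G) := fun g hg => ctr_le_normalizer P hg
  have hn := o.heis.centre_count o.n112
  simp only [Finset.mem_insert, Finset.mem_singleton] at hn
  rcases hn with hn | hn
  · have e := card_eq_mul_card_sylow (normalizer (ctr P : Set G)) P (le_normalizer.trans hsub)
    rw [hn, one_mul, inf_eq_right.2 hsub] at e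
    exact (eq_of_le_of_card_ge hsub e.le).symm
  exfalso
  have hPle : (P : Subgroup G) ≤ normalizer (ctr P : Set G) := le_normalizer.trans hsub
  rw [← card_sylow_le _ P hPle] at hn
  set S := {Q : Sylow 3 G | (Q : Subgroup G) ≤ normalizer (ctr P : Set G)} with hSdef
  have hn' : S.ncard = 4 := by rw [← Nat.card_coe_set_eq]; exact hn
  obtain ⟨Q, hQS, hQ⟩ := Set.exists_ne_of_one_lt_ncard (s := S) (by rw [hn']; norm_num) P
  obtain ⟨y, hy, hyQ⟩ := exists_conj_sylow hPle hQS
  have hQc : ctr Q = ctr P := by rw [← hyQ, ctr_smul, conj_smul_eq_self hy]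
  have hZQ : ctr P ≤ (P : Subgroup G) ⊓ (Q : Subgroup G) :=
    le_inf (fun z hz => (mem_ctr.1 hz).1) (hQc ▸ fun z hz => (mem_ctr.1 hz).1)
  have hsubset : insert P (orbit (P : Subgroup G) Q) ⊆ S := by
    intro R hR
    simp only [Set.mem_insert_iff] at hR
    rcases hR with rfl | ⟨g, rfl⟩
    · exact hPle
    · show ((((g : G) • Q : Sylow 3 G)) : Subgroup G) ≤ normalizer (ctr P : Set G)
      exact Sylow.smul_le hQS ⟨g, hPle g.2⟩
  have hPn : P ∉ orbit (P : Subgroup G) Q := by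
    rintro ⟨g, hg⟩
    exact hQ (smul_left_cancel (g : G)
      ((show (g : G) • Q = P from hg).trans (Sylow.smul_eq_iff_mem_normalizer.2 (le_normalizer g.2)).symm))
  have hle := Set.ncard_le_ncard hsubset (Set.toFinite _)
  rw [hn', Set.ncard_insert_of_notMem hPn (Set.toFinite _)] at hle
  have e27 := h.orbit_ncard P Q
  have h9 : 9 ≤ Nat.card ↥((P : Subgroup G) ⊓ (Q : Subgroup G)) := by
    by_contra hlt
    have := Nat.mul_le_mul (show (orbit (P : Subgroup G) Q).ncard ≤ 3 by omega)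
      (show Nat.card ↥((P : Subgroup G) ⊓ (Q : Subgroup G)) ≤ 8 by omega)
    omega
  exact hS ⟨Q, hQ, o.eq_of_nine hQ inf_le_left inf_le_right h9, hQc⟩

/-- The nontrivial elements of the plane are conjugate in its normalizer to central ones. -/
theorem conj_ctr (o : OnePlane h P T D) (hS : ¬ SameCentre P D) {d : G} (hd : d ∈ D) (hd1 : d ≠ 1) :
    ∃ x ∈ normalizer (D : Set G), ∃ z ∈ ctr P, d = x * z * x⁻¹ := by
  classical
  set X := normalizer (D : Set G) with hXdef
  have hH := o.heis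
  have hDle : ∀ Q : Sylow 3 G, (Q : Subgroup G) ≤ X → D ≤ (Q : Subgroup G) := fun Q hQ =>
    le_of_normal_le (IsPGroup.of_card (n := 2) (by rw [o.card]; norm_num)) hQ
  let f : {Q : Sylow 3 G // (Q : Subgroup G) ≤ X} → {L : Subgroup G // L ≤ D ∧ Nat.card L = 3} := fun Q =>
    ⟨ctr Q.1, (hH.conj_data Q.1).ctr_le (hDle Q.1 Q.2) o.card, h.card_ctr hH.ne Q.1⟩
  have hinj : Function.Injective f := by
    rintro ⟨Q, hQ⟩ ⟨R, hR⟩ e
    have e' : ctr Q = ctr R := congrArg Subtype.val e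
    obtain ⟨y, hy, rfl⟩ := exists_conj_sylow o.P_le hQ
    have hR' : ((y⁻¹ • R : Sylow 3 G) : Subgroup G) ≤ X := Sylow.smul_le hR ⟨y⁻¹, inv_mem hy⟩
    have hc : ctr (y⁻¹ • R) = ctr P := by
      rw [ctr_smul, ← e', ctr_smul, ← mul_smul, ← map_mul, inv_mul_cancel, map_one, one_smul]
    have heq : y⁻¹ • R = P := by
      by_contra hne
      exact hS ⟨_, hne, o.mem_fib hne hR', hc⟩
    exact Subtype.ext (inv_smul_eq_iff.1 heq).symm
  have hc : Nat.card {Q : Sylow 3 G // (Q : Subgroup G) ≤ X} = 4 := by rw [card_sylow_le _ P o.P_le, o.card_sylow]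
  have hbij : Function.Bijective f := (Nat.bijective_iff_injective_and_card f).2
    ⟨hinj, le_antisymm (Nat.card_le_card_of_injective f hinj) ((card_lines_le o.card).trans hc.ge)⟩
  have hd3 := h.pow_three P (o.le hd)
  obtain ⟨⟨Q, hQ⟩, e⟩ := hbij.2 ⟨zpowers d, zpowers_le.2 hd, by rw [Nat.card_zpowers, orderOf_eq_prime hd3 hd1]⟩
  have e' : ctr Q = zpowers d := congrArg Subtype.val e
  obtain ⟨y, hy, rfl⟩ := exists_conj_sylow o.P_le hQ
  have hm : d ∈ ctr (y • P) := e'.symm ▸ mem_zpowers d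
  rw [ctr_smul] at hm
  obtain ⟨z, hz, rfl⟩ := hm
  exact ⟨y, hy, z, hz, rfl⟩

/-- Conjugates in `P` of central elements lie in the plane. -/
theorem fusion (o : OnePlane h P T D) (hS : ¬ SameCentre P D) {g z : G} (hz : z ∈ ctr P) (hz1 : z ≠ 1)
    (hf : g⁻¹ * z * g ∈ (P : Subgroup G)) : g⁻¹ * z * g ∈ D := by
  have hH := o.heis
  set f := g⁻¹ * z * g with hfdef
  by_cases hfZ : f ∈ ctr P
  · exact hH.ctr_le o.le o.card hfZ
  set F := (P : Subgroup G) ⊓ centralizer ({f} : Set G) with hFdef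
  have hF9 : Nat.card F = 9 := hH.centralizer_plane hf hfZ
  have hFN : MulAut.conj g • F ≤ N(P) := by
    rw [← o.centre_eq hS]
    rintro _ ⟨a, ha, rfl⟩
    refine centralizer_le_normalizer _ ?_
    show g * a * g⁻¹ ∈ _
    rw [← zpowers_eq_of_three (h.card_ctr hH.ne P) hz hz1, zpowers_eq_closure, centralizer_closure,
      mem_centralizer_singleton_iff]
    have e : a * f = f * a := mem_centralizer_singleton_iff.1 ha.2
    rw [hfdef] at e
    calc g * a * g⁻¹ * z = g * (a * (g⁻¹ * z * g)) * g⁻¹ := by group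
      _ = g * (g⁻¹ * z * g * a) * g⁻¹ := by rw [e]
      _ = z * (g * a * g⁻¹) := by group
  have hFP : MulAut.conj g • F ≤ (P : Subgroup G) := by
    have hp : IsPGroup 3 ↥(MulAut.conj g • F) := IsPGroup.of_card (n := 2) (by
      rw [← Nat.card_congr (equivSMul (MulAut.conj g) F).toEquiv, hF9]; norm_num)
    exact inf_eq_left.1 ((hp.inf_normalizer_sylow P).symm.trans (inf_eq_left.2 hFN))
  have hFQ : F ≤ ((g⁻¹ • P : Sylow 3 G) : Subgroup G) := by
    have := (pointwise_smul_le_pointwise_smul_iff (a := MulAut.conj g⁻¹)).2 hFP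
    rwa [← mul_smul, ← map_mul, inv_mul_cancel, map_one, one_smul, ← Sylow.coe_subgroup_smul] at this
  have hne : g⁻¹ • P ≠ P := fun e => hfZ (by
    have hm : f ∈ ctr (g⁻¹ • P) := by
      rw [ctr_smul]
      exact ⟨z, hz, by show g⁻¹ * z * g⁻¹⁻¹ = f; rw [inv_inv, hfdef]⟩
    rwa [e] at hm)
  rw [← o.eq_of_nine hne inf_le_left hFQ hF9.ge]
  exact le_inf inf_le_left hFQ ⟨hf, mem_centralizer_singleton_iff.2 rfl⟩

end OnePlane

theorem OnePlane.not_distinct (h : Hyp G) {P : Sylow 3 G} {T D : Subgroup G} (o : OnePlane h P T D)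
    (hS : ¬ SameCentre P D) : False := by
  classical
  set X := normalizer (D : Set G) with hXdef
  have hH := o.heis
  have hX : Nat.card X = 432 := o.card_normalizer
  set Z := ctr P with hZdef
  have hPX : (P : Subgroup G) ≤ X := o.P_le
  have hNX : N(P) ≤ X := o.normalizer_le
  have hZD : Z ≤ D := hH.ctr_le o.le o.card
  have hZ3 : Nat.card Z = 3 := h.card_ctr hH.ne P
  have hab := (h.plane o.le o.card).2
  have hDX : D ≤ X := le_normalizer
  have hNZ : normalizer (Z : Set G) = N(P) := o.centre_eq hS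
  have hN := card_normalizer_mul h P
  rw [o.n112] at hN
  have hN108 : Nat.card N(P) = 108 := by omega
  have hT4 : Nat.card T = 4 := by rcases h.n_cases P o.compl with ⟨e1, -⟩ | ⟨-, e1⟩ <;> have := o.n112 <;> omega
  haveI : Fact (Nat.Prime 2) := ⟨Nat.prime_two⟩
  haveI : IsMulCommutative T := IsPGroup.isMulCommutative_of_card_eq_prime_sq (p := 2) (by rw [hT4]; norm_num)
  have hTc : ∀ a ∈ T, ∀ b ∈ T, a * b = b * a := fun a ha b hb =>
    congrArg Subtype.val (mul_comm' (⟨a, ha⟩ : T) ⟨b, hb⟩)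
  obtain ⟨τ, hτT, hτ, w, hw, hww⟩ := hH.exists_inverting o.n112 o.compl o.mem hS
  have hsq : ∀ y ∈ D, y * y = 1 → y = 1 := fun y hy e => by
    have := h.pow_three P (o.le hy)
    rwa [pow_succ, pow_two, e, one_mul] at this
  have hzc : ∀ z ∈ Z, ∀ y ∈ (P : Subgroup G), y * z = z * y := fun z hz => (mem_ctr.1 hz).2
  obtain ⟨⟨z0, hz0⟩, hz01'⟩ : ∃ z : Z, z ≠ 1 := by
    haveI : Nontrivial Z := Finite.one_lt_card_iff_nontrivial.1 (by rw [hZ3]; norm_num)
    exact exists_ne 1
  have hz01 : z0 ≠ 1 := fun e => hz01' (Subtype.ext e)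
  obtain ⟨d0, hd0, hd0Z⟩ : ∃ e ∈ D, e ∉ Z := by
    by_contra hnone
    push Not at hnone
    have := card_le_of_le (fun y hy => hnone y hy : D ≤ Z)
    rw [o.card, hZ3] at this
    omega
  have hd01 : d0 ≠ 1 := fun e => hd0Z (e ▸ one_mem _)
  -- centralizers of central elements
  have hCz : ∀ z ∈ Z, z ≠ 1 → centralizer ({z} : Set G) ≤ N(P) := fun z hz hz1 => by
    rw [← hNZ]
    refine le_trans ?_ (centralizer_le_normalizer _)
    rw [← zpowers_eq_of_three hZ3 hz hz1, zpowers_eq_closure, centralizer_closure]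
  have hno4 : ∀ z ∈ Z, z ≠ 1 → ∀ a : G, orderOf a = 4 → a * z ≠ z * a := by
    intro z hz hz1 a ha e
    have haN := hCz z hz hz1 (mem_centralizer_singleton_iff.2 e)
    obtain ⟨x, hx, hxT⟩ := o.compl.conj a haN ⟨2, by rw [show (2 : ℕ) ^ 2 = orderOf a by rw [ha]; norm_num]; exact pow_orderOf_eq_one a⟩
    have hgen : zpowers (x * a * x⁻¹) = T := eq_of_le_of_card_ge (zpowers_le.2 hxT) (by
      rw [hT4, Nat.card_zpowers, ← ha]
      exact le_of_eq (MulEquiv.orderOf_eq (MulAut.conj x) a).symm)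
    obtain ⟨i, hi⟩ := mem_zpowers_iff.1 (hgen.symm ▸ hτT : τ ∈ zpowers (x * a * x⁻¹))
    have hcom : Commute (x * a * x⁻¹) z := by
      show x * a * x⁻¹ * z = z * (x * a * x⁻¹)
      have e1 : x⁻¹ * z = z * x⁻¹ := hzc z hz _ (inv_mem hx)
      have e2 : x * z = z * x := hzc z hz _ hx
      calc x * a * x⁻¹ * z = x * a * (x⁻¹ * z) := by group
        _ = x * (a * z) * x⁻¹ := by rw [e1]; group
        _ = x * z * a * x⁻¹ := by rw [e]; group
        _ = z * (x * a * x⁻¹) := by rw [e2]; group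
    have h1 := hτ z (hZD hz)
    rw [← hi, (hcom.zpow_left i).eq, mul_inv_cancel_right] at h1
    exact hz1 (hsq z (hZD hz) (mul_eq_one_iff_eq_inv.2 h1))
  -- the nontrivial elements of the plane fix only `X`
  have halone : ∀ d ∈ D, d ≠ 1 → Alone X d := by
    intro d hd hd1
    obtain ⟨y, hy, z, hz, rfl⟩ := o.conj_ctr hS hd hd1
    refine Alone.conj ?_ hy
    have hz1 : z ≠ 1 := fun e => hd1 (by rw [e, mul_one, mul_inv_cancel])
    intro g hg
    have hz3 : (g⁻¹ * z * g) ^ 3 = 1 := by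
      rw [show g⁻¹ * z * g = g⁻¹ * z * g⁻¹⁻¹ by group, conj_pow, h.pow_three P (o.le (hZD hz))]
      group
    obtain ⟨x, hx, hf⟩ := exists_conj_into hPX hg hz3
    have hfg : (g * x⁻¹)⁻¹ * z * (g * x⁻¹) = x * (g⁻¹ * z * g) * x⁻¹ := by group
    have hfD := o.fusion hS hz hz1 (hfg.symm ▸ hf)
    have hf1 : (g * x⁻¹)⁻¹ * z * (g * x⁻¹) ≠ 1 := fun e => hz1 (by
      rw [mul_assoc, inv_mul_eq_one] at e
      exact mul_eq_right.1 e.symm)
    obtain ⟨y', hy', z', hz', he⟩ := o.conj_ctr hS hfD hf1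
    have hz'1 : z' ≠ 1 := fun e => hf1 (by rw [he, e, mul_one, mul_inv_cancel])
    set g2 := g * x⁻¹ * y' with hg2
    have hmap : g2 * z' * g2⁻¹ = z := by
      rw [hg2, show g * x⁻¹ * y' * z' * (g * x⁻¹ * y')⁻¹ = g * x⁻¹ * (y' * z' * y'⁻¹) * (g * x⁻¹)⁻¹ by group, ← he]
      group
    have hg2N : g2 ∈ N(P) := by
      rw [← hNZ]
      refine mem_normalizer_iff.2 fun v => ?_
      have e : MulAut.conj g2 • Z = Z := by
        refine eq_of_le_of_card_ge ?_ (Nat.card_congr (equivSMul (MulAut.conj g2) Z).toEquiv).le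
        rw [← zpowers_eq_of_three hZ3 hz' hz'1]
        rintro _ ⟨v, hv, rfl⟩
        obtain ⟨i, rfl⟩ := mem_zpowers_iff.1 hv
        show g2 * z' ^ i * g2⁻¹ ∈ zpowers z'
        rw [← conj_zpow, hmap, zpowers_eq_of_three hZ3 hz' hz'1]
        exact zpow_mem hz i
      conv_rhs => rw [← e, mem_pointwise_smul_iff_inv_smul_mem]
      simp [MulAut.smul_def, ← map_inv, mul_assoc, hZdef]
    have : g = g2 * y'⁻¹ * x := by rw [hg2]; group
    rw [this]
    exact mul_mem (mul_mem (hNX hg2N) (inv_mem hy')) hx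
  have hPD : ∀ x ∈ (P : Subgroup G), x ∉ D → ∀ t ∈ N(P), t * x * t⁻¹ * x⁻¹ ∈ D ∨ t * x * t⁻¹ * x ∈ D := by
    intro x hx hxD t ht
    have htx : t * x * t⁻¹ ∈ (P : Subgroup G) := (mem_normalizer_iff.1 ht x).1 hx
    have htxD : t * x * t⁻¹ ∉ D := fun hm => hxD ((mem_normalizer_iff.1 (hNX ht) x).2 hm)
    rcases h.coset_cases o.le o.card hx hxD htx htxD with e | e
    · left
      have := (mem_normalizer_iff.1 (hPX hx) _).1 e
      rwa [show x * (x⁻¹ * (t * x * t⁻¹)) * x⁻¹ = t * x * t⁻¹ * x⁻¹ by group] at this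
    · right
      have := (mem_normalizer_iff.1 (inv_mem (hPX hx)) _).1 e
      rwa [show x⁻¹ * (x * (t * x * t⁻¹)) * x⁻¹⁻¹ = t * x * t⁻¹ * x by group] at this
  have hcomm : ∀ d ∈ D, ∀ e ∈ D, ∀ y ∈ (P : Subgroup G),
      d * (e * y) * d⁻¹ * (e * y)⁻¹ = d * y * d⁻¹ * y⁻¹ ∧ d * y⁻¹ * d⁻¹ * y = (d * y * d⁻¹ * y⁻¹)⁻¹ := by
    intro d hd e he y hy
    have hc : d * y * d⁻¹ * y⁻¹ ∈ Z := hH.comm_mem (o.le hd) hy
    constructor
    · calc d * (e * y) * d⁻¹ * (e * y)⁻¹ = (d * e) * y * d⁻¹ * y⁻¹ * e⁻¹ := by group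
        _ = e * (d * y * d⁻¹ * y⁻¹) * e⁻¹ := by rw [hab d hd e he]; group
        _ = d * y * d⁻¹ * y⁻¹ := by rw [hab e he _ (hZD hc), mul_inv_cancel_right]
    · calc d * y⁻¹ * d⁻¹ * y = y⁻¹ * (d * y * d⁻¹ * y⁻¹)⁻¹ * y := by group
        _ = (d * y * d⁻¹ * y⁻¹)⁻¹ := by rw [hzc _ (inv_mem hc) _ (inv_mem hy), mul_assoc, inv_mul_cancel, mul_one]
  have hd0c : ∀ x ∈ (P : Subgroup G), x ∉ D → d0 * x * d0⁻¹ * x⁻¹ ≠ 1 := fun x hx hxD e => hd0Z
    (HeisData.mem_ctr_of_commute (h := h) o.le o.card (o.le hd0) (fun y hy => hab y hy d0 hd0) hx hxD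
      (mul_inv_eq_iff_eq_mul.1 (mul_inv_eq_one.1 e)).symm)
  -- an element inverting or centralising `D` is trivial on `P / D`
  have htriv : ∀ t ∈ N(P), ((∀ y ∈ D, t * y * t⁻¹ = y) ∨ (∀ y ∈ D, t * y * t⁻¹ = y⁻¹)) →
      ∀ x ∈ (P : Subgroup G), t * x * t⁻¹ * x⁻¹ ∈ D := by
    intro t ht hcase x hx
    by_cases hxD : x ∈ D
    · exact mul_mem ((mem_normalizer_iff.1 (hNX ht) x).1 hxD) (inv_mem hxD)
    refine (hPD x hx hxD t ht).resolve_right fun e => ?_
    set d' := t * x * t⁻¹ * x with hd'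
    set c := d0 * x * d0⁻¹ * x⁻¹ with hc
    have hcD : c ∈ D := hZD (hH.comm_mem (o.le hd0) hx)
    have htc : t * c * t⁻¹ = (t * d0 * t⁻¹) * (d' * x⁻¹) * (t * d0 * t⁻¹)⁻¹ * (d' * x⁻¹)⁻¹ := by
      rw [hc, hd']; group
    rcases hcase with hfix | hinv
    · rw [hfix c hcD, hfix d0 hd0, (hcomm d0 hd0 d' e x⁻¹ (inv_mem hx)).1, inv_inv,
        (hcomm d0 hd0 d' e x hx).2] at htc
      exact hd0c x hx hxD (hsq c hcD (mul_eq_one_iff_eq_inv.2 htc))
    · have h0 := (hcomm d0⁻¹ (inv_mem hd0) d' e x hx).2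
      rw [inv_inv] at h0
      rw [hinv c hcD, hinv d0 hd0, inv_inv, show d0⁻¹ * (d' * x⁻¹) * d0 * (d' * x⁻¹)⁻¹ =
        d0⁻¹ * (d' * x⁻¹) * d0⁻¹⁻¹ * (d' * x⁻¹)⁻¹ by group,
        (hcomm d0⁻¹ (inv_mem hd0) d' e x⁻¹ (inv_mem hx)).1, inv_inv, inv_inv, h0] at htc
      have hc' : d0⁻¹ * x * d0 * x⁻¹ = c⁻¹ := by
        calc d0⁻¹ * x * d0 * x⁻¹ = d0⁻¹ * c⁻¹ * d0 := by rw [hc]; group
          _ = c⁻¹ := by rw [hab _ (inv_mem hd0) _ (inv_mem hcD), inv_mul_cancel_right]
      rw [hc', inv_inv] at htc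
      exact hd0c x hx hxD (hsq c hcD (mul_eq_one_iff_eq_inv.2 htc.symm))
  -- the centralizer of `D` is `D`
  have hCD : ∀ m : G, (∀ y ∈ D, m * y = y * m) → m ∈ D := by
    intro m hm
    have hmN : m ∈ N(P) := hCz z0 hz0 hz01 (mem_centralizer_singleton_iff.2 (hm z0 (hZD hz0)))
    have hm108 : m ^ 108 = 1 := by
      have := pow_card_eq_one' (x := (⟨m, hmN⟩ : N(P)))
      rw [hN108] at this
      exact congrArg Subtype.val this
    obtain ⟨x, hx, hxT⟩ := o.compl.conj (m ^ 27) (pow_mem hmN 27) ⟨2, by rw [← pow_mul]; exact hm108⟩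
    set k := x * m ^ 27 * x⁻¹ with hk
    have hkfix : ∀ y ∈ D, k * y * k⁻¹ = y := by
      intro y hy
      have hy' : x⁻¹ * y * x ∈ D := by simpa using (mem_normalizer_iff.1 (inv_mem (hPX hx)) y).1 hy
      have e : m ^ 27 * (x⁻¹ * y * x) = (x⁻¹ * y * x) * m ^ 27 := (show Commute m _ from hm _ hy').pow_left 27
      calc k * y * k⁻¹ = x * (m ^ 27 * (x⁻¹ * y * x)) * (m ^ 27)⁻¹ * x⁻¹ := by rw [hk]; group
        _ = y := by rw [e]; group
    have hk1 : k = 1 := by
      by_contra hk1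
      let A : Subgroup G :=
        { carrier := {t | t ∈ T ∧ ∀ x ∈ (P : Subgroup G), t * x * t⁻¹ * x⁻¹ ∈ D}
          one_mem' := ⟨one_mem _, fun x _ => by simp⟩
          mul_mem' := by
            rintro a b ⟨ha, ha'⟩ ⟨hb, hb'⟩
            refine ⟨mul_mem ha hb, fun x hx => ?_⟩
            rw [show a * b * x * (a * b)⁻¹ * x⁻¹ = (a * (b * x * b⁻¹ * x⁻¹) * a⁻¹) * (a * x * a⁻¹ * x⁻¹) by group]
            exact mul_mem ((mem_normalizer_iff.1 (hNX (o.compl.le ha)) _).1 (hb' x hx)) (ha' x hx)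
          inv_mem' := by
            rintro a ⟨ha, ha'⟩
            refine ⟨inv_mem ha, fun x hx => ?_⟩
            rw [show a⁻¹ * x * a⁻¹⁻¹ * x⁻¹ = a⁻¹ * (a * x * a⁻¹ * x⁻¹)⁻¹ * a⁻¹⁻¹ by group]
            exact (mem_normalizer_iff.1 (inv_mem (hNX (o.compl.le ha))) _).1 (inv_mem (ha' x hx)) }
      have hAT : A ≤ T := fun t ht => ht.1
      have hkA : k ∈ A := ⟨hxT, htriv k (o.compl.le hxT) (Or.inl hkfix)⟩
      have hτA : τ ∈ A := ⟨hτT, htriv τ (o.compl.le hτT) (Or.inr hτ)⟩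
      have hτ1 : τ ≠ 1 := fun e => by
        have := hτ z0 (hZD hz0)
        rw [e, one_mul, inv_one, mul_one] at this
        exact hz01 (hsq z0 (hZD hz0) (mul_eq_one_iff_eq_inv.2 this))
      have hτk : τ ≠ k := fun e => by
        have := hτ z0 (hZD hz0)
        rw [e, hkfix z0 (hZD hz0)] at this
        exact hz01 (hsq z0 (hZD hz0) (mul_eq_one_iff_eq_inv.2 this))
      have h3 : 3 ≤ Nat.card A := by
        have hsub : ({1, τ, k} : Set G) ⊆ (A : Set G) := by
          intro a ha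
          rcases ha with rfl | rfl | rfl
          · exact one_mem A
          · exact hτA
          · exact hkA
        have hc := Set.ncard_le_ncard hsub (Set.toFinite _)
        rw [Set.ncard_insert_of_notMem (by simp [hτ1.symm, Ne.symm hk1]) (Set.toFinite _), Set.ncard_pair hτk] at hc
        rwa [← Nat.card_coe_set_eq] at hc
      have hd := card_dvd_of_le hAT
      rw [hT4] at hd
      have hA : A = T := eq_of_le_of_card_ge hAT (by
        have := Nat.le_of_dvd (by norm_num) hd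
        rw [hT4]
        rcases show Nat.card A = 3 ∨ Nat.card A = 4 by omega with e | e
        · rw [e] at hd; norm_num at hd
        · omega)
      refine h.transfer P o.compl o.le (fun e => ?_) hPX o.norm fun t ht => (hA.symm ▸ ht : t ∈ A).2
      have := o.card
      rw [e, h.card_three] at this
      omega
    have hm27 : m ^ 27 = 1 := by rwa [hk, conj_eq_one_iff] at hk1
    have hmP : m ∈ (P : Subgroup G) := by
      have hp : IsPGroup 3 (zpowers m) := by
        obtain ⟨i, -, hi⟩ := (Nat.dvd_prime_pow Nat.prime_three).1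
          (orderOf_dvd_of_pow_eq_one (by rw [show (3 : ℕ) ^ 3 = 27 by norm_num]; exact hm27) : orderOf m ∣ 3 ^ 3)
        exact IsPGroup.of_card (n := i) (by rw [Nat.card_zpowers, hi])
      exact inf_eq_left.1 ((hp.inf_normalizer_sylow P).symm.trans (inf_eq_left.2 (zpowers_le.2 hmN)))
        (mem_zpowers m)
    by_contra hmD
    exact hd0Z (HeisData.mem_ctr_of_commute (h := h) o.le o.card (o.le hd0) (fun y hy => hab y hy d0 hd0) hmP hmD
      (hm d0 hd0))
  have hRD : ∀ g : G, g ∉ X → X ⊓ MulAut.conj g • X ⊓ D = ⊥ := fun g hg => eq_bot_iff.2 fun d hd => by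
    rw [mem_bot]
    by_contra hd1
    exact hg (halone d hd.2 hd1 g (mem_point_stabilizer.1 hd.1).2)
  -- large point stabilisers
  have hlarge : ∀ g : G, g ∉ X → 3 ∣ Nat.card ↥(X ⊓ MulAut.conj g • X) →
      (24 ≤ Nat.card ↥(X ⊓ MulAut.conj g • X)) ∧ 216 ≤ Nat.card ↥(D ⊔ X ⊓ MulAut.conj g • X) := by
    intro g hg h3
    have h16 := h.card_point_stabilizer hX hg
    have e := card_sup_mul (A := D) (B := X ⊓ MulAut.conj g • X) inf_le_left
    rw [inf_comm D, hRD g hg, card_bot, mul_one, o.card] at e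
    have hd : Nat.card ↥(D ⊔ X ⊓ MulAut.conj g • X) ∣ 432 := hX ▸ card_dvd_of_le (sup_le hDX inf_le_left)
    rw [e, show 432 = 9 * 48 by norm_num] at hd
    have h48 := Nat.dvd_of_mul_dvd_mul_left (by norm_num) hd
    have hle := Nat.le_of_dvd (by norm_num) h48
    obtain ⟨a, ha⟩ := h3
    obtain ⟨b, hb⟩ := h48
    have hb3 : b ≤ 3 := by
      by_contra hlt
      have := Nat.mul_le_mul h16 (show 4 ≤ b by omega)
      omega
    interval_cases b <;> omega
  -- an element inverting `D` fixes the coset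
  have hinE : ∀ v ∈ (P : Subgroup G), v ∉ D → ∀ g : G, g ∉ X → g⁻¹ * v * g ∈ X →
      τ * v * τ⁻¹ * v⁻¹ ∈ Z ∧ ∃ r : G, r ≠ 1 ∧ r ∈ N(P) ∧ (∀ y ∈ D, r * y * r⁻¹ = y⁻¹) ∧ r * v = v * r := by
    intro v hv hvD g hg hvg
    set R := X ⊓ MulAut.conj g • X with hRdef
    have hvR : v ∈ R := mem_point_stabilizer.2 ⟨hPX hv, hvg⟩
    have hv1 : v ≠ 1 := fun e => hvD (e ▸ one_mem _)
    have h3 : 3 ∣ Nat.card R := by
      have := orderOf_dvd_natCard (⟨v, hvR⟩ : R)
      rwa [orderOf_mk, orderOf_eq_prime (h.pow_three P hv) hv1] at this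
    have hτA : τ ∈ D ⊔ R := by
      have := sq_mem_of_large hX (sup_le hDX inf_le_left) (hlarge g hg h3).2 hw
      rwa [pow_two, hww] at this
    have hset : ((D ⊔ R : Subgroup G) : Set G) = (D : Set G) * (R : Set G) :=
      coe_mul_of_right_le_normalizer_left _ _ inf_le_left
    obtain ⟨d, hd, r, hr, e⟩ := Set.mem_mul.1 (hset ▸ hτA : τ ∈ (D : Set G) * (R : Set G))
    have hrX : r ∈ X := hr.1
    have hrinv : ∀ y ∈ D, r * y * r⁻¹ = y⁻¹ := fun y hy => by
      calc r * y * r⁻¹ = d⁻¹ * (τ * y * τ⁻¹) * d := by rw [← e]; group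
        _ = y⁻¹ := by rw [hτ y hy, hab _ (inv_mem hd) _ (inv_mem hy), inv_mul_cancel_right]
    have hr1 : r ≠ 1 := fun e1 => by
      have := hrinv z0 (hZD hz0)
      rw [e1, one_mul, inv_one, mul_one] at this
      exact hz01 (hsq z0 (hZD hz0) (mul_eq_one_iff_eq_inv.2 this))
    have hc1 : r * v * r⁻¹ * v⁻¹ = 1 := by
      have hcR : r * v * r⁻¹ * v⁻¹ ∈ R := mul_mem (mul_mem (mul_mem hr hvR) (inv_mem hr)) (inv_mem hvR)
      have hcC : r * v * r⁻¹ * v⁻¹ ∈ D := hCD _ fun y hy => by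
        refine mul_inv_eq_iff_eq_mul.1 ?_
        have hy1 : v⁻¹ * y * v ∈ D := by simpa using (mem_normalizer_iff.1 (inv_mem (hPX hv)) y).1 hy
        have hr' : r⁻¹ * (v⁻¹ * y * v) * r = (v⁻¹ * y * v)⁻¹ := by
          calc r⁻¹ * (v⁻¹ * y * v) * r = r⁻¹ * ((v⁻¹ * y * v)⁻¹)⁻¹ * r := by rw [inv_inv]
            _ = r⁻¹ * (r * (v⁻¹ * y * v)⁻¹ * r⁻¹) * r := by rw [hrinv _ (inv_mem hy1)]
            _ = (v⁻¹ * y * v)⁻¹ := by group
        calc r * v * r⁻¹ * v⁻¹ * y * (r * v * r⁻¹ * v⁻¹)⁻¹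
            = r * v * (r⁻¹ * (v⁻¹ * y * v) * r) * v⁻¹ * r⁻¹ := by group
          _ = r * y⁻¹ * r⁻¹ := by rw [hr']; group
          _ = y := by rw [hrinv _ (inv_mem hy), inv_inv]
      have hm : r * v * r⁻¹ * v⁻¹ ∈ R ⊓ D := ⟨hcR, hcC⟩
      rwa [hRD g hg, mem_bot] at hm
    have hrv : r * v = v * r := mul_inv_eq_iff_eq_mul.1 (mul_inv_eq_one.1 hc1)
    have hrN : r ∈ N(P) := by
      refine Sylow.smul_eq_iff_mem_normalizer.1 ?_
      by_contra hne
      have hle : ((r • P : Sylow 3 G) : Subgroup G) ≤ X := Sylow.smul_le hPX ⟨r, hrX⟩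
      have hvm : v ∈ ((r • P : Sylow 3 G) : Subgroup G) := by
        rw [Sylow.coe_subgroup_smul]
        exact ⟨v, hv, by show r * v * r⁻¹ = v; rw [hrv, mul_inv_cancel_right]⟩
      exact hvD ((o.mem_fib hne hle) ▸ ⟨hv, hvm⟩)
    refine ⟨?_, r, hr1, hrN, hrinv, hrv⟩
    have hc : d * v * d⁻¹ * v⁻¹ ∈ Z := hH.comm_mem (o.le hd) hv
    have e2 : τ * v * τ⁻¹ * v⁻¹ = d * v * d⁻¹ * v⁻¹ := by
      rw [← e, show d * r * v * (d * r)⁻¹ * v⁻¹ = d * (r * v) * r⁻¹ * d⁻¹ * v⁻¹ by group, hrv]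
      group
    rw [e2]; exact hc
  -- no element outside `D` fixes another coset
  have halone2 : ∀ u ∈ (P : Subgroup G), u ∉ D → Alone X u := by
    intro u hu huD g0 hg0'
    by_contra hg0
    obtain ⟨huE, r, hr1, hrN, hrinv, hru⟩ := hinE u hu huD g0 hg0 hg0'
    obtain ⟨σ, hσT, hσ⟩ : ∃ σ ∈ T, σ * u * σ⁻¹ * u⁻¹ ∉ D := by
      by_contra hall
      push Not at hall
      refine h.transfer P o.compl o.le (fun e => ?_) hPX o.norm fun t ht x hx => ?_
      · have := o.card
        rw [e, h.card_three] at this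
        omega
      · by_cases hxD : x ∈ D
        · exact mul_mem ((mem_normalizer_iff.1 (o.norm ht) x).1 hxD) (inv_mem hxD)
        refine (hPD x hx hxD t (o.compl.le ht)).resolve_right fun hm => ?_
        have hta := hall t ht
        have htn : t ∈ X := o.norm ht
        rcases h.coset_cases o.le o.card hu huD hx hxD with e | e
        · set d := u⁻¹ * x with hd
          have : x * x ∈ D := by
            have h1 : t * x * t⁻¹ * x⁻¹ ∈ D := by
              rw [show t * x * t⁻¹ * x⁻¹ = (t * u * t⁻¹ * u⁻¹) * (u * ((t * d * t⁻¹) * d⁻¹) * u⁻¹) by rw [hd]; group]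
              exact mul_mem hta ((mem_normalizer_iff.1 (hPX hu) _).1
                (mul_mem ((mem_normalizer_iff.1 htn d).1 e) (inv_mem e)))
            have := mul_mem (inv_mem h1) hm
            rwa [show (t * x * t⁻¹ * x⁻¹)⁻¹ * (t * x * t⁻¹ * x) = x * x by group] at this
          have h3 := h.pow_three P hx
          rw [pow_succ, pow_two] at h3
          exact hxD (by rw [eq_inv_of_mul_eq_one_right h3]; exact inv_mem this)
        · set d := u * x with hd
          have : x * x ∈ D := by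
            have h1 : t * x * t⁻¹ * x⁻¹ ∈ D := by
              rw [show t * x * t⁻¹ * x⁻¹ = u⁻¹ * ((t * u * t⁻¹ * u⁻¹)⁻¹ * (t * d * t⁻¹) * d⁻¹) * u⁻¹⁻¹ by
                rw [hd]; group]
              exact (mem_normalizer_iff.1 (inv_mem (hPX hu)) _).1
                (mul_mem (mul_mem (inv_mem hta) ((mem_normalizer_iff.1 htn d).1 e)) (inv_mem e))
            have := mul_mem (inv_mem h1) hm
            rwa [show (t * x * t⁻¹ * x⁻¹)⁻¹ * (t * x * t⁻¹ * x) = x * x by group] at this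
          have h3 := h.pow_three P hx
          rw [pow_succ, pow_two] at h3
          exact hxD (by rw [eq_inv_of_mul_eq_one_right h3]; exact inv_mem this)
    set u' := σ * u * σ⁻¹ with hu'
    have hσN := o.compl.le hσT
    have hu'P : u' ∈ (P : Subgroup G) := (mem_normalizer_iff.1 hσN u).1 hu
    have hu'D : u' ∉ D := fun hm => huD ((mem_normalizer_iff.1 (o.norm hσT) u).2 hm)
    have hσZ : σ ∈ normalizer (Z : Set G) := hNZ.symm ▸ hσN
    have hu'E : τ * u' * τ⁻¹ * u'⁻¹ ∈ Z := by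
      have e : τ * σ = σ * τ := hTc τ hτT σ hσT
      have e' : τ * u' * τ⁻¹ * u'⁻¹ = σ * (τ * u * τ⁻¹ * u⁻¹) * σ⁻¹ := by
        rw [hu']
        calc τ * (σ * u * σ⁻¹) * τ⁻¹ * (σ * u * σ⁻¹)⁻¹ = (τ * σ) * u * (τ * σ)⁻¹ * (σ * u * σ⁻¹)⁻¹ := by group
          _ = σ * (τ * u * τ⁻¹ * u⁻¹) * σ⁻¹ := by rw [e]; group
      rw [e']
      exact (mem_normalizer_iff.1 hσZ _).1 huE
    have hu'coset : u * u' ∈ D := (h.coset_cases o.le o.card hu huD hu'P hu'D).resolve_left fun hm => hσ (by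
      have := (mem_normalizer_iff.1 (hPX hu) _).1 hm
      rwa [show u * (u⁻¹ * u') * u⁻¹ = u' * u⁻¹ by group] at this)
    -- translates of an element outside `D` by the centre
    have hshift : ∀ a ∈ (P : Subgroup G), a ∉ D → ∀ z ∈ Z, ∃ y ∈ D, y * a * y⁻¹ = z * a := by
      intro a ha haD z hz
      set c := d0 * a * d0⁻¹ * a⁻¹ with hc
      have hcZ : c ∈ Z := hH.comm_mem (o.le hd0) ha
      have hgen := zpowers_eq_of_three hZ3 hcZ (hd0c a ha haD)
      have hcP := (mem_ctr.1 hcZ).1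
      obtain ⟨i, rfl⟩ : ∃ i : ℕ, c ^ i = z := by
        have hm : z ∈ zpowers c := hgen.symm ▸ hz
        rw [mem_zpowers_iff_mem_range_orderOf] at hm
        obtain ⟨i, -, hi⟩ := Finset.mem_image.1 hm
        exact ⟨i, hi⟩
      refine ⟨d0 ^ i, pow_mem hd0 i, ?_⟩
      induction i with
      | zero => simp
      | succ i ih =>
        calc d0 ^ (i + 1) * a * (d0 ^ (i + 1))⁻¹ = d0 * (d0 ^ i * a * (d0 ^ i)⁻¹) * d0⁻¹ := by rw [pow_succ']; group
          _ = (d0 * c ^ i) * a * d0⁻¹ := by rw [ih (pow_mem hcZ i)]; group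
          _ = c ^ i * (d0 * a * d0⁻¹) := by rw [hab d0 hd0 _ (hZD (pow_mem hcZ i))]; group
          _ = c ^ i * (c * a) := by rw [hc]; group
          _ = c ^ (i + 1) * a := by rw [pow_succ]; group
    -- the class of `u`
    have hclass : ∀ v ∈ (P : Subgroup G), v ∉ D → τ * v * τ⁻¹ * v⁻¹ ∈ Z → ∃ x ∈ X, v = x * u * x⁻¹ := by
      intro v hv hvD hvE
      obtain ⟨y0, hy0, b, hb, hbE, hby, hbd⟩ : ∃ y ∈ X, ∃ b ∈ (P : Subgroup G),
          τ * b * τ⁻¹ * b⁻¹ ∈ Z ∧ y * u * y⁻¹ = b ∧ b⁻¹ * v ∈ D := by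
        rcases h.coset_cases o.le o.card hu huD hv hvD with e | e
        · exact ⟨1, one_mem _, u, hu, huE, by simp, e⟩
        · refine ⟨σ, o.norm hσT, u', hu'P, hu'E, rfl, ?_⟩
          have := mul_mem (inv_mem hu'coset) e
          rwa [show (u * u')⁻¹ * (u * v) = u'⁻¹ * v by group] at this
      set d := b⁻¹ * v with hd
      have hbD : b ∉ D := fun hm => hvD (by
        have := mul_mem hm hbd
        rwa [hd, mul_inv_cancel_left] at this)
      have hdZ : d ∈ Z := by
        set a1 := τ * v * τ⁻¹ * v⁻¹ with ha1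
        set b1 := τ * b * τ⁻¹ * b⁻¹ with hb1
        have hτd : τ * d * τ⁻¹ = d⁻¹ := hτ d hbd
        have e1 : b * (d * a1) = b * (d⁻¹ * b1) := by
          have h1 : τ * v * τ⁻¹ = (τ * b * τ⁻¹) * (τ * d * τ⁻¹) := by rw [hd]; group
          calc b * (d * a1) = (b * d) * a1 := by group
            _ = a1 * v := by
              rw [show b * d = v by rw [hd]; group]; exact hzc a1 hvE v hv
            _ = τ * v * τ⁻¹ := by rw [ha1]; group
            _ = b1 * b * d⁻¹ := by rw [h1, hτd, hb1]; group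
            _ = b * (b1 * d⁻¹) := by rw [← hzc b1 hbE b hb]; group
            _ = b * (d⁻¹ * b1) := by rw [hzc b1 hbE _ (o.le (inv_mem hbd))]
        have e2 := mul_left_cancel e1
        have hdd : d * d ∈ Z := by
          have : d * d = b1 * a1⁻¹ := by
            calc d * d = d * (d * a1) * a1⁻¹ := by group
              _ = b1 * a1⁻¹ := by rw [e2]; group
          rw [this]; exact mul_mem hbE (inv_mem hvE)
        have h3 := h.pow_three P (o.le hbd)
        rw [pow_succ, pow_two] at h3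
        rw [eq_inv_of_mul_eq_one_right h3]
        exact inv_mem hdd
      obtain ⟨y1, hy1, e1⟩ := hshift b hb hbD d hdZ
      refine ⟨y1 * y0, mul_mem (hDX hy1) hy0, ?_⟩
      rw [show y1 * y0 * u * (y1 * y0)⁻¹ = y1 * (y0 * u * y0⁻¹) * y1⁻¹ by group, hby, e1, ← hzc d hdZ b hb, hd]
      group
    have hmoved : ∀ v ∈ X, v ^ 3 = 1 → v ∉ D → ∀ g : G, g ∉ X → g⁻¹ * v * g ∈ X → ∃ x ∈ X, v = x * u * x⁻¹ := by
      intro v hv hv3 hvD g hg hgv
      obtain ⟨x, hx, hxv⟩ := exists_conj_into hPX hv hv3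
      have hxD : x * v * x⁻¹ ∉ D := fun hm => hvD ((mem_normalizer_iff.1 hx v).2 hm)
      have hE := (hinE _ hxv hxD (x * g) (fun hm => hg (by simpa using mul_mem (inv_mem hx) hm))
        (by rwa [show (x * g)⁻¹ * (x * v * x⁻¹) * (x * g) = g⁻¹ * v * g by group])).1
      obtain ⟨y, hy, e⟩ := hclass _ hxv hxD hE
      exact ⟨x⁻¹ * y, mul_mem (inv_mem hx) hy, by
        rw [show x⁻¹ * y * u * (x⁻¹ * y)⁻¹ = x⁻¹ * (y * u * y⁻¹) * x by group, ← e]; group⟩
    -- the centralizer of `u` in `X`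
    set C := centralizer ({u} : Set G) with hCdef
    have hCXN : C ⊓ X ≤ N(P) := by
      rintro a ⟨haC, haX⟩
      refine Sylow.smul_eq_iff_mem_normalizer.1 ?_
      by_contra hne
      have hle : ((a • P : Sylow 3 G) : Subgroup G) ≤ X := Sylow.smul_le hPX ⟨a, haX⟩
      have hum : u ∈ ((a • P : Sylow 3 G) : Subgroup G) := by
        rw [Sylow.coe_subgroup_smul]
        exact ⟨u, hu, by show a * u * a⁻¹ = u; rw [mem_centralizer_singleton_iff.1 haC, mul_inv_cancel_right]⟩
      exact huD ((o.mem_fib hne hle) ▸ ⟨hu, hum⟩)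
    have h18 : Nat.card ↥(C ⊓ X) = 18 := by
      have hd108 : Nat.card ↥(C ⊓ X) ∣ 108 := hN108 ▸ card_dvd_of_le hCXN
      have h9 : 9 ∣ Nat.card ↥(C ⊓ X) := by
        have huZ : u ∉ Z := fun hm => huD (hZD hm)
        have hle : (P : Subgroup G) ⊓ centralizer ({u} : Set G) ≤ C ⊓ X :=
          le_inf inf_le_right (inf_le_left.trans hPX)
        rw [← hH.centralizer_plane hu huZ]
        exact card_dvd_of_le hle
      have h2 : 2 ∣ Nat.card ↥(C ⊓ X) := by
        have hm : r ∈ C ⊓ X := ⟨mem_centralizer_singleton_iff.2 hru, hNX hrN⟩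
        have heven : 2 ∣ orderOf r := by
          by_contra hodd
          obtain ⟨j, hj⟩ : Odd (orderOf r) := Nat.not_even_iff_odd.1 (fun he => hodd he.two_dvd)
          have hsq2 : ∀ i : ℕ, ∀ y ∈ D, r ^ (2 * i) * y * (r ^ (2 * i))⁻¹ = y := by
            intro i
            induction i with
            | zero => intro y hy; simp
            | succ i ih =>
              intro y hy
              calc r ^ (2 * (i + 1)) * y * (r ^ (2 * (i + 1)))⁻¹
                  = r * (r * (r ^ (2 * i) * y * (r ^ (2 * i))⁻¹) * r⁻¹) * r⁻¹ := by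
                    rw [show 2 * (i + 1) = 2 * i + 1 + 1 by ring, pow_succ', pow_succ']; group
                _ = y := by rw [ih y hy, hrinv y hy, hrinv _ (inv_mem hy), inv_inv]
          have h1 : r ^ (2 * j + 1) = 1 := hj ▸ pow_orderOf_eq_one r
          have h2 := hrinv z0 (hZD hz0)
          have h3 : r ^ (2 * j + 1) * z0 * (r ^ (2 * j + 1))⁻¹ = z0⁻¹ := by
            rw [pow_succ', show r * r ^ (2 * j) * z0 * (r * r ^ (2 * j))⁻¹ =
              r * (r ^ (2 * j) * z0 * (r ^ (2 * j))⁻¹) * r⁻¹ by group, hsq2 j z0 (hZD hz0), h2]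
          rw [h1, one_mul, inv_one, mul_one] at h3
          exact hz01 (hsq z0 (hZD hz0) (mul_eq_one_iff_eq_inv.2 h3))
        have := orderOf_dvd_natCard (⟨r, hm⟩ : ↥(C ⊓ X))
        rw [orderOf_mk] at this
        exact heven.trans this
      have h6 : 6 * Nat.card ↥(C ⊓ X) ≤ 108 := by
        have hsel : ∀ p : Bool × Z, ∃ n ∈ N(P), n * u * n⁻¹ = (p.2 : G) * (if p.1 then u else u') := by
          rintro ⟨b, z⟩
          cases b
          · obtain ⟨y, hy, e⟩ := hshift u' hu'P hu'D z z.2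
            refine ⟨y * σ, mul_mem (le_normalizer (o.le hy)) hσN, ?_⟩
            rw [show y * σ * u * (y * σ)⁻¹ = y * (σ * u * σ⁻¹) * y⁻¹ by group]
            simpa using e
          · obtain ⟨y, hy, e⟩ := hshift u hu huD z z.2
            exact ⟨y, le_normalizer (o.le hy), by simpa using e⟩
        choose n hnN hn using hsel
        let f : (Bool × Z) × ↥(C ⊓ X) → N(P) := fun q => ⟨n q.1 * q.2, mul_mem (hnN q.1) (hCXN q.2.2)⟩
        have hf : Function.Injective f := by
          rintro ⟨p, c⟩ ⟨p', c'⟩ e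
          have e' : n p * c = n p' * c' := congrArg Subtype.val e
          have hcu : ∀ c : ↥(C ⊓ X), (c : G) * u * (c : G)⁻¹ = u := fun c => by
            rw [mem_centralizer_singleton_iff.1 c.2.1, mul_inv_cancel_right]
          have hp : n p * u * (n p)⁻¹ = n p' * u * (n p')⁻¹ := by
            calc n p * u * (n p)⁻¹ = n p * ((c : G) * u * (c : G)⁻¹) * (n p)⁻¹ := by rw [hcu]
              _ = (n p * c) * u * (n p * c)⁻¹ := by group
              _ = n p' * ((c' : G) * u * (c' : G)⁻¹) * (n p')⁻¹ := by rw [e']; group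
              _ = n p' * u * (n p')⁻¹ := by rw [hcu]
          rw [hn, hn] at hp
          have hpp : p = p' := by
            rcases p with ⟨b, z⟩
            rcases p' with ⟨b', z'⟩
            cases b <;> cases b' <;> simp only [Bool.false_eq_true, if_false, if_true] at hp
            · exact Prod.ext rfl (Subtype.ext (mul_right_cancel hp))
            · exfalso
              refine hσ ?_
              show u' * u⁻¹ ∈ D
              rw [show u' * u⁻¹ = (z : G)⁻¹ * ((z : G) * u') * u⁻¹ by group, hp]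
              rw [show (z : G)⁻¹ * ((z' : G) * u) * u⁻¹ = (z : G)⁻¹ * (z' : G) by group]
              exact hZD (mul_mem (inv_mem z.2) z'.2)
            · exfalso
              refine hσ ?_
              show u' * u⁻¹ ∈ D
              rw [show u' * u⁻¹ = (z' : G)⁻¹ * ((z' : G) * u') * u⁻¹ by group, ← hp]
              rw [show (z' : G)⁻¹ * ((z : G) * u) * u⁻¹ = (z' : G)⁻¹ * (z : G) by group]
              exact hZD (mul_mem (inv_mem z'.2) z.2)
            · exact Prod.ext rfl (Subtype.ext (mul_right_cancel hp))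
          subst hpp
          exact Prod.ext rfl (Subtype.ext (mul_left_cancel e'))
        have := Nat.card_le_card_of_injective f hf
        rw [Nat.card_prod, Nat.card_prod, Nat.card_eq_fintype_card (α := Bool), Fintype.card_bool, hZ3, hN108] at this
        omega
      obtain ⟨a, ha⟩ := h9
      rw [ha] at h2 hd108 h6 ⊢
      have ha2 : a ≤ 2 := by omega
      interval_cases a <;> omega
    -- the fixed cosets of `u`
    have huX : u ∈ X := hPX hu
    have horbit : {q : G ⧸ X | u • q = q} = orbit C ((1 : G) : G ⧸ X) := by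
      ext q
      constructor
      · refine q.inductionOn fun g hq => ?_
        have hgu : g⁻¹ * u * g ∈ X := by
          have h1 : ((u * g : G) : G ⧸ X) = (g : G ⧸ X) := hq
          rw [eq_comm, QuotientGroup.eq, ← mul_assoc] at h1
          exact h1
        by_cases hg : g ∈ X
        · refine ⟨1, ?_⟩
          show (((1 : G) * 1 : G) : G ⧸ X) = (g : G ⧸ X)
          rw [QuotientGroup.eq]
          simpa using hg
        set v := g⁻¹ * u * g with hv
        have hgi : g⁻¹ ∉ X := fun hm => hg (inv_mem_iff.1 hm)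
        have hgv : g⁻¹⁻¹ * v * g⁻¹ ∈ X := by
          rw [show g⁻¹⁻¹ * v * g⁻¹ = u by rw [hv]; group]; exact huX
        have hvD : v ∉ D := fun hm => by
          by_cases hv1 : v = 1
          · rw [hv, mul_assoc, inv_mul_eq_one] at hv1
            exact huD ((mul_eq_right.1 hv1.symm).symm ▸ one_mem D)
          · exact hgi (halone v hm hv1 g⁻¹ hgv)
        have hv3 : v ^ 3 = 1 := by
          rw [hv, show g⁻¹ * u * g = g⁻¹ * u * g⁻¹⁻¹ by group, conj_pow, h.pow_three P hu]; group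
        obtain ⟨x, hx, e⟩ := hmoved v hgu hv3 hvD g⁻¹ hgi hgv
        refine ⟨⟨g * x, mem_centralizer_singleton_iff.2 (mul_inv_eq_iff_eq_mul.1 ?_)⟩, ?_⟩
        · calc g * x * u * (g * x)⁻¹ = g * (x * u * x⁻¹) * g⁻¹ := by group
            _ = u := by rw [← e, hv]; group
        · show ((g * x * 1 : G) : G ⧸ X) = (g : G ⧸ X)
          rw [QuotientGroup.eq, show (g * x * 1)⁻¹ * g = x⁻¹ by group]
          exact inv_mem hx
      · rintro ⟨c, rfl⟩
        show (((u * ((c : G) * 1) : G)) : G ⧸ X) = (((c : G) * 1 : G) : G ⧸ X)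
        rw [QuotientGroup.eq, show (u * ((c : G) * 1))⁻¹ * ((c : G) * 1) = (c : G)⁻¹ * (u⁻¹ * (c : G)) by group,
          ← (show Commute (c : G) u from mem_centralizer_singleton_iff.1 c.2).inv_right.eq, inv_mul_cancel_left]
        exact inv_mem huX
    have hstab : stabilizer C ((1 : G) : G ⧸ X) = X.subgroupOf C := by
      ext c
      rw [mem_stabilizer_iff, mem_subgroupOf]
      show ((((c : G) * 1 : G)) : G ⧸ X) = _ ↔ _
      rw [mul_one, QuotientGroup.eq, mul_one, inv_mem_iff]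
    have hk := (stabilizer C ((1 : G) : G ⧸ X)).index_mul_card
    rw [index_stabilizer, hstab, Nat.card_congr (show ↥(X.subgroupOf C) ≃ ↥(C ⊓ X) from
      { toFun := fun a => ⟨a.1, a.1.2, a.2⟩
        invFun := fun a => ⟨⟨a.1, a.2.1⟩, a.2.2⟩
        left_inv := fun a => rfl
        right_inv := fun a => rfl }), h18] at hk
    set k := (orbit C ((1 : G) : G ⧸ X)).ncard with hkdef
    let K : Set G := {v | ∃ x ∈ X, v = x * u * x⁻¹}
    have hK24 : Nat.card K = 24 := by
      letI : MulAction X G := MulAction.compHom G (MulAut.conj.comp X.subtype)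
      have hsmul : ∀ (a : X) (v : G), a • v = (a : G) * v * (a : G)⁻¹ := fun a v => rfl
      have horb : orbit X u = K := by
        ext v
        exact ⟨fun ⟨a, ha⟩ => ⟨a, a.2, ha ▸ rfl⟩, fun ⟨x, hx, e⟩ => ⟨⟨x, hx⟩, e.symm⟩⟩
      have e := (stabilizer X u).index_mul_card
      rw [index_stabilizer, horb, Nat.card_congr (show ↥(stabilizer X u) ≃ ↥(C ⊓ X) from
        { toFun := fun a => ⟨a.1, mem_centralizer_singleton_iff.2 (mul_inv_eq_iff_eq_mul.1
            (show ((a.1 : X) : G) * u * ((a.1 : X) : G)⁻¹ = u from a.2)), a.1.2⟩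
          invFun := fun a => ⟨⟨a.1, a.2.2⟩, by
            rw [mem_stabilizer_iff, hsmul]
            exact mul_inv_eq_iff_eq_mul.2 (mem_centralizer_singleton_iff.1 a.2.1)⟩
          left_inv := fun a => rfl
          right_inv := fun a => rfl }), h18, hX] at e
      rw [Nat.card_coe_set_eq]
      omega
    have hKk : ∀ v : K, Nat.card {q : G ⧸ X // (v : G) • q = q ∧ q ≠ ((1 : G) : G ⧸ X)} + 1 = k := by
      rintro ⟨v, x, hx, rfl⟩
      rw [hkdef, ← horbit]
      have hb : ((1 : G) : G ⧸ X) ∈ {q : G ⧸ X | u • q = q} := by rw [horbit]; exact mem_orbit_self _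
      rw [← Set.ncard_sdiff_singleton_add_one hb (Set.toFinite _), ← Nat.card_coe_set_eq]
      congr 1
      have hbase : x • ((1 : G) : G ⧸ X) = ((1 : G) : G ⧸ X) := by
        show ((x * 1 : G) : G ⧸ X) = _
        rw [mul_one, QuotientGroup.eq, mul_one, inv_mem_iff]; exact hx
      refine (Nat.card_congr (Equiv.subtypeEquiv (MulAction.toPerm x) fun q => ?_)).symm
      show (u • q = q ∧ q ∉ ({((1 : G) : G ⧸ X)} : Set (G ⧸ X))) ↔
        ((x * u * x⁻¹) • x • q = x • q ∧ x • q ≠ ((1 : G) : G ⧸ X))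
      rw [mul_smul, inv_smul_smul, mul_smul, smul_left_cancel_iff, Set.mem_singleton_iff]
      exact and_congr_right fun _ => not_congr
        ⟨fun e => e ▸ hbase, fun e => smul_left_cancel x (e.trans hbase.symm)⟩
    -- every stabiliser has order divisible by three
    set R0 := X ⊓ MulAut.conj g0 • X with hR0
    have hu1 : u ≠ 1 := fun e => huD (e ▸ one_mem _)
    have h30 : 3 ∣ Nat.card R0 := by
      have := orderOf_dvd_natCard (⟨u, mem_point_stabilizer.2 ⟨huX, hg0'⟩⟩ : R0)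
      rwa [orderOf_mk, orderOf_eq_prime (h.pow_three P hu) hu1] at this
    have hthree : ∀ g : G, g ∉ X → 3 ∣ Nat.card ↥(X ⊓ MulAut.conj g • X) := by
      intro g hg
      by_contra h3
      have e := coset_orbit X g
      rw [hX] at e
      have h16 := h.card_point_stabilizer hX hg
      have hsub : orbit X (g : G ⧸ X) ⊆ {c : G ⧸ X | c ≠ ((1 : G) : G ⧸ X)} := fun c hc => coset_orbit_ne hg hc
      have hd : Nat.card ↥(X ⊓ MulAut.conj g • X) ∣ 2 ^ 4 * 27 := by
        rw [show 2 ^ 4 * 27 = 432 by norm_num, ← hX]; exact card_dvd_of_le inf_le_left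
      have hcop : Nat.Coprime (Nat.card ↥(X ⊓ MulAut.conj g • X)) 27 :=
        show Nat.Coprime _ (3 ^ 3) from ((Nat.prime_three.coprime_iff_not_dvd.2 h3).symm).pow_right 3
      have h16' : Nat.card ↥(X ⊓ MulAut.conj g • X) = 16 :=
        le_antisymm (Nat.le_of_dvd (by norm_num) (hcop.dvd_of_dvd_mul_right hd)) h16
      rw [h16'] at e
      have hall := Set.eq_of_subset_of_ncard_le hsub (by rw [others_ncard h hX]; omega) (Set.toFinite _)
      have hm : (g0 : G ⧸ X) ∈ orbit X (g : G ⧸ X) := by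
        rw [hall]
        intro e'
        rw [QuotientGroup.eq, mul_one, inv_mem_iff] at e'
        exact hg0 e'
      have e0 := coset_orbit X g0
      rw [hX, orbit_eq_iff.2 hm] at e0
      have h24 := (hlarge g0 hg0 h30).1
      have hn : (orbit X (g : G ⧸ X)).ncard = 27 := by omega
      rw [hn] at e0
      omega
    -- eight elements of order three at every point
    have h8 : ∀ q : {q : G ⧸ X // q ≠ ((1 : G) : G ⧸ X)}, Nat.card {v : K // (v : G) • q.1 = q.1} = 8 := by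
      rintro ⟨q, hq⟩
      obtain ⟨g, rfl⟩ := QuotientGroup.mk_surjective q
      have hg : g ∉ X := fun hm => hq (by rw [QuotientGroup.eq, mul_one, inv_mem_iff]; exact hm)
      set R := X ⊓ MulAut.conj g • X with hRdef
      obtain ⟨h24, h216⟩ := hlarge g hg (hthree g hg)
      have hfixR : ∀ v ∈ X, (v • (g : G ⧸ X) = (g : G ⧸ X) ↔ v ∈ R) := fun v hv => by
        show ((v * g : G) : G ⧸ X) = (g : G ⧸ X) ↔ _
        rw [hRdef, mem_point_stabilizer, eq_comm, QuotientGroup.eq, ← mul_assoc, and_iff_right hv]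
      have hDle : ∀ Q : Sylow 3 G, (Q : Subgroup G) ≤ X → D ≤ (Q : Subgroup G) := fun Q hQ =>
        le_of_normal_le (IsPGroup.of_card (n := 2) (by rw [o.card]; norm_num)) hQ
      have hset : ((D ⊔ R : Subgroup G) : Set G) = (D : Set G) * (R : Set G) :=
        coe_mul_of_right_le_normalizer_left _ _ inf_le_left
      have hQR : ∀ Q : Sylow 3 G, (Q : Subgroup G) ≤ X → Nat.card ↥((Q : Subgroup G) ⊓ R) = 3 := by
        intro Q hQ
        have e := card_sup_mul (A := D) (B := (Q : Subgroup G) ⊓ R) (inf_le_left.trans hQ)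
        have hbot : D ⊓ ((Q : Subgroup G) ⊓ R) = ⊥ := eq_bot_iff.2 fun d hd => by
          rw [← hRD g hg]; exact ⟨hd.2.2, hd.1⟩
        rw [hbot, card_bot, mul_one, o.card] at e
        have hle27 : Nat.card ↥(D ⊔ (Q : Subgroup G) ⊓ R) ≤ 27 :=
          h.card_three Q ▸ card_le_of_le (sup_le (hDle Q hQ) inf_le_left)
        have hd : Nat.card ↥((Q : Subgroup G) ⊓ R) ∣ 3 ^ 3 := by
          simpa [h.card_three] using card_dvd_of_le (inf_le_left : (Q : Subgroup G) ⊓ R ≤ _)
        obtain ⟨i, hi, he⟩ := (Nat.dvd_prime_pow Nat.prime_three).1 hd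
        have hi0 : i ≠ 0 := by
          rintro rfl
          have hQR' : (Q : Subgroup G) ⊓ R = ⊥ := eq_bot_of_card_eq _ (by rw [he]; norm_num)
          obtain ⟨a, ha, haD⟩ : ∃ a ∈ (Q : Subgroup G), a ∉ D := by
            by_contra hall
            push Not at hall
            have := card_le_of_le (fun y hy => hall y hy : (Q : Subgroup G) ≤ D)
            rw [o.card, h.card_three] at this
            omega
          have hA : a ∈ D ⊔ R := by
            have := sq_mem_of_large hX (sup_le hDX inf_le_left) h216 (hQ (mul_mem ha ha))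
            rwa [← pow_two, ← pow_mul, show a ^ (2 * 2) = a by
              rw [show 2 * 2 = 3 + 1 by norm_num, pow_succ, h.pow_three Q ha, one_mul]] at this
          obtain ⟨d, hd, b, hb, rfl⟩ := Set.mem_mul.1 (hset ▸ hA : a ∈ (D : Set G) * (R : Set G))
          have hbQ : b ∈ (Q : Subgroup G) := by simpa using mul_mem (inv_mem (hDle Q hQ hd)) ha
          have : b ∈ (Q : Subgroup G) ⊓ R := ⟨hbQ, hb⟩
          rw [hQR', mem_bot] at this
          exact haD (by rw [this, mul_one]; exact hd)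
        rw [he] at e ⊢
        interval_cases i <;> omega
      let Y := {Q : Sylow 3 G // (Q : Subgroup G) ≤ X}
      let f : (Σ Q : Y, {v : ↥((Q.1 : Subgroup G) ⊓ R) // v ≠ 1}) → {v : K // (v : G) • (g : G ⧸ X) = (g : G ⧸ X)} :=
        fun p => ⟨⟨(p.2.1 : G), hmoved _ (p.1.2 p.2.1.2.1) (h.pow_three p.1.1 p.2.1.2.1)
          (fun hm => p.2.2 (Subtype.ext (mem_bot.1 (hRD g hg ▸ (⟨p.2.1.2.2, hm⟩ : (p.2.1 : G) ∈ R ⊓ D)))))
          g hg (mem_point_stabilizer.1 p.2.1.2.2).2⟩, (hfixR _ (p.1.2 p.2.1.2.1)).2 p.2.1.2.2⟩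
      have hf : Function.Bijective f := by
        constructor
        · rintro ⟨⟨Q, hQ⟩, ⟨v, hv⟩, hv1⟩ ⟨⟨Q', hQ'⟩, ⟨v', hv'⟩, hv'1⟩ e
          obtain rfl : v = v' := congrArg (fun t => (t.1 : G)) e
          obtain rfl : Q = Q' := by
            by_contra hne
            obtain ⟨y, hy, rfl⟩ := exists_conj_sylow hPX hQ
            have hle : ((y⁻¹ • Q' : Sylow 3 G) : Subgroup G) ≤ X := Sylow.smul_le hQ' ⟨y⁻¹, inv_mem hy⟩
            have hne' : y⁻¹ • Q' ≠ P := fun e1 => hne (inv_smul_eq_iff.1 e1).symm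
            have hm : y⁻¹ * v * y ∈ D := by
              rw [← o.mem_fib hne' hle]
              constructor
              · obtain ⟨a, ha, hav⟩ := hv.1
                have hav' : y * a * y⁻¹ = v := hav
                show y⁻¹ * v * y ∈ (P : Subgroup G)
                rw [← hav', show y⁻¹ * (y * a * y⁻¹) * y = a by group]; exact ha
              · exact ⟨v, hv'.1, by show y⁻¹ * v * y⁻¹⁻¹ = y⁻¹ * v * y; rw [inv_inv]⟩
            have hvD : v ∈ D := (mem_normalizer_iff.1 (inv_mem hy) v).2 (by rwa [inv_inv])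
            exact hv1 (Subtype.ext (mem_bot.1 (hRD g hg ▸ (⟨hv.2, hvD⟩ : v ∈ R ⊓ D))))
          rfl
        · rintro ⟨⟨v, x, hx, rfl⟩, hv⟩
          have hle : ((x • P : Sylow 3 G) : Subgroup G) ≤ X := Sylow.smul_le hPX ⟨x, hx⟩
          have hmem : x * u * x⁻¹ ∈ ((x • P : Sylow 3 G) : Subgroup G) := by
            rw [Sylow.coe_subgroup_smul]; exact ⟨u, hu, rfl⟩
          exact ⟨⟨⟨x • P, hle⟩, ⟨x * u * x⁻¹, hmem, (hfixR _ (hle hmem)).1 hv⟩,
            fun e => hu1 (conj_eq_one_iff.1 (congrArg Subtype.val e))⟩, rfl⟩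
      letI : Fintype Y := Fintype.ofFinite Y
      rw [← Nat.card_eq_of_bijective f hf, Nat.card_sigma, Finset.sum_congr rfl fun (Q : Y) _ =>
        show Nat.card {v : ↥((Q.1 : Subgroup G) ⊓ R) // v ≠ 1} = 2 by
          letI := Fintype.ofFinite ↥((Q.1 : Subgroup G) ⊓ R)
          rw [Nat.card_eq_fintype_card, Fintype.card_subtype_compl, Fintype.card_subtype_eq,
            ← Nat.card_eq_fintype_card, hQR Q.1 Q.2],
        Finset.sum_const, Finset.card_univ, smul_eq_mul, ← Nat.card_eq_fintype_card,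
        show Nat.card Y = 4 by rw [card_sylow_le _ P hPX, o.card_sylow]]
    -- count the incidences
    let Ω := {q : G ⧸ X // q ≠ ((1 : G) : G ⧸ X)}
    let e : (Σ q : Ω, {v : K // (v : G) • q.1 = q.1}) ≃
        Σ v : K, {q : G ⧸ X // (v : G) • q = q ∧ q ≠ ((1 : G) : G ⧸ X)} :=
      { toFun := fun p => ⟨p.2.1, p.1.1, p.2.2, p.1.2⟩
        invFun := fun p => ⟨⟨p.2.1, p.2.2.2⟩, p.1, p.2.2.1⟩
        left_inv := fun p => rfl
        right_inv := fun p => rfl }
    letI : Fintype Ω := Fintype.ofFinite Ω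
    letI : Fintype K := Fintype.ofFinite K
    have hcount := Nat.card_congr e
    rw [Nat.card_sigma, Nat.card_sigma, Finset.sum_congr rfl fun q _ => h8 q,
      Finset.sum_congr rfl fun (v : K) _ => (show Nat.card {q : G ⧸ X // (v : G) • q = q ∧ q ≠ ((1 : G) : G ⧸ X)} = k - 1 by
        have := hKk v; omega),
      Finset.sum_const, Finset.sum_const, Finset.card_univ, Finset.card_univ, smul_eq_mul, smul_eq_mul,
      ← Nat.card_eq_fintype_card, ← Nat.card_eq_fintype_card, hK24,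
      show Nat.card Ω = 27 from (Nat.card_coe_set_eq {c : G ⧸ X | c ≠ ((1 : G) : G ⧸ X)}).trans (others_ncard h hX)]
      at hcount
    have hk10 : k = 10 := by omega
    rw [hk10] at hk
    have h180 : 180 ∣ 12096 := by
      have := card_subgroup_dvd_card C
      rwa [← hk, h.card] at this
    norm_num at h180
  -- the element of order twelve
  obtain ⟨g12, hg12⟩ := h.has12
  have ho4 : orderOf (g12 ^ 4) = 3 := by rw [orderOf_pow' _ (by norm_num), hg12]; rfl
  have ho3 : orderOf (g12 ^ 3) = 4 := by rw [orderOf_pow' _ (by norm_num), hg12]; rfl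
  obtain ⟨S, hS'⟩ := (IsPGroup.of_card (p := 3) (n := 1) (by rw [Nat.card_zpowers, ho4]; norm_num) :
    IsPGroup 3 (zpowers (g12 ^ 4))).exists_le_sylow
  obtain ⟨y, hy⟩ := MulAction.exists_smul_eq G S P
  set u := y * g12 ^ 4 * y⁻¹ with hu'
  set a := y * g12 ^ 3 * y⁻¹ with ha'
  have hu : u ∈ (P : Subgroup G) := by
    rw [← hy, Sylow.coe_subgroup_smul]
    exact ⟨g12 ^ 4, hS' (mem_zpowers _), rfl⟩
  have ha4 : orderOf a = 4 := by rw [← ho3]; exact MulEquiv.orderOf_eq (MulAut.conj y) (g12 ^ 3)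
  have hu1 : u ≠ 1 := fun e => by
    rw [hu', conj_eq_one_iff] at e
    rw [e, orderOf_one] at ho4
    omega
  have hau : a * u = u * a := by
    rw [ha', hu', show y * g12 ^ 3 * y⁻¹ * (y * g12 ^ 4 * y⁻¹) = y * (g12 ^ 3 * g12 ^ 4) * y⁻¹ by group,
      (Commute.pow_pow_self g12 3 4).eq]
    group
  by_cases huD : u ∈ D
  · obtain ⟨x, hx, z, hz, he⟩ := o.conj_ctr hS huD hu1
    refine hno4 z hz (fun e => hu1 (by rw [he, e, mul_one, mul_inv_cancel])) (x⁻¹ * a * x⁻¹⁻¹)
      (by rw [← ha4]; exact MulEquiv.orderOf_eq (MulAut.conj x⁻¹) a) ?_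
    rw [show z = x⁻¹ * u * x by rw [he]; group]
    calc x⁻¹ * a * x⁻¹⁻¹ * (x⁻¹ * u * x) = x⁻¹ * (a * u) * x := by group
      _ = x⁻¹ * u * x * (x⁻¹ * a * x⁻¹⁻¹) := by rw [hau]; group
  have haX : a ∈ X := (halone2 u hu huD).centralizer_le (hPX hu) (mem_centralizer_singleton_iff.2 hau)
  have haN : a ∈ N(P) := by
    refine Sylow.smul_eq_iff_mem_normalizer.1 ?_
    by_contra hne
    have hle : ((a • P : Sylow 3 G) : Subgroup G) ≤ X := Sylow.smul_le hPX ⟨a, haX⟩
    have hum : u ∈ ((a • P : Sylow 3 G) : Subgroup G) := by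
      rw [Sylow.coe_subgroup_smul]
      exact ⟨u, hu, by show a * u * a⁻¹ = u; rw [hau, mul_inv_cancel_right]⟩
    exact huD ((o.mem_fib hne hle) ▸ ⟨hu, hum⟩)
  have haZ : a ∈ normalizer (Z : Set G) := hNZ.symm ▸ haN
  have hz2 : ∀ z ∈ Z, a * (a * z * a⁻¹) * a⁻¹ = z := by
    intro z hz
    by_cases hz1 : z = 1
    · rw [hz1]; group
    have hm : a * z * a⁻¹ ∈ Z := (mem_normalizer_iff.1 haZ z).1 hz
    have ho : orderOf z = 3 := orderOf_eq_prime (h.pow_three P (mem_ctr.1 hz).1) hz1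
    have hm' : a * z * a⁻¹ ∈ zpowers z := (zpowers_eq_of_three hZ3 hz hz1).symm ▸ hm
    rw [mem_zpowers_iff_mem_range_orderOf, ho] at hm'
    obtain ⟨i, hi, hi'⟩ := Finset.mem_image.1 hm'
    rw [← hi', ← conj_pow, ← hi', ← pow_mul]
    rw [Finset.mem_range] at hi
    interval_cases i
    · rw [pow_zero, eq_comm, conj_eq_one_iff] at hi'; exact absurd hi' hz1
    · simp
    · rw [show 2 * 2 = 3 + 1 by norm_num, pow_succ, h.pow_three P (mem_ctr.1 hz).1, one_mul]
  set t := a * a with ht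
  have htD : t ∈ D := hCD t fun d hd => by
    by_cases hdZ : d ∈ Z
    · refine mul_inv_eq_iff_eq_mul.1 ?_
      rw [show t * d * t⁻¹ = a * (a * d * a⁻¹) * a⁻¹ by rw [ht]; group]
      exact hz2 d hdZ
    have had : a * d * a⁻¹ ∈ D := (mem_normalizer_iff.1 haX d).1 hd
    have hadZ : a * d * a⁻¹ ∉ Z := fun hm => hdZ ((mem_normalizer_iff.1 haZ d).2 hm)
    set m := d⁻¹ * (t * d * t⁻¹) with hm
    have hmZ : m ∈ Z := by
      rcases cases_three hZD (by rw [o.card, hZ3]) hd (h.pow_three P (o.le hd)) hdZ had hadZ with e | e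
      · set m1 := d⁻¹ * (a * d * a⁻¹) with hm1
        have : m = m1 * (a * m1 * a⁻¹) := by rw [hm, hm1, ht]; group
        rw [this]
        exact mul_mem e ((mem_normalizer_iff.1 haZ _).1 e)
      · set m1 := d * (a * d * a⁻¹) with hm1
        have hc : d⁻¹ * m1⁻¹ = m1⁻¹ * d⁻¹ := hab _ (inv_mem hd) _ (inv_mem (hZD e))
        have : m = m1⁻¹ * (a * m1 * a⁻¹) := by
          calc m = (d⁻¹ * m1⁻¹) * d * (a * m1 * a⁻¹) := by rw [hm, hm1, ht]; group
            _ = m1⁻¹ * (a * m1 * a⁻¹) := by rw [hc]; group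
        rw [this]
        exact mul_mem (inv_mem e) ((mem_normalizer_iff.1 haZ _).1 e)
    have hm1 : m = 1 := eq_one_of_series (t := t) (x := d) (k := 1)
      (by rw [ht, ← pow_two, ← pow_mul, show 2 * 2 ^ 1 = orderOf a by rw [ha4]; norm_num]; exact pow_orderOf_eq_one a) (by rw [hm]; group)
      (by rw [show t * m * t⁻¹ = a * (a * m * a⁻¹) * a⁻¹ by rw [ht]; group]; exact hz2 m hmZ)
      (h.pow_three P (mem_ctr.1 hmZ).1)
    refine mul_inv_eq_iff_eq_mul.1 ?_
    rw [hm, inv_mul_eq_one] at hm1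
    exact hm1.symm
  have h2 : t * t = 1 := by
    rw [ht, ← mul_assoc, show a * a * a * a = a ^ 4 by simp [pow_succ, mul_assoc]]
    exact orderOf_dvd_iff_pow_eq_one.1 ha4.dvd
  have ht1 := hsq t htD h2
  have := orderOf_dvd_of_pow_eq_one (show a ^ 2 = 1 by rw [pow_two]; exact ht1)
  rw [ha4] at this
  norm_num at this

end Cfsg.Lib.Recog.G2Two
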