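import Cfsg.Agent.Lib.Recog.G2Two.Semireg

/-!
# An extraspecial Sylow `3`-subgroup with `112` conjugates has one plane
-/

set_option autoImplicit false
set_option linter.style.haveILetI false
set_option linter.unusedSectionVars false

namespace Cfsg.Lib.Recog.G2Two

open Subgroup MulAction Pointwise

universe u

variable {G : Type u} [Group G] [Finite G] [Fact (Nat.Prime 3)]

local notation "N(" P ")" => normalizer ((P : Subgroup G) : Set G)

/-- The three cosets of a subgroup of index `3`. -/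
theorem cases_three {A B : Subgroup G} (hAB : A ≤ B) (hc : Nat.card B = 3 * Nat.card A) {a b : G} (ha : a ∈ B)
    (ha3 : a ^ 3 = 1) (haA : a ∉ A) (hb : b ∈ B) (hbA : b ∉ A) : a⁻¹ * b ∈ A ∨ a * b ∈ A := by
  classical
  have hq : Nat.card (B ⧸ A.subgroupOf B) = 3 := by
    have e := card_eq_card_quotient_mul_card_subgroup (A.subgroupOf B)
    rw [Nat.card_congr (subgroupOfEquivOfLe hAB).toEquiv, hc] at e
    exact (Nat.eq_of_mul_eq_mul_right (Nat.card_pos (α := A)) e).symm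
  letI := Fintype.ofFinite (B ⧸ A.subgroupOf B)
  rw [Nat.card_eq_fintype_card] at hq
  let f : Fin 4 → B ⧸ A.subgroupOf B := ![QuotientGroup.mk 1, QuotientGroup.mk ⟨a, ha⟩,
    QuotientGroup.mk (⟨a, ha⟩⁻¹), QuotientGroup.mk ⟨b, hb⟩]
  obtain ⟨i, j, hij, e⟩ := Fintype.exists_ne_map_eq_of_card_lt f (by rw [hq, Fintype.card_fin]; norm_num)
  have hsq : a * a ∉ A := fun hm => haA (by
    have h1 := inv_mem hm
    rwa [show (a * a)⁻¹ = a from inv_eq_of_mul_eq_one_right (by rw [← ha3, pow_succ, pow_two])] at h1)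
  have hkey : (a⁻¹ * b ∈ A ∨ a * b ∈ A) ∨ False := by
    fin_cases i <;> fin_cases j <;> simp [f, QuotientGroup.eq, mem_subgroupOf] at hij e
    all_goals first
      | exact absurd e haA
      | exact absurd e hbA
      | exact Or.inl (Or.inl e)
      | exact Or.inl (Or.inr e)
      | exact absurd e hsq
      | exact absurd (inv_mem e) (by simpa using haA)
      | exact absurd (inv_mem e) (by simpa using hbA)
      | exact absurd (inv_mem e) (by simpa using hsq)
      | exact Or.inl (Or.inl (by simpa using inv_mem e))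
      | exact Or.inl (Or.inr (by simpa using inv_mem e))
  exact hkey.resolve_right not_false

/-- Two planes share only the centre. -/
theorem HeisData.inter_planes {h : Hyp G} {P : Sylow 3 G} (hH : HeisData h P) {D E : Subgroup G}
    (hD : D ∈ planes P) (hE : E ∈ planes P) (hne : D ≠ E) : D ⊓ E = ctr P :=
  (eq_of_le_of_card_ge (le_inf (hH.ctr_le (mem_planes.1 hD).1 (mem_planes.1 hD).2.1)
    (hH.ctr_le (mem_planes.1 hE).1 (mem_planes.1 hE).2.1))
    (by rw [card_inf_planes h hD hE hne, h.card_ctr hH.ne P])).symm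

/-- An element commuting with more than a plane is central. -/
theorem HeisData.mem_ctr_of_commute {h : Hyp G} {P : Sylow 3 G} {D : Subgroup G} (hDP : D ≤ (P : Subgroup G))
    (hD : Nat.card D = 9) {a b : G} (ha : a ∈ (P : Subgroup G)) (haD : ∀ y ∈ D, y * a = a * y)
    (hb : b ∈ (P : Subgroup G)) (hbD : b ∉ D) (hab : b * a = a * b) : a ∈ ctr P := by
  refine mem_ctr.2 ⟨ha, fun y hy => ?_⟩
  have hle : D ≤ (P : Subgroup G) ⊓ centralizer ({a} : Set G) :=
    le_inf hDP fun y hy => mem_centralizer_singleton_iff.2 (haD y hy)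
  have hd : Nat.card ↥((P : Subgroup G) ⊓ centralizer ({a} : Set G)) ∣ 3 ^ 3 := by
    simpa [h.card_three] using card_dvd_of_le (inf_le_left : (P : Subgroup G) ⊓ centralizer ({a} : Set G) ≤ _)
  obtain ⟨i, hi, he⟩ := (Nat.dvd_prime_pow Nat.prime_three).1 hd
  have hne : D ≠ (P : Subgroup G) ⊓ centralizer ({a} : Set G) := fun e => hbD (by
    rw [e]; exact ⟨hb, mem_centralizer_singleton_iff.2 hab⟩)
  have hlt : 9 < Nat.card ↥((P : Subgroup G) ⊓ centralizer ({a} : Set G)) := by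
    by_contra hle'
    exact hne (eq_of_le_of_card_ge hle (by rw [hD]; omega))
  have hP : (P : Subgroup G) ⊓ centralizer ({a} : Set G) = P :=
    eq_of_le_of_card_ge inf_le_left (by rw [h.card_three]; rw [he] at hlt ⊢; interval_cases i <;> omega)
  exact mem_centralizer_singleton_iff.1 (hP.ge hy).2

/-- Elements of the same sign under an element inverting the centre commute. -/
theorem HeisData.commute_of_sign {h : Hyp G} {P : Sylow 3 G} (hH : HeisData h P) {τ a b : G}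
    (hτ : ∀ z ∈ ctr P, τ * z * τ⁻¹ = z⁻¹) (ha : a ∈ (P : Subgroup G)) (hb : b ∈ (P : Subgroup G))
    (hs : (τ * a * τ⁻¹ * a⁻¹ ∈ ctr P ∧ τ * b * τ⁻¹ * b⁻¹ ∈ ctr P) ∨
      (τ * a * τ⁻¹ * a ∈ ctr P ∧ τ * b * τ⁻¹ * b ∈ ctr P)) : a * b = b * a := by
  set c := a * b * a⁻¹ * b⁻¹ with hc
  have hcZ : c ∈ ctr P := hH.comm_mem ha hb
  have hcomm : ∀ z ∈ ctr P, ∀ y ∈ (P : Subgroup G), y * z = z * y := fun z hz => (mem_ctr.1 hz).2
  have hkey : ∀ z ∈ ctr P, ∀ w ∈ ctr P, ∀ s ∈ (P : Subgroup G), ∀ r ∈ (P : Subgroup G),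
      z * s * (w * r) * (z * s)⁻¹ * (w * r)⁻¹ = s * r * s⁻¹ * r⁻¹ := by
    intro z hz w hw s hs r hr
    have h1 : w * r * s⁻¹ = r * s⁻¹ * w := by
      rw [mul_assoc, hcomm w hw _ (mul_mem hr (inv_mem hs))]
    have h2 : s * r * s⁻¹ * w = w * (s * r * s⁻¹) := hcomm w hw _ (mul_mem (mul_mem hs hr) (inv_mem hs))
    have h3 : (w * (s * r * s⁻¹)) * z = z * (w * (s * r * s⁻¹)) :=
      hcomm z hz _ (mul_mem (mem_ctr.1 hw).1 (mul_mem (mul_mem hs hr) (inv_mem hs)))
    calc z * s * (w * r) * (z * s)⁻¹ * (w * r)⁻¹ = z * s * (w * r * s⁻¹) * z⁻¹ * r⁻¹ * w⁻¹ := by group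
      _ = z * (s * r * s⁻¹ * w) * z⁻¹ * r⁻¹ * w⁻¹ := by rw [h1]; group
      _ = w * (s * r * s⁻¹) * r⁻¹ * w⁻¹ := by rw [h2, ← h3]; group
      _ = w * (s * r * s⁻¹ * r⁻¹) * w⁻¹ := by group
      _ = s * r * s⁻¹ * r⁻¹ := by
        rw [← hcomm w hw _ (mul_mem (mul_mem (mul_mem hs hr) (inv_mem hs)) (inv_mem hr)), mul_inv_cancel_right]
  have hfix : τ * c * τ⁻¹ = c := by
    rw [show τ * c * τ⁻¹ = (τ * a * τ⁻¹) * (τ * b * τ⁻¹) * (τ * a * τ⁻¹)⁻¹ * (τ * b * τ⁻¹)⁻¹ by rw [hc]; group]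
    rcases hs with ⟨hza, hzb⟩ | ⟨hza, hzb⟩
    · have := hkey _ hza _ hzb a ha b hb
      rwa [inv_mul_cancel_right, inv_mul_cancel_right] at this
    · have e := hkey _ hza _ hzb a⁻¹ (inv_mem ha) b⁻¹ (inv_mem hb)
      rw [mul_inv_cancel_right, mul_inv_cancel_right] at e
      rw [e, inv_inv, inv_inv]
      have h2 : b * a * c = c * (b * a) := hcomm c hcZ _ (mul_mem hb ha)
      calc a⁻¹ * b⁻¹ * a * b = (b * a)⁻¹ * (c * (b * a)) := by rw [hc]; group
        _ = c := by rw [← h2]; group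
  rw [hτ c hcZ] at hfix
  have hc2 : c * c = 1 := by
    conv_lhs => arg 1; rw [← hfix]
    exact inv_mul_cancel c
  have hc1 : c = 1 := by
    have h3 := h.pow_three P (mem_ctr.1 hcZ).1
    rwa [pow_succ, pow_two, hc2, one_mul] at h3
  rw [hc] at hc1
  exact mul_inv_eq_iff_eq_mul.1 (mul_inv_eq_one.1 hc1)

/-- A plane has at most four lines. -/
theorem card_lines_le {D : Subgroup G} (hD : Nat.card D = 9) :
    Nat.card {L : Subgroup G // L ≤ D ∧ Nat.card L = 3} ≤ 4 := by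
  classical
  let f : (Σ L : {L : Subgroup G // L ≤ D ∧ Nat.card L = 3}, {x : L.1 // x ≠ 1}) → {x : D // x ≠ 1} := fun a =>
    ⟨⟨a.2.1, a.1.2.1 a.2.1.2⟩, fun e => a.2.2 (Subtype.ext (congrArg (fun w : D => (w : G)) e :))⟩
  have hinj : Function.Injective f := by
    rintro ⟨⟨L, hL, hL3⟩, ⟨⟨x, hx⟩, hx1⟩⟩ ⟨⟨M, hM, hM3⟩, ⟨⟨y, hy⟩, hy1⟩⟩ e
    obtain rfl : x = y := congrArg (fun a : {x : D // x ≠ 1} => (a.1 : G)) e
    have hgen : ∀ {A : Subgroup G}, Nat.card A = 3 → ∀ (hA : x ∈ A), zpowers x = A := fun {A} h3 hA => by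
      refine eq_of_le_of_card_ge (zpowers_le.2 hA) ?_
      have hx' : (⟨x, hA⟩ : A) ≠ 1 := fun e1 => hx1 (Subtype.ext (congrArg Subtype.val e1 :))
      rw [h3, Nat.card_zpowers, ← orderOf_mk x hA,
        orderOf_eq_prime (p := 3) (by rw [← h3]; exact pow_card_eq_one') hx']
    obtain rfl : L = M := (hgen hL3 hx).symm.trans (hgen hM3 hy)
    rfl
  letI := Fintype.ofFinite {L : Subgroup G // L ≤ D ∧ Nat.card L = 3}
  have hcount : ∀ (A : Subgroup G), Nat.card {x : A // x ≠ 1} = Nat.card A - 1 := fun A => by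
    letI := Fintype.ofFinite A
    rw [Nat.card_eq_fintype_card, Fintype.card_subtype_compl, Fintype.card_subtype_eq, ← Nat.card_eq_fintype_card]
  have := Nat.card_le_card_of_injective f hinj
  rw [Nat.card_sigma, hcount, hD, Finset.sum_congr rfl fun (L : {L : Subgroup G // L ≤ D ∧ Nat.card L = 3}) _ =>
    (hcount L.1).trans (by rw [L.2.2]), Finset.sum_const, Finset.card_univ, ← Nat.card_eq_fintype_card,
    smul_eq_mul] at this
  omega

theorem HeisData.centre_count {h : Hyp G} {P : Sylow 3 G} (hH : HeisData h P)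
    (h112 : Nat.card (Sylow 3 G) = 112) :
    Nat.card (Sylow 3 ↥(normalizer (ctr P : Set G))) ∈ ({1, 4} : Finset ℕ) := by
  obtain ⟨hn, hle⟩ := hH.centre_normalizer
  have hN := card_normalizer_mul h P
  rw [h112] at hN
  simp only [Finset.mem_insert, Finset.mem_singleton] at hn ⊢
  rcases hn with hn | hn | hn
  · exact Or.inl hn
  · exact Or.inr hn
  · rw [hn] at hle; omega

/-- Every plane lies in exactly four Sylow subgroups. -/
theorem HeisData.fib_plane {h : Hyp G} {P : Sylow 3 G} (hH : HeisData h P)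
    (h112 : Nat.card (Sylow 3 G) = 112) {D : Subgroup G} (hDpl : D ∈ planes P) : Nat.card (fib P D) = 3 := by
  classical
  obtain ⟨hDP, hD, hne⟩ := mem_planes.1 hDpl
  obtain ⟨T, hC⟩ := h.exists_complement P
  have hT : Nat.card T = 4 := by rcases h.n_cases P hC with ⟨e, -⟩ | ⟨-, e⟩ <;> omega
  have e := h.plane_fib P hDP hD
  obtain ⟨hn, hle⟩ := hH.card_normalizer_plane hC hDP hD
  have hpos : 0 < Nat.card (fib P D) := Nat.card_pos
  simp only [Finset.mem_insert, Finset.mem_singleton] at hn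
  rcases hn with hn | hn | hn
  · omega
  · omega
  exfalso
  set X := normalizer (D : Set G) with hXdef
  set Z := ctr P with hZdef
  obtain ⟨t, ht, htD⟩ : ∃ t ∈ T, MulAut.conj t • D ≠ D := by
    by_contra hall
    push Not at hall
    have hTD : T ≤ X := fun t ht => mem_normalizer_iff.2 fun y => by
      conv_rhs => rw [← hall t ht, mem_pointwise_smul_iff_inv_smul_mem]
      simp [MulAut.smul_def, ← map_inv, mul_assoc]
    rw [inf_eq_left.2 hTD, hT, hn] at hle
    omega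
  have hPX : (P : Subgroup G) ≤ X := (h.plane hDP hD).1
  have hNZ : N(P) ≤ normalizer (Z : Set G) := fun g hg => ctr_le_normalizer P hg
  have hPZ : (P : Subgroup G) ≤ normalizer (Z : Set G) := le_normalizer.trans hNZ
  -- four Sylow subgroups of `X` normalise the centre
  have hstab := card_le_mul_stab X (normalizer (Z : Set G))
    (fun a => (⟨MulAut.conj (a : G) • Z, by
      have := (pointwise_smul_le_pointwise_smul_iff (a := MulAut.conj (a : G))).2 (hH.ctr_le hDP hD)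
      rwa [conj_smul_eq_self a.2] at this,
      (Nat.card_congr (equivSMul (MulAut.conj (a : G)) Z).toEquiv).symm.trans (h.card_ctr hH.ne P)⟩ :
      {L : Subgroup G // L ≤ D ∧ Nat.card L = 3})) fun a b e' => by
    have e1 : MulAut.conj (a : G) • Z = MulAut.conj (b : G) • Z := congrArg Subtype.val e'
    have e2 : MulAut.conj ((a : G)⁻¹ * b) • Z = Z := by
      rw [map_mul, mul_smul, ← e1, ← mul_smul, ← map_mul, inv_mul_cancel, map_one, one_smul]
    refine mem_normalizer_iff.2 fun y => ?_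
    conv_rhs => rw [← e2, mem_pointwise_smul_iff_inv_smul_mem]
    simp [MulAut.smul_def, ← map_inv, mul_assoc]
  set Y := X ⊓ normalizer (Z : Set G) with hYdef
  have hYN : Y ⊓ N(P) = X ⊓ N(P) := by
    rw [hYdef, inf_assoc, inf_eq_right.2 hNZ]
  have eX := card_eq_mul_card_sylow X P hPX
  have eY := card_eq_mul_card_sylow Y P (le_inf hPX hPZ)
  rw [hYN] at eY
  have hY4 : 4 ≤ Nat.card (Sylow 3 Y) := by
    by_contra hlt
    have h4 := Nat.mul_le_mul_right (Nat.card Y) (card_lines_le (G := G) hD)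
    have hge : Nat.card X ≤ 4 * Nat.card Y := hstab.trans h4
    rw [eX, hn, eY] at hge
    have hp : 0 < Nat.card ↥(X ⊓ N(P)) := Nat.card_pos
    have h3 := Nat.mul_le_mul_right (Nat.card ↥(X ⊓ N(P))) (show Nat.card (Sylow 3 Y) ≤ 3 by omega)
    omega
  have hsub : ∀ Q : Sylow 3 G, (Q : Subgroup G) ≤ normalizer (Z : Set G) → (Q : Subgroup G) ≤ X := by
    have hc4 : Nat.card {Q : Sylow 3 G // (Q : Subgroup G) ≤ normalizer (Z : Set G)} ≤ 4 := by
      rw [card_sylow_le _ P hPZ]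
      have := hH.centre_count h112
      rw [← hZdef] at this
      simp only [Finset.mem_insert, Finset.mem_singleton] at this
      omega
    have hY4' : 4 ≤ Nat.card {Q : Sylow 3 G // (Q : Subgroup G) ≤ Y} := by
      rwa [card_sylow_le _ P (le_inf hPX hPZ)]
    let i : {Q : Sylow 3 G // (Q : Subgroup G) ≤ Y} → {Q : Sylow 3 G // (Q : Subgroup G) ≤ normalizer (Z : Set G)} :=
      fun Q => ⟨Q.1, Q.2.trans inf_le_right⟩
    have hi : Function.Injective i := fun a b e' =>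
      Subtype.ext (congrArg (fun Q : {Q : Sylow 3 G // (Q : Subgroup G) ≤ normalizer (Z : Set G)} => Q.1) e')
    have hb : Function.Bijective i := (Nat.bijective_iff_injective_and_card i).2
      ⟨hi, le_antisymm (Nat.card_le_card_of_injective i hi) (hc4.trans hY4')⟩
    intro Q hQ
    obtain ⟨R, hR⟩ := hb.2 ⟨Q, hQ⟩
    have hRQ : R.1 = Q := congrArg Subtype.val hR
    exact hRQ ▸ R.2.trans inf_le_left
  obtain ⟨Q, hQZ, hQP⟩ : ∃ Q : Sylow 3 G, (Q : Subgroup G) ≤ normalizer (Z : Set G) ∧ Q ≠ P := by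
    by_contra hall
    push Not at hall
    have h1 : Nat.card {Q : Sylow 3 G // (Q : Subgroup G) ≤ Y} ≤ 1 := by
      haveI : Subsingleton {Q : Sylow 3 G // (Q : Subgroup G) ≤ Y} :=
        ⟨fun a b => Subtype.ext ((hall a.1 (a.2.trans inf_le_right)).trans (hall b.1 (b.2.trans inf_le_right)).symm)⟩
      exact Finite.card_le_one_iff_subsingleton.2 inferInstance
    have h1' : Nat.card (Sylow 3 Y) ≤ 1 := (card_sylow_le Y P (le_inf hPX hPZ)).symm.le.trans h1
    omega
  have hDQ : ∀ R : Sylow 3 G, (R : Subgroup G) ≤ normalizer (Z : Set G) → D ≤ (R : Subgroup G) := fun R hR =>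
    le_of_normal_le (IsPGroup.of_card (n := 2) (by rw [hD]; norm_num)) (hsub R hR)
  have h2 : MulAut.conj t • D ≤ (Q : Subgroup G) := by
    have hR := hDQ (t⁻¹ • Q) (by
      rw [Sylow.coe_subgroup_smul, ← conj_smul_eq_self (S := normalizer (Z : Set G))
        (le_normalizer (hNZ (inv_mem (hC.le ht))))]
      exact pointwise_smul_le_pointwise_smul_iff.2 hQZ)
    have h3 := (pointwise_smul_le_pointwise_smul_iff (a := MulAut.conj t)).2 hR
    rwa [← Sylow.coe_subgroup_smul, smul_inv_smul] at h3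
  have h1 : MulAut.conj t • D ≤ (P : Subgroup G) := (mem_planes.1 (smul_mem_planes (hC.le ht) hDpl)).1
  have hc9 := h.card_inter hQP
  simp only [Finset.mem_insert, Finset.mem_singleton] at hc9
  have hI : D = (P : Subgroup G) ⊓ (Q : Subgroup G) := eq_of_le_of_card_ge (le_inf hDP (hDQ Q hQZ)) (by omega)
  refine htD (eq_of_le_of_card_ge ((le_inf h1 h2).trans hI.ge) ?_)
  rw [(mem_planes.1 (smul_mem_planes (hC.le ht) hDpl)).2.1, hD]

/-- Some other Sylow subgroup through the plane has the same centre. -/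
def SameCentre (P : Sylow 3 G) (D : Subgroup G) : Prop :=
  ∃ Q : Sylow 3 G, Q ≠ P ∧ (P : Subgroup G) ⊓ (Q : Subgroup G) = D ∧ ctr Q = ctr P

/-- Only one plane can be shared with a Sylow subgroup with the same centre. -/
theorem HeisData.sameCentre_unique {h : Hyp G} {P : Sylow 3 G} (hH : HeisData h P)
    (h112 : Nat.card (Sylow 3 G) = 112) {D E : Subgroup G} (hD : D ∈ planes P) (hDS : SameCentre P D)
    (hES : SameCentre P E) : E = D := by
  classical
  obtain ⟨Q, hQ, hQD, hQc⟩ := hDS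
  obtain ⟨R, hR, hRE, hRc⟩ := hES
  obtain ⟨hDP, hD9, -⟩ := mem_planes.1 hD
  have hle : ∀ S : Sylow 3 G, ctr S = ctr P → (S : Subgroup G) ≤ normalizer (ctr P : Set G) := fun S hS => by
    rw [← hS]; exact le_normalizer.trans fun g hg => ctr_le_normalizer S hg
  have hn : Nat.card {S : Sylow 3 G // (S : Subgroup G) ≤ normalizer (ctr P : Set G)} ≤ 4 := by
    rw [card_sylow_le _ P (hle P rfl)]
    have := hH.centre_count h112
    simp only [Finset.mem_insert, Finset.mem_singleton] at this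
    omega
  have hmem : R ∈ orbit (P : Subgroup G) Q := by
    by_contra hRn
    have h3 : (orbit (P : Subgroup G) Q).ncard = 3 := by
      have := h.orbit_ncard P Q
      rw [hQD, hD9] at this
      omega
    have hPn : P ∉ insert R (orbit (P : Subgroup G) Q) := by
      rw [Set.mem_insert_iff]
      rintro (e | ⟨g, hg⟩)
      · exact hR e.symm
      · exact hQ (smul_left_cancel (g : G)
          ((show (g : G) • Q = P from hg).trans (Sylow.smul_eq_iff_mem_normalizer.2 (le_normalizer g.2)).symm))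
    have hsub : insert P (insert R (orbit (P : Subgroup G) Q)) ⊆
        {S : Sylow 3 G | (S : Subgroup G) ≤ normalizer (ctr P : Set G)} := by
      intro S hS
      simp only [Set.mem_insert_iff] at hS
      rcases hS with rfl | rfl | ⟨g, rfl⟩
      · exact hle S rfl
      · exact hle S hRc
      · refine hle _ ?_
        show ctr ((g : G) • Q) = ctr P
        rw [ctr_smul, hQc, ← ctr_smul, Sylow.smul_eq_iff_mem_normalizer.2 (le_normalizer g.2)]
    have hc := Set.ncard_le_ncard hsub (Set.toFinite _)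
    rw [Set.ncard_insert_of_notMem hPn (Set.toFinite _), Set.ncard_insert_of_notMem hRn (Set.toFinite _), h3,
      ← Nat.card_coe_set_eq] at hc
    have : (5 : ℕ) ≤ 4 := le_trans hc hn
    omega
  obtain ⟨g, rfl⟩ := hmem
  rw [← hRE]
  show (P : Subgroup G) ⊓ (((g : G) • Q : Sylow 3 G) : Subgroup G) = D
  rw [smul_inf_eq (le_normalizer g.2), hQD, conj_smul_eq_self ((h.plane hDP hD9).1 g.2)]

/-- An element of the complement inverting a plane whose Sylow subgroups have different centres. -/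
theorem HeisData.exists_inverting {h : Hyp G} {P : Sylow 3 G} (hH : HeisData h P)
    (h112 : Nat.card (Sylow 3 G) = 112) {T : Subgroup G} (hC : Compl P T) {D : Subgroup G} (hDpl : D ∈ planes P)
    (hS : ¬ SameCentre P D) :
    ∃ τ ∈ T, (∀ y ∈ D, τ * y * τ⁻¹ = y⁻¹) ∧ ∃ w ∈ normalizer (D : Set G), w * w = τ := by
  classical
  obtain ⟨hDP, hD, ⟨⟨Q, hQ, hQD⟩⟩⟩ := mem_planes.1 hDpl
  have hDQ : D ≤ (Q : Subgroup G) := hQD.symm.le.trans inf_le_right
  have hH' := hH.conj_data Q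
  have hZne : ctr Q ≠ ctr P := fun e => hS ⟨Q, hQ, hQD, e⟩
  have hZD := hH.ctr_le hDP hD
  have hZ'D := hH'.ctr_le hDQ hD
  have hab := (h.plane hDP hD).2
  obtain ⟨⟨z', hz'⟩, hz'1⟩ : ∃ z : ctr Q, z ≠ 1 := by
    haveI : Nontrivial (ctr Q) := Finite.one_lt_card_iff_nontrivial.1 (by rw [h.card_ctr hH.ne Q]; norm_num)
    exact exists_ne 1
  have hz'ne : z' ≠ 1 := fun e => hz'1 (Subtype.ext e)
  have hgenQ : zpowers z' = ctr Q := eq_of_le_of_card_ge (zpowers_le.2 hz') (by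
    rw [h.card_ctr hH.ne Q, Nat.card_zpowers, orderOf_eq_prime (h.pow_three Q (mem_ctr.1 hz').1) hz'ne])
  have hout : ∀ R : Sylow 3 G, D ≤ (R : Subgroup G) → ∃ u ∈ (R : Subgroup G), u ∉ D := fun R _ => by
    by_contra hall
    push Not at hall
    have := card_le_of_le (fun y hy => hall y hy : (R : Subgroup G) ≤ D)
    rw [hD, h.card_three] at this
    omega
  obtain ⟨u, hu, huD⟩ := hout P hDP
  set z := u * z' * u⁻¹ * z'⁻¹ with hz
  have hz'D := hZ'D hz'
  have hzZ : z ∈ ctr P := hH.comm_mem hu (hDP hz'D)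
  have hzne : z ≠ 1 := fun e => by
    have hcom : u * z' = z' * u := mul_inv_eq_iff_eq_mul.1 (mul_inv_eq_one.1 (hz ▸ e))
    have hz'Z : z' ∈ ctr P := HeisData.mem_ctr_of_commute (h := h) hDP hD (hDP hz'D)
      (fun y hy => hab y hy z' hz'D) hu huD hcom
    refine hZne ?_
    rw [← hgenQ]
    exact eq_of_le_of_card_ge (zpowers_le.2 hz'Z) (by
      rw [h.card_ctr hH.ne P, Nat.card_zpowers, orderOf_eq_prime (h.pow_three Q (mem_ctr.1 hz').1) hz'ne])
  have hgenP : zpowers z = ctr P := eq_of_le_of_card_ge (zpowers_le.2 hzZ) (by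
    rw [h.card_ctr hH.ne P, Nat.card_zpowers, orderOf_eq_prime (h.pow_three P (mem_ctr.1 hzZ).1) hzne])
  have hzD := hZD hzZ
  have hcz : Commute z z' := hab z hzD z' hz'D
  obtain ⟨v, hv, hvD, hvz⟩ : ∃ v ∈ (Q : Subgroup G), v ∉ D ∧ v⁻¹ * z * v = z'⁻¹ * z := by
    obtain ⟨v, hv, hvD⟩ := hout Q hDQ
    have hm : v * z * v⁻¹ * z⁻¹ ∈ ctr Q := hH'.comm_mem hv (hDQ hzD)
    have hmne : v * z * v⁻¹ * z⁻¹ ≠ 1 := fun e => by
      have hcom : v * z = z * v := mul_inv_eq_iff_eq_mul.1 (mul_inv_eq_one.1 e)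
      have hzQ : z ∈ ctr Q := HeisData.mem_ctr_of_commute (h := h) hDQ hD (hDQ hzD)
        (fun y hy => hab y hy z hzD) hv hvD hcom
      refine hZne (eq_of_le_of_card_ge ?_ (by rw [h.card_ctr hH.ne Q, h.card_ctr hH.ne P])).symm
      rw [← hgenP]; exact zpowers_le.2 hzQ
    have hzv : v * z' = z' * v := (mem_ctr.1 hz').2 v hv
    have hcases : v * z * v⁻¹ * z⁻¹ = z' ∨ v * z * v⁻¹ * z⁻¹ = z'⁻¹ := by
      rw [← hgenQ] at hm
      have ho : orderOf z' = 3 := orderOf_eq_prime (h.pow_three Q (mem_ctr.1 hz').1) hz'ne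
      rw [mem_zpowers_iff_mem_range_orderOf, ho] at hm
      simp only [Finset.mem_image, Finset.mem_range] at hm
      obtain ⟨i, hi, e⟩ := hm
      interval_cases i
      · exact absurd (by rw [← e, pow_zero]) hmne
      · exact Or.inl (by rw [← e, pow_one])
      · refine Or.inr ?_
        rw [← e]
        exact eq_inv_of_mul_eq_one_left (by rw [← pow_succ]; exact h.pow_three Q (mem_ctr.1 hz').1)
    rcases hcases with e | e
    · refine ⟨v, hv, hvD, ?_⟩
      have e1 : v * z * v⁻¹ = z' * z := mul_inv_eq_iff_eq_mul.1 e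
      calc v⁻¹ * z * v = v⁻¹ * (z'⁻¹ * (z' * z)) * v := by group
        _ = v⁻¹ * (z'⁻¹ * (v * z * v⁻¹)) * v := by rw [e1]
        _ = v⁻¹ * (z'⁻¹ * v) * z := by group
        _ = v⁻¹ * (v * z'⁻¹) * z := by rw [((show Commute v z' from hzv).inv_right).eq]
        _ = z'⁻¹ * z := by group
    · refine ⟨v⁻¹, inv_mem hv, fun hm' => hvD (by simpa using inv_mem hm'), ?_⟩
      have e1 : v * z * v⁻¹ = z'⁻¹ * z := mul_inv_eq_iff_eq_mul.1 e
      simpa using e1
  have hu1 : u * z * u⁻¹ = z := mul_inv_eq_iff_eq_mul.2 ((mem_ctr.1 hzZ).2 u hu)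
  have hu2 : u * z' * u⁻¹ = z * z' := by rw [hz]; group
  have hv2 : v⁻¹ * z' * v = z' := by rw [mul_assoc, ← (mem_ctr.1 hz').2 v hv, ← mul_assoc, inv_mul_cancel, one_mul]
  set w := u * v⁻¹ * u with hw
  have hwz : w * z * w⁻¹ = z'⁻¹ := by
    calc w * z * w⁻¹ = u * (v⁻¹ * (u * z * u⁻¹) * v) * u⁻¹ := by rw [hw]; group
      _ = u * (z'⁻¹ * z) * u⁻¹ := by rw [hu1, hvz]
      _ = (u * z' * u⁻¹)⁻¹ * (u * z * u⁻¹) := by group
      _ = z'⁻¹ := by rw [hu1, hu2]; group
  have hwz' : w * z' * w⁻¹ = z := by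
    calc w * z' * w⁻¹ = u * (v⁻¹ * (u * z' * u⁻¹) * v) * u⁻¹ := by rw [hw]; group
      _ = u * ((v⁻¹ * z * v) * (v⁻¹ * z' * v)) * u⁻¹ := by rw [hu2]; group
      _ = u * (z'⁻¹ * z * z') * u⁻¹ := by rw [hvz, hv2]
      _ = u * z * u⁻¹ := by rw [mul_assoc z'⁻¹, hcz.eq, inv_mul_cancel_left]
      _ = z := hu1
  set g := w * w with hg
  have hgz : g * z * g⁻¹ = z⁻¹ := by
    calc g * z * g⁻¹ = w * (w * z * w⁻¹) * w⁻¹ := by rw [hg]; group
      _ = (w * z' * w⁻¹)⁻¹ := by rw [hwz]; group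
      _ = z⁻¹ := by rw [hwz']
  have hgz' : g * z' * g⁻¹ = z'⁻¹ := by
    calc g * z' * g⁻¹ = w * (w * z' * w⁻¹) * w⁻¹ := by rw [hg]; group
      _ = z'⁻¹ := by rw [hwz', hwz]
  have hDgen : ∀ y ∈ D, ∃ i j : ℤ, y = z ^ i * z' ^ j := by
    intro y hy
    have hd : Disjoint (ctr P) (ctr Q) := by
      rw [disjoint_iff]
      rcases (Nat.dvd_prime Nat.prime_three).1
        ((h.card_ctr hH.ne P) ▸ card_dvd_of_le (inf_le_left : ctr P ⊓ ctr Q ≤ ctr P)) with h1 | h3
      · exact eq_bot_of_card_eq _ h1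
      · exact absurd ((eq_of_le_of_card_ge (inf_le_left : ctr P ⊓ ctr Q ≤ _)
          (by rw [h3, h.card_ctr hH.ne P])).ge.trans inf_le_right) fun hle =>
            hZne (eq_of_le_of_card_ge hle (by rw [h.card_ctr hH.ne P, h.card_ctr hH.ne Q])).symm
    let f : ctr P × ctr Q → D := fun p => ⟨p.1.1 * p.2.1, mul_mem (hZD p.1.2) (hZ'D p.2.2)⟩
    have hf : Function.Bijective f := (Nat.bijective_iff_injective_and_card f).2
      ⟨fun p q e => mul_injective_of_disjoint hd (congrArg Subtype.val e),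
        by rw [Nat.card_prod, h.card_ctr hH.ne P, h.card_ctr hH.ne Q, hD]⟩
    obtain ⟨⟨⟨a, ha⟩, ⟨b, hb⟩⟩, e⟩ := hf.2 ⟨y, hy⟩
    rw [← hgenP] at ha
    rw [← hgenQ] at hb
    obtain ⟨i, rfl⟩ := mem_zpowers_iff.1 ha
    obtain ⟨j, rfl⟩ := mem_zpowers_iff.1 hb
    exact ⟨i, j, (congrArg Subtype.val e).symm⟩
  have hginv : ∀ y ∈ D, g * y * g⁻¹ = y⁻¹ := by
    intro y hy
    obtain ⟨i, j, rfl⟩ := hDgen y hy
    rw [← conj_mul, ← conj_zpow, ← conj_zpow, hgz, hgz', inv_zpow, inv_zpow, mul_inv_rev]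
    exact ((hcz.zpow_zpow i j).inv_inv).eq
  -- `g` normalises `P`
  have hwD : w ∈ normalizer (D : Set G) := by
    rw [hw]
    exact mul_mem (mul_mem ((h.plane hDP hD).1 hu) ((h.plane hDQ hD).1 (inv_mem hv))) ((h.plane hDP hD).1 hu)
  have hgN : g ∈ N(P) := by
    refine Sylow.smul_eq_iff_mem_normalizer.1 ?_
    by_contra hne
    refine hS ⟨g • P, hne, (eq_of_le_of_card_ge (le_inf hDP ?_) ?_).symm, ?_⟩
    · rw [Sylow.coe_subgroup_smul, ← conj_smul_eq_self (S := D) (g := g) (mul_mem hwD hwD)]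
      exact pointwise_smul_le_pointwise_smul_iff.2 hDP
    · have hc := h.card_inter hne
      simp only [Finset.mem_insert, Finset.mem_singleton] at hc
      omega
    · rw [ctr_smul]
      refine eq_of_le_of_card_ge ?_ (by
        rw [← Nat.card_congr (equivSMul (MulAut.conj g) (ctr P)).toEquiv])
      rintro _ ⟨a, ha, rfl⟩
      show g * a * g⁻¹ ∈ ctr P
      rw [hginv a (hZD ha)]
      exact inv_mem ha
  have hN := card_normalizer_mul h P
  rw [h112] at hN
  have h108 : g ^ 108 = 1 := by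
    have e108 : Nat.card N(P) = 108 := by omega
    have := pow_card_eq_one' (x := (⟨g, hgN⟩ : N(P)))
    rw [e108] at this
    exact congrArg Subtype.val this
  obtain ⟨x, hx, hxT⟩ := hC.conj (g ^ 27) (pow_mem hgN 27) ⟨2, by rw [← pow_mul]; exact h108⟩
  have hxn := (h.plane hDP hD).1 hx
  refine ⟨x * g ^ 27 * x⁻¹, hxT, fun y hy => ?_, x * w ^ 27 * x⁻¹, mul_mem (mul_mem hxn (pow_mem hwD 27)) (inv_mem hxn),
    by rw [hg, (Commute.refl w).mul_pow]; group⟩
  have hy' : x⁻¹ * y * x ∈ D := by simpa using (mem_normalizer_iff.1 (inv_mem hxn) y).1 hy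
  have hodd : ∀ k : ℕ, ∀ d ∈ D, g ^ (2 * k + 1) * d * (g ^ (2 * k + 1))⁻¹ = d⁻¹ := by
    intro k
    induction k with
    | zero => intro d hd; simpa using hginv d hd
    | succ k ih =>
      intro d hd
      calc g ^ (2 * (k + 1) + 1) * d * (g ^ (2 * (k + 1) + 1))⁻¹
          = g * (g * (g ^ (2 * k + 1) * d * (g ^ (2 * k + 1))⁻¹) * g⁻¹) * g⁻¹ := by
            rw [show 2 * (k + 1) + 1 = (2 * k + 1) + 1 + 1 by ring, pow_succ' g, pow_succ' g]; group
        _ = d⁻¹ := by rw [ih d hd, hginv _ (inv_mem hd), inv_inv, hginv d hd]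
  calc x * g ^ 27 * x⁻¹ * y * (x * g ^ 27 * x⁻¹)⁻¹ = x * (g ^ 27 * (x⁻¹ * y * x) * (g ^ 27)⁻¹) * x⁻¹ := by group
    _ = x * (x⁻¹ * y * x)⁻¹ * x⁻¹ := by rw [show (27 : ℕ) = 2 * 13 + 1 by norm_num, hodd 13 _ hy']
    _ = y⁻¹ := by group

/-- An element inverting the centre preserves at most two planes. -/
theorem HeisData.three_planes {h : Hyp G} {P : Sylow 3 G} (hH : HeisData h P) {τ : G}
    (hτ : ∀ z ∈ ctr P, τ * z * τ⁻¹ = z⁻¹) (D : Fin 3 → Subgroup G) (hD : ∀ i, D i ∈ planes P)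
    (hinj : Function.Injective D) (hpres : ∀ i, ∀ y ∈ D i, τ * y * τ⁻¹ ∈ D i) : False := by
  classical
  have hel : ∀ i, ∃ a ∈ D i, a ∉ ctr P := fun i => by
    by_contra hall
    push Not at hall
    have := card_le_of_le (fun y hy => hall y hy : D i ≤ ctr P)
    rw [(mem_planes.1 (hD i)).2.1, h.card_ctr hH.ne P] at this
    omega
  choose a ha haZ using hel
  have hsign : ∀ i, τ * a i * τ⁻¹ * (a i)⁻¹ ∈ ctr P ∨ τ * a i * τ⁻¹ * a i ∈ ctr P := by
    intro i
    obtain ⟨hDP, hD9, -⟩ := mem_planes.1 (hD i)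
    have hb := hpres i _ (ha i)
    have hbZ : τ * a i * τ⁻¹ ∉ ctr P := fun hm => haZ i (by
      have he : τ * (a i)⁻¹ * τ⁻¹ = τ * (τ * a i * τ⁻¹) * τ⁻¹ := by
        rw [hτ _ hm]; group
      have := mul_left_cancel (mul_right_cancel he)
      exact inv_mem_iff.1 (this ▸ hm))
    have hcom := (h.plane hDP hD9).2
    rcases cases_three (hH.ctr_le hDP hD9) (by rw [hD9, h.card_ctr hH.ne P]) (ha i) (h.pow_three P (hDP (ha i)))
      (haZ i) hb hbZ with hm | hm
    · left; rwa [hcom _ hb _ (inv_mem (ha i))]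
    · right; rwa [hcom _ hb _ (ha i)]
  obtain ⟨i, j, hij, e⟩ := Fintype.exists_ne_map_eq_of_card_lt
    (fun i => decide (τ * a i * τ⁻¹ * (a i)⁻¹ ∈ ctr P)) (by simp)
  rw [decide_eq_decide] at e
  obtain ⟨hiP, hi9, -⟩ := mem_planes.1 (hD i)
  obtain ⟨hjP, hj9, -⟩ := mem_planes.1 (hD j)
  have hcom : a i * a j = a j * a i := by
    refine hH.commute_of_sign hτ (hiP (ha i)) (hjP (ha j)) ?_
    by_cases hm : τ * a i * τ⁻¹ * (a i)⁻¹ ∈ ctr P
    · exact Or.inl ⟨hm, e.1 hm⟩
    · exact Or.inr ⟨(hsign i).resolve_left hm, (hsign j).resolve_left (mt e.2 hm)⟩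
  refine haZ i (HeisData.mem_ctr_of_commute (h := h) hiP hi9 (hiP (ha i))
    (fun y hy => (h.plane hiP hi9).2 y hy _ (ha i)) (hjP (ha j)) (fun hm => haZ j ?_) hcom.symm)
  rw [← hH.inter_planes (hD i) (hD j) (fun e' => hij (hinj e'))]
  exact ⟨hm, ha j⟩

/-- **One plane**, normalised by the complement. -/
theorem HeisData.one_plane {h : Hyp G} {P : Sylow 3 G} (hH : HeisData h P) (h112 : Nat.card (Sylow 3 G) = 112)
    {T : Subgroup G} (hC : Compl P T) :
    ∃ D, planes P = {D} ∧ Nat.card (fib P D) = 3 ∧ T ≤ normalizer (D : Set G) := by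
  classical
  have hT : Nat.card T = 4 := by rcases h.n_cases P hC with ⟨e, -⟩ | ⟨-, e⟩ <;> omega
  have hp4 : (planes P).card ≤ 4 :=
    hH.card_planes_le _ fun D hD => ⟨(mem_planes.1 hD).1, (mem_planes.1 hD).2.1⟩
  have h9 : Nat.card (meetCard P 9) = 3 * (planes P).card := by
    rw [card_meet_nine P, Finset.sum_congr rfl fun D hD => hH.fib_plane h112 hD, Finset.sum_const, smul_eq_mul,
      mul_comm]
  have h3 : 9 ∣ Nat.card (meetCard P 3) := by simpa using h.meetCard_dvd P 3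
  have h1 : 27 ∣ Nat.card (meetCard P 1) := by simpa using h.meetCard_dvd P 1
  have hs := h.card_split P
  have hp : (planes P).card = 1 ∨ (planes P).card = 4 := by
    obtain ⟨a, ha⟩ := h3
    obtain ⟨b, hb⟩ := h1
    omega
  rcases hp with hp | hp
  · obtain ⟨D, hD⟩ := Finset.card_eq_one.1 hp
    have hDm : D ∈ planes P := hD ▸ Finset.mem_singleton_self D
    refine ⟨D, hD, hH.fib_plane h112 hDm, fun t ht => mem_normalizer_iff.2 fun y => ?_⟩
    have hm := smul_mem_planes (hC.le ht) hDm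
    rw [hD, Finset.mem_singleton] at hm
    conv_rhs => rw [← hm, mem_pointwise_smul_iff_inv_smul_mem]
    simp [MulAut.smul_def, ← map_inv, mul_assoc]
  exfalso
  set F := (planes P).filter fun D => ¬ SameCentre P D with hF
  have hF3 : 3 ≤ F.card := by
    have hbad : ((planes P).filter fun D => SameCentre P D).card ≤ 1 := Finset.card_le_one.2 fun D hD E hE =>
      (hH.sameCentre_unique h112 (Finset.mem_filter.1 hD).1 (Finset.mem_filter.1 hD).2
        (Finset.mem_filter.1 hE).2).symm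
    have := Finset.card_filter_add_card_filter_not (s := planes P) (p := fun D => SameCentre P D)
    rw [hF]
    omega
  obtain ⟨F', hF', hF'3⟩ := Finset.exists_subset_card_eq hF3
  let e := (Finset.equivFinOfCardEq hF'3).symm
  let D : Fin 3 → Subgroup G := fun i => (e i).1
  have hD : ∀ i, D i ∈ planes P ∧ ¬ SameCentre P (D i) := fun i => Finset.mem_filter.1 (hF' (e i).2)
  have hinj : Function.Injective D := fun i j he => e.injective (Subtype.ext he)
  choose τ hτT hτ _w using fun i => hH.exists_inverting h112 hC (hD i).1 (hD i).2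
  haveI : Fact (Nat.Prime 2) := ⟨Nat.prime_two⟩
  haveI : IsMulCommutative T := IsPGroup.isMulCommutative_of_card_eq_prime_sq (p := 2) (by rw [hT]; norm_num)
  have hTc : ∀ a ∈ T, ∀ b ∈ T, a * b = b * a := fun a ha b hb =>
    congrArg Subtype.val (mul_comm' (⟨a, ha⟩ : T) ⟨b, hb⟩)
  have hZD : ∀ i, ctr P ≤ D i := fun i => hH.ctr_le (mem_planes.1 (hD i).1).1 (mem_planes.1 (hD i).1).2.1
  have hZinv : ∀ i, ∀ z ∈ ctr P, τ i * z * (τ i)⁻¹ = z⁻¹ := fun i z hz => hτ i z (hZD i hz)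
  have hpres : ∀ i j, MulAut.conj (τ i) • D j = D j := by
    intro i j
    by_contra hne
    have hm := smul_mem_planes (hC.le (hτT i)) (hD j).1
    have hinv : ∀ y ∈ MulAut.conj (τ i) • D j, τ j * y * (τ j)⁻¹ = y⁻¹ := by
      rintro _ ⟨y, hy, rfl⟩
      show τ j * (τ i * y * (τ i)⁻¹) * (τ j)⁻¹ = (τ i * y * (τ i)⁻¹)⁻¹
      calc τ j * (τ i * y * (τ i)⁻¹) * (τ j)⁻¹ = (τ j * τ i) * y * (τ j * τ i)⁻¹ := by group
        _ = τ i * (τ j * y * (τ j)⁻¹) * (τ i)⁻¹ := by rw [hTc _ (hτT j) _ (hτT i)]; group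
        _ = (τ i * y * (τ i)⁻¹)⁻¹ := by rw [hτ j y hy]; group
    obtain ⟨a, ha, haZ⟩ : ∃ a ∈ D j, a ∉ ctr P := by
      by_contra hall
      push Not at hall
      have := card_le_of_le (fun y hy => hall y hy : D j ≤ ctr P)
      rw [(mem_planes.1 (hD j).1).2.1, h.card_ctr hH.ne P] at this
      omega
    obtain ⟨b, hb, hbD⟩ : ∃ b ∈ MulAut.conj (τ i) • D j, b ∉ D j := by
      by_contra hall
      push Not at hall
      refine hne (eq_of_le_of_card_ge (fun y hy => hall y hy) ?_)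
      rw [(mem_planes.1 (hD j).1).2.1, (mem_planes.1 hm).2.1]
    obtain ⟨hjP, hj9, -⟩ := mem_planes.1 (hD j).1
    have hc := hH.commute_of_sign (hZinv j) (hjP ha) ((mem_planes.1 hm).1 hb)
      (Or.inr ⟨by rw [hτ j a ha, inv_mul_cancel]; exact one_mem _,
        by rw [hinv b hb, inv_mul_cancel]; exact one_mem _⟩)
    exact haZ (HeisData.mem_ctr_of_commute (h := h) hjP hj9 (hjP ha) (fun y hy => (h.plane hjP hj9).2 y hy a ha)
      ((mem_planes.1 hm).1 hb) hbD hc.symm)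
  refine hH.three_planes (hZinv 0) D (fun i => (hD i).1) hinj fun i y hy => ?_
  rw [← hpres 0 i]
  exact ⟨y, hy, rfl⟩

end Cfsg.Lib.Recog.G2Two
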