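import Cfsg.Agent.Lib.Recog.G2Two.HePlanes

/-!
# The plane is not shared by Sylow subgroups with the same centre
-/

set_option autoImplicit false
set_option linter.style.haveILetI false
set_option linter.unusedSectionVars false

namespace Cfsg.Lib.Recog.G2Two

open Subgroup MulAction Pointwise

universe u

variable {G : Type u} [Group G] [Finite G] [Fact (Nat.Prime 3)]

local notation "N(" P ")" => normalizer ((P : Subgroup G) : Set G)

/-- The setting with one plane. -/
structure OnePlane (h : Hyp G) (P : Sylow 3 G) (T D : Subgroup G) : Prop where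
  heis : HeisData h P
  n112 : Nat.card (Sylow 3 G) = 112
  compl : Compl P T
  eq : planes P = {D}
  fib3 : Nat.card (fib P D) = 3
  norm : T ≤ normalizer (D : Set G)

theorem HeisData.exists_onePlane {h : Hyp G} {P : Sylow 3 G} (hH : HeisData h P)
    (h112 : Nat.card (Sylow 3 G) = 112) {T : Subgroup G} (hC : Compl P T) : ∃ D, OnePlane h P T D := by
  obtain ⟨D, h1, h2, h3⟩ := hH.one_plane h112 hC
  exact ⟨D, ⟨hH, h112, hC, h1, h2, h3⟩⟩

namespace OnePlane

variable {h : Hyp G} {P : Sylow 3 G} {T D : Subgroup G}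

theorem mem (o : OnePlane h P T D) : D ∈ planes P := o.eq ▸ Finset.mem_singleton_self D

theorem le (o : OnePlane h P T D) : D ≤ (P : Subgroup G) := (mem_planes.1 o.mem).1

theorem card (o : OnePlane h P T D) : Nat.card D = 9 := (mem_planes.1 o.mem).2.1

theorem normalizer_le (o : OnePlane h P T D) : N(P) ≤ normalizer (D : Set G) :=
  (h.card_plane_normalizer o.compl o.n112 o.le o.card o.fib3 o.norm).1

theorem card_normalizer (o : OnePlane h P T D) : Nat.card (normalizer (D : Set G)) = 432 :=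
  (h.card_plane_normalizer o.compl o.n112 o.le o.card o.fib3 o.norm).2

theorem P_le (o : OnePlane h P T D) : (P : Subgroup G) ≤ normalizer (D : Set G) :=
  le_normalizer.trans o.normalizer_le

theorem card_sylow (o : OnePlane h P T D) : Nat.card (Sylow 3 ↥(normalizer (D : Set G))) = 4 := by
  rw [← h.plane_fib P o.le o.card, o.fib3]

/-- Another Sylow subgroup sharing `9` elements with `P` meets it in `D`. -/
theorem eq_of_nine (o : OnePlane h P T D) {Q : Sylow 3 G} (hQ : Q ≠ P) {F : Subgroup G}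
    (hFP : F ≤ (P : Subgroup G)) (hFQ : F ≤ (Q : Subgroup G)) (hF : 9 ≤ Nat.card F) :
    (P : Subgroup G) ⊓ (Q : Subgroup G) = D := by
  have hc := h.card_inter hQ
  simp only [Finset.mem_insert, Finset.mem_singleton] at hc
  have hge := card_le_of_le (le_inf hFP hFQ)
  have hm : (P : Subgroup G) ⊓ (Q : Subgroup G) ∈ planes P :=
    mem_planes.2 ⟨inf_le_left, by omega, ⟨⟨Q, hQ, rfl⟩⟩⟩
  rwa [o.eq, Finset.mem_singleton] at hm

/-- The other Sylow subgroups of the normalizer of the plane. -/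
theorem mem_fib (o : OnePlane h P T D) {Q : Sylow 3 G} (hQ : Q ≠ P)
    (hQX : (Q : Subgroup G) ≤ normalizer (D : Set G)) : (P : Subgroup G) ⊓ (Q : Subgroup G) = D :=
  o.eq_of_nine hQ o.le (le_of_normal_le (IsPGroup.of_card (n := 2) (by rw [o.card]; norm_num)) hQX)
    (by rw [o.card])

theorem le_of_fib (o : OnePlane h P T D) {Q : Sylow 3 G} (hQ : (P : Subgroup G) ⊓ (Q : Subgroup G) = D) :
    (Q : Subgroup G) ≤ normalizer (D : Set G) :=
  (h.plane (hQ.symm.le.trans inf_le_right) o.card).1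

end OnePlane

/-- A `3`-subgroup of a group containing a Sylow subgroup lies in one of its conjugates. -/
theorem exists_le_conj {X : Subgroup G} {P : Sylow 3 G} (hP : (P : Subgroup G) ≤ X) {S : Subgroup G} (hS : S ≤ X)
    (hS3 : IsPGroup 3 S) : ∃ y ∈ X, S ≤ ((y • P : Sylow 3 G) : Subgroup G) := by
  obtain ⟨R, hR⟩ := (hS3.comap_of_injective X.subtype X.subtype_injective : IsPGroup 3 ↥(S.subgroupOf X)).exists_le_sylow
  obtain ⟨y, hy⟩ := MulAction.exists_smul_eq X (P.subtype hP) R
  subst hy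
  refine ⟨y, y.2, fun s hs => ?_⟩
  have hmem := hR (show (⟨s, hS hs⟩ : X) ∈ S.subgroupOf X from hs)
  rw [Sylow.smul_subtype] at hmem
  exact hmem

/-- An element of a group containing a Sylow subgroup, generated cyclic group. -/
theorem zpowers_eq_of_three {S : Subgroup G} (hS : Nat.card S = 3) {a : G} (ha : a ∈ S) (ha1 : a ≠ 1) :
    zpowers a = S := by
  refine eq_of_le_of_card_ge (zpowers_le.2 ha) ?_
  have hx' : (⟨a, ha⟩ : S) ≠ 1 := fun e => ha1 (congrArg Subtype.val e)
  rw [hS, Nat.card_zpowers, ← orderOf_mk a ha,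
    orderOf_eq_prime (p := 3) (by rw [← hS]; exact pow_card_eq_one') hx']

theorem HeisData.centralizer_plane {h : Hyp G} {P : Sylow 3 G} (hH : HeisData h P) {f : G}
    (hf : f ∈ (P : Subgroup G)) (hfZ : f ∉ ctr P) :
    Nat.card ↥((P : Subgroup G) ⊓ centralizer ({f} : Set G)) = 9 := by
  have hf1 : f ≠ 1 := fun e => hfZ (e ▸ one_mem _)
  have hzf : Nat.card (zpowers f) = 3 := by rw [Nat.card_zpowers, orderOf_eq_prime (h.pow_three P hf) hf1]
  have h9 : 9 ≤ Nat.card ↥((P : Subgroup G) ⊓ centralizer ({f} : Set G)) :=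
    sup_ctr_card h (h.card_ctr hH.ne P) hzf (fun e => hfZ (e ▸ mem_zpowers f))
      (le_inf (fun z hz => (mem_ctr.1 hz).1) fun z hz =>
        mem_centralizer_singleton_iff.2 ((mem_ctr.1 hz).2 f hf).symm)
      (le_inf (zpowers_le.2 hf) (zpowers_le.2 (mem_centralizer_singleton_iff.2 rfl)))
  have hd : Nat.card ↥((P : Subgroup G) ⊓ centralizer ({f} : Set G)) ∣ 3 ^ 3 := by
    simpa [h.card_three] using card_dvd_of_le (inf_le_left : (P : Subgroup G) ⊓ centralizer ({f} : Set G) ≤ _)
  obtain ⟨i, hi, he⟩ := (Nat.dvd_prime_pow Nat.prime_three).1 hd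
  have hi3 : i ≠ 3 := by
    rintro rfl
    refine hfZ (mem_ctr.2 ⟨hf, fun y hy => mem_centralizer_singleton_iff.1 ?_⟩)
    have hP : (P : Subgroup G) ⊓ centralizer ({f} : Set G) = P :=
      eq_of_le_of_card_ge inf_le_left (by rw [h.card_three, he]; norm_num)
    exact (hP.ge hy).2
  rw [he] at h9 ⊢
  interval_cases i <;> simp_all

theorem OnePlane.not_same (h : Hyp G) {P : Sylow 3 G} {T D : Subgroup G} (o : OnePlane h P T D)
    (hsame : SameCentre P D) : False := by
  classical
  set X := normalizer (D : Set G) with hXdef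
  have hH := o.heis
  have hX := o.card_normalizer
  set Z := ctr P with hZdef
  have hPX := o.P_le
  have hZD : Z ≤ D := hH.ctr_le o.le o.card
  have hZ3 : Nat.card Z = 3 := h.card_ctr hH.ne P
  have hab := (h.plane o.le o.card).2
  have hDX : D ≤ X := le_normalizer
  -- all centres in `X` coincide
  obtain ⟨Q0, hQ0, hQ0D, hQ0c⟩ := hsame
  have hall : ∀ Q : Sylow 3 G, (Q : Subgroup G) ≤ X → ctr Q = Z := by
    intro Q hQX
    by_cases hQ : Q = P
    · rw [hQ]
    have horb : orbit (P : Subgroup G) Q0 = {R : Sylow 3 G | R ≠ P ∧ (P : Subgroup G) ⊓ (R : Subgroup G) = D} := by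
      refine Set.eq_of_subset_of_ncard_le ?_ ?_ (Set.toFinite _)
      · rintro _ ⟨g, rfl⟩
        refine ⟨fun e => hQ0 (smul_left_cancel (g : G)
          ((show (g : G) • Q0 = P from e).trans (Sylow.smul_eq_iff_mem_normalizer.2 (le_normalizer g.2)).symm)), ?_⟩
        show (P : Subgroup G) ⊓ (((g : G) • Q0 : Sylow 3 G) : Subgroup G) = D
        rw [smul_inf_eq (le_normalizer g.2), hQ0D, conj_smul_eq_self (hPX g.2)]
      · have h3 := h.orbit_ncard P Q0
        rw [hQ0D, o.card] at h3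
        rw [← Nat.card_coe_set_eq]
        show Nat.card (fib P D) ≤ _
        rw [o.fib3]; omega
    have hm : Q ∈ orbit (P : Subgroup G) Q0 := by rw [horb]; exact ⟨hQ, o.mem_fib hQ hQX⟩
    obtain ⟨g, rfl⟩ := hm
    show ctr ((g : G) • Q0) = Z
    rw [ctr_smul, hQ0c, ← ctr_smul, Sylow.smul_eq_iff_mem_normalizer.2 (le_normalizer g.2)]
  have hconjP : ∀ y ∈ X, ((y • P : Sylow 3 G) : Subgroup G) ≤ X := fun y hy => Sylow.smul_le hPX ⟨y, hy⟩
  have hXZ : X = normalizer (Z : Set G) := by
    refine eq_of_le_of_card_ge (fun y hy => mem_normalizer_iff.2 fun v => ?_) ?_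
    · have e := hall _ (hconjP y hy)
      rw [ctr_smul] at e
      conv_rhs => rw [← e, mem_pointwise_smul_iff_inv_smul_mem]
      simp [MulAut.smul_def, ← map_inv, mul_assoc, hZdef]
    · have hNle : N(P) ≤ normalizer (Z : Set G) := fun g hg => ctr_le_normalizer P hg
      rw [card_eq_mul_card_sylow (normalizer (Z : Set G)) P (le_normalizer.trans hNle), inf_eq_right.2 hNle, hX]
      have hc : Nat.card (Sylow 3 ↥(normalizer (Z : Set G))) ∈ ({1, 4} : Finset ℕ) := hH.centre_count o.n112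
      have hN := card_normalizer_mul h P
      rw [o.n112] at hN
      simp only [Finset.mem_insert, Finset.mem_singleton] at hc
      rcases hc with hc | hc <;> rw [hc] <;> omega
  have hNZmem : ∀ y : G, MulAut.conj y • Z = Z → y ∈ X := fun y e => by
    rw [hXZ]
    refine mem_normalizer_iff.2 fun v => ?_
    conv_rhs => rw [← e, mem_pointwise_smul_iff_inv_smul_mem]
    simp [MulAut.smul_def, ← map_inv, mul_assoc]
  -- the centre fixes only `X`
  have halone : ∀ z ∈ Z, z ≠ 1 → Alone X z := by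
    intro z hz hz1 g hg
    have hz3 : (g⁻¹ * z * g) ^ 3 = 1 := by
      rw [show g⁻¹ * z * g = g⁻¹ * z * g⁻¹⁻¹ by group, conj_pow, h.pow_three P (o.le (hZD hz))]
      group
    obtain ⟨x, hx, hf⟩ := exists_conj_into hPX hg hz3
    set f := x * (g⁻¹ * z * g) * x⁻¹ with hfdef
    set g1 := g * x⁻¹ with hg1def
    have hfg : g1⁻¹ * z * g1 = f := by rw [hfdef, hg1def]; group
    suffices hg1 : g1 ∈ X by
      have : g = g1 * x := by rw [hg1def]; group
      rw [this]; exact mul_mem hg1 hx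
    have hfQ : f ∈ ctr (g1⁻¹ • P) := by
      rw [ctr_smul]
      exact ⟨z, hz, by rw [← hfg]; show g1⁻¹ * z * g1⁻¹⁻¹ = g1⁻¹ * z * g1; rw [inv_inv]⟩
    have hf1 : f ≠ 1 := fun e => hz1 (by
      rw [← hfg, mul_assoc, inv_mul_eq_one] at e
      exact mul_eq_right.1 e.symm)
    have hgen : zpowers f = ctr (g1⁻¹ • P) := zpowers_eq_of_three (h.card_ctr hH.ne _) hfQ hf1
    by_cases hfZ : f ∈ Z
    · have e : ctr (g1⁻¹ • P) = Z := by rw [← hgen]; exact zpowers_eq_of_three hZ3 hfZ hf1
      rw [ctr_smul] at e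
      exact inv_mem_iff.1 (hNZmem _ e)
    exfalso
    set F := (P : Subgroup G) ⊓ centralizer ({f} : Set G) with hFdef
    have hF9 : Nat.card F = 9 := hH.centralizer_plane hf hfZ
    have hFX : MulAut.conj g1 • F ≤ X := by
      rintro _ ⟨a, ha, rfl⟩
      show g1 * a * g1⁻¹ ∈ X
      rw [hXZ]
      refine centralizer_le_normalizer _ ?_
      rw [← zpowers_eq_of_three hZ3 hz hz1, zpowers_eq_closure, centralizer_closure, mem_centralizer_singleton_iff]
      have e : a * f = f * a := mem_centralizer_singleton_iff.1 ha.2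
      rw [← hfg] at e
      calc g1 * a * g1⁻¹ * z = g1 * (a * (g1⁻¹ * z * g1)) * g1⁻¹ := by group
        _ = g1 * (g1⁻¹ * z * g1 * a) * g1⁻¹ := by rw [e]
        _ = z * (g1 * a * g1⁻¹) := by group
    obtain ⟨y, hy, hFy⟩ := exists_le_conj hPX hFX ((IsPGroup.of_card (n := 2) (p := 3) (by
      rw [← Nat.card_congr (equivSMul (MulAut.conj g1) F).toEquiv, hF9]; norm_num)))
    set Q := g1⁻¹ • y • P with hQdef
    have hQc : ctr Q = ctr (g1⁻¹ • P) := by
      rw [hQdef, ctr_smul, hall _ (hconjP y hy), ← ctr_smul]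
    have hFQ : F ≤ (Q : Subgroup G) := by
      have := (pointwise_smul_le_pointwise_smul_iff (a := MulAut.conj g1⁻¹)).2 hFy
      rwa [← mul_smul, ← map_mul, inv_mul_cancel, map_one, one_smul, ← Sylow.coe_subgroup_smul] at this
    have hQP : Q ≠ P := fun e => hfZ (by
      have : f ∈ ctr Q := hQc ▸ hfQ
      rwa [e] at this)
    have hi := o.eq_of_nine hQP inf_le_left hFQ hF9.ge
    exact hfZ (hall Q (o.le_of_fib hi) ▸ hQc ▸ hfQ)
  have hnotZ : ∀ g : G, ∀ z ∈ Z, g⁻¹ * z * g ∈ D → g⁻¹ * z * g ∈ Z := by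
    intro g z hz hD'
    by_cases hz1 : z = 1
    · rw [hz1, mul_one, inv_mul_cancel]; exact one_mem _
    have hgX := halone z hz hz1 g (hDX hD')
    rw [hXZ] at hgX
    simpa using (mem_normalizer_iff.1 (inv_mem hgX) z).1 hz
  -- the other elements of `D` fix few cosets
  have hfix : ∀ e ∈ D, e ∉ Z →
      Nat.card {q : G ⧸ X // e • q = q ∧ q ≠ ((1 : G) : G ⧸ X)} ≤ 3 := by
    intro e heD heZ
    have he1 : e ≠ 1 := fun e1 => heZ (e1 ▸ one_mem _)
    have he3 : e ^ 3 = 1 := h.pow_three P (o.le heD)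
    have hze : Nat.card (zpowers e) = 3 := by rw [Nat.card_zpowers, orderOf_eq_prime he3 he1]
    set C := centralizer ({e} : Set G) with hCdef
    have hCN : C ≤ normalizer (zpowers e : Set G) := by
      refine le_trans ?_ (centralizer_le_normalizer _)
      rw [zpowers_eq_closure, centralizer_closure]
    have h7 : ¬ 7 ∣ Nat.card C := h.not_seven_dvd one_ne_zero (hze.trans (pow_one 3).symm) hCN
    have hDC : D ≤ C := fun d hd => mem_centralizer_singleton_iff.2 (hab d hd e heD)
    have h27 : ¬ 27 ∣ Nat.card C := by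
      intro hd
      obtain ⟨K, hK⟩ := Sylow.exists_subgroup_card_pow_prime 3 (n := 3) (G := C) (by simpa using hd)
      have hK' : Nat.card (K.map C.subtype) = 3 ^ 3 := by
        rw [← Nat.card_congr (equivMapOfInjective _ _ C.subtype_injective).toEquiv, hK]
      obtain ⟨S, hS⟩ := (IsPGroup.of_card (p := 3) (n := 3) hK').exists_le_sylow
      have hSe : K.map C.subtype = (S : Subgroup G) :=
        eq_of_le_of_card_ge hS (by rw [h.card_three, hK']; norm_num)
      have hSC : (S : Subgroup G) ≤ C := hSe ▸ map_subtype_le K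
      have heS : e ∈ (S : Subgroup G) :=
        le_of_normal_le (IsPGroup.of_card (n := 1) (by rw [hze]; norm_num)) (hSC.trans hCN) (mem_zpowers e)
      have hec : e ∈ ctr S := mem_ctr.2 ⟨heS, fun v hv => mem_centralizer_singleton_iff.1 (hSC hv)⟩
      obtain ⟨k, rfl⟩ := MulAction.exists_smul_eq G P S
      rw [ctr_smul] at hec
      obtain ⟨z, hz, hze'⟩ := hec
      have he' : e = k⁻¹⁻¹ * z * k⁻¹ := by rw [inv_inv]; exact hze'.symm
      exact heZ (he' ▸ hnotZ k⁻¹ z hz (he' ▸ heD))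
    have hnine : ∀ S : Subgroup G, S ≤ C → Nat.card S = 9 → ∃ c ∈ C, MulAut.conj c • S = D := by
      intro S hSC hS
      have hcard : ∀ (A : Subgroup G), A ≤ C → Nat.card A = 9 → ∃ R : Sylow 3 C, (R : Subgroup C) = A.subgroupOf C := by
        intro A hAC hA
        have hA' : Nat.card (A.subgroupOf C) = 9 := by rw [Nat.card_congr (subgroupOfEquivOfLe hAC).toEquiv, hA]
        obtain ⟨R, hR⟩ := (IsPGroup.of_card (p := 3) (n := 2) (by rw [hA']; norm_num) :
          IsPGroup 3 ↥(A.subgroupOf C)).exists_le_sylow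
        obtain ⟨m, hm⟩ := IsPGroup.iff_card.1 R.isPGroup'
        have hdm : 3 ^ m ∣ Nat.card C := hm ▸ card_subgroup_dvd_card _
        have hm2 : m ≤ 2 := by
          by_contra hlt
          exact h27 ((pow_dvd_pow 3 (show 3 ≤ m by omega)).trans hdm)
        refine ⟨R, (eq_of_le_of_card_ge hR ?_).symm⟩
        rw [hm, hA']
        exact le_trans (Nat.pow_le_pow_right (by norm_num) hm2) (by norm_num)
      obtain ⟨R1, hR1⟩ := hcard S hSC hS
      obtain ⟨R2, hR2⟩ := hcard D hDC o.card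
      obtain ⟨c, hc⟩ := MulAction.exists_smul_eq C R1 R2
      refine ⟨c, c.2, eq_of_le_of_card_ge ?_ (by
        rw [o.card, ← Nat.card_congr (equivSMul (MulAut.conj (c : G)) S).toEquiv, hS])⟩
      rintro _ ⟨a, ha, rfl⟩
      have hmem : c * ⟨a, hSC ha⟩ * c⁻¹ ∈ ((c • R1 : Sylow 3 C) : Subgroup C) := by
        rw [Sylow.coe_subgroup_smul]
        exact ⟨⟨a, hSC ha⟩, hR1 ▸ ha, rfl⟩
      rw [hc, hR2] at hmem
      exact hmem
    -- the fixed cosets form an orbit of the centralizer
    have horbit : {q : G ⧸ X | e • q = q} = orbit C ((1 : G) : G ⧸ X) := by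
      ext q
      constructor
      · refine q.inductionOn fun g hq => ?_
        have hg : g⁻¹ * e * g ∈ X := by
          have h1 : ((e * g : G) : G ⧸ X) = (g : G ⧸ X) := hq
          rw [eq_comm, QuotientGroup.eq, ← mul_assoc] at h1
          exact h1
        have hge3 : (g⁻¹ * e * g) ^ 3 = 1 := by
          rw [show g⁻¹ * e * g = g⁻¹ * e * g⁻¹⁻¹ by group, conj_pow, he3]; group
        obtain ⟨x, hx, hf⟩ := exists_conj_into hPX hg hge3
        set g1 := g * x⁻¹ with hg1
        set f := x * (g⁻¹ * e * g) * x⁻¹ with hfdef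
        have hfg : g1 * f * g1⁻¹ = e := by rw [hfdef, hg1]; group
        have hfZ : f ∉ Z := fun hfZ => heZ (by
          have he' : e = g1⁻¹⁻¹ * f * g1⁻¹ := by rw [inv_inv, hfg]
          exact he' ▸ hnotZ g1⁻¹ f hfZ (he' ▸ heD))
        set F := (P : Subgroup G) ⊓ centralizer ({f} : Set G) with hFdef
        have hF9 : Nat.card F = 9 := hH.centralizer_plane hf hfZ
        have hFC : MulAut.conj g1 • F ≤ C := by
          rintro _ ⟨a, ha, rfl⟩
          show g1 * a * g1⁻¹ ∈ C
          rw [hCdef, mem_centralizer_singleton_iff, ← hfg]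
          have e' : a * f = f * a := mem_centralizer_singleton_iff.1 ha.2
          calc g1 * a * g1⁻¹ * (g1 * f * g1⁻¹) = g1 * (a * f) * g1⁻¹ := by group
            _ = g1 * f * g1⁻¹ * (g1 * a * g1⁻¹) := by rw [e']; group
        obtain ⟨c, hc, hcF⟩ := hnine _ hFC (by
          rw [← Nat.card_congr (equivSMul (MulAut.conj g1) F).toEquiv, hF9])
        obtain ⟨⟨z, hz⟩, hz1⟩ : ∃ z : Z, z ≠ 1 := by
          haveI : Nontrivial Z := Finite.one_lt_card_iff_nontrivial.1 (by rw [hZ3]; norm_num)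
          exact exists_ne 1
        have hzne : z ≠ 1 := fun e1 => hz1 (Subtype.ext e1)
        have hzF : z ∈ F := ⟨(mem_ctr.1 hz).1, mem_centralizer_singleton_iff.2 ((mem_ctr.1 hz).2 f hf).symm⟩
        have hzD : (c * g1)⁻¹⁻¹ * z * (c * g1)⁻¹ ∈ D := by
          rw [← hcF, inv_inv]
          exact ⟨g1 * z * g1⁻¹, ⟨z, hzF, rfl⟩, by
            show c * (g1 * z * g1⁻¹) * c⁻¹ = c * g1 * z * (c * g1)⁻¹; group⟩
        have hcg1 : c * g1 ∈ X := inv_mem_iff.1 (halone z hz hzne _ (hDX hzD))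
        refine ⟨⟨c⁻¹, inv_mem hc⟩, ?_⟩
        show ((c⁻¹ * 1 : G) : G ⧸ X) = (g : G ⧸ X)
        rw [QuotientGroup.eq, show (c⁻¹ * 1)⁻¹ * g = c * g1 * x by rw [hg1]; group]
        exact mul_mem hcg1 hx
      · rintro ⟨c, rfl⟩
        show (((e * ((c : G) * 1) : G)) : G ⧸ X) = (((c : G) * 1 : G) : G ⧸ X)
        rw [QuotientGroup.eq, show (e * ((c : G) * 1))⁻¹ * ((c : G) * 1) = (c : G)⁻¹ * (e⁻¹ * (c : G)) by group,
          ← (show Commute (c : G) e from mem_centralizer_singleton_iff.1 c.2).inv_right.eq, inv_mul_cancel_left]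
        exact inv_mem (hDX heD)
    have hstab : stabilizer C ((1 : G) : G ⧸ X) = X.subgroupOf C := by
      ext c
      rw [mem_stabilizer_iff, mem_subgroupOf]
      show ((((c : G) * 1 : G)) : G ⧸ X) = _ ↔ _
      rw [mul_one, QuotientGroup.eq, mul_one, inv_mem_iff]
    have hk := (stabilizer C ((1 : G) : G ⧸ X)).index_mul_card
    rw [index_stabilizer, hstab, Nat.card_congr (show ↥(X.subgroupOf C) ≃ ↥(C ⊓ X) from
      { toFun := fun a => ⟨a.1, a.1.2, a.2⟩
        invFun := fun a => ⟨⟨a.1, a.2.1⟩, a.2.2⟩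
        left_inv := fun a => rfl
        right_inv := fun a => rfl })] at hk
    set k := (orbit C ((1 : G) : G ⧸ X)).ncard with hkdef
    -- the centralizer in `X` has order at least `72`
    have h72 : 72 ≤ Nat.card ↥(C ⊓ X) := by
      have hf := card_le_mul_stab X C (fun a => (⟨⟨(a : G) * e * (a : G)⁻¹, (mem_normalizer_iff.1 a.2 e).1 heD⟩,
        fun hm => heZ (by
          have ha : (a : G) ∈ normalizer (Z : Set G) := hXZ ▸ a.2
          exact (mem_normalizer_iff.1 ha e).2 hm)⟩ : {y : D // (y : G) ∉ Z})) fun a b e' => by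
        have e1 : (a : G) * e * (a : G)⁻¹ = (b : G) * e * (b : G)⁻¹ :=
          congrArg (fun y : {y : D // (y : G) ∉ Z} => (y.1 : G)) e'
        refine mem_centralizer_singleton_iff.2 ?_
        calc (a : G)⁻¹ * b * e = (a : G)⁻¹ * ((b : G) * e * (b : G)⁻¹) * b := by group
          _ = e * ((a : G)⁻¹ * b) := by rw [← e1]; group
      have h6 : Nat.card {y : D // (y : G) ∉ Z} = 6 := by
        letI := Fintype.ofFinite D
        rw [Nat.card_eq_fintype_card, Fintype.card_subtype_compl, ← Nat.card_eq_fintype_card,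
          ← Nat.card_eq_fintype_card, o.card,
          show Nat.card {y : D // (y : G) ∈ Z} = 3 from hZ3 ▸ Nat.card_congr (subgroupOfEquivOfLe hZD).toEquiv]
      rw [h6, hX, inf_comm] at hf
      omega
    have hC864 : Nat.card C ≤ 864 := h.card_le h7
    have hmod : k % 3 = 1 := by
      have hp : IsPGroup 3 (zpowers e) := IsPGroup.of_card (n := 1) (by rw [hze]; norm_num)
      have hm := hp.card_modEq_card_fixedPoints (G ⧸ X)
      have hfixed : (fixedPoints (zpowers e) (G ⧸ X)) = {q : G ⧸ X | e • q = q} := by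
        ext q
        refine ⟨fun hq => hq ⟨e, mem_zpowers e⟩, fun hq => ?_⟩
        rintro ⟨a, ha⟩
        have : a ∈ stabilizer G q := zpowers_le.2 (show e ∈ stabilizer G q from hq) ha
        exact this
      rw [hfixed, horbit, index_eq h hX, Nat.card_coe_set_eq, ← hkdef] at hm
      exact hm.symm
    have hk4 : k ≤ 4 := by
      have hk12 : k ≤ 12 := by
        by_contra hlt
        have := Nat.mul_le_mul (show 13 ≤ k by omega) h72
        omega
      have hkd : k ∣ 12096 := (hk ▸ dvd_mul_right k _ : k ∣ Nat.card C).trans (h.card ▸ card_subgroup_dvd_card C)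
      have hk7 : k ≠ 7 := fun e7 => h7 (e7 ▸ hk ▸ dvd_mul_right k _)
      interval_cases k <;> omega
    have hne : Nat.card {q : G ⧸ X // e • q = q ∧ q ≠ ((1 : G) : G ⧸ X)} + 1 = k := by
      rw [hkdef, ← horbit]
      have hb : ((1 : G) : G ⧸ X) ∈ {q : G ⧸ X | e • q = q} := by rw [horbit]; exact mem_orbit_self _
      rw [← Set.ncard_sdiff_singleton_add_one hb (Set.toFinite _), ← Nat.card_coe_set_eq]
      rfl
    omega
  -- the orbits of cosets moved by `D`
  have horb9 : ∀ g : G, g ∉ X → X ⊓ MulAut.conj g • X ⊓ D ≠ ⊥ →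
      48 ≤ Nat.card ↥(X ⊓ MulAut.conj g • X) := by
    intro g hg hne
    obtain ⟨⟨e, he⟩, he1'⟩ : ∃ e : ↥(X ⊓ MulAut.conj g • X ⊓ D), e ≠ 1 := by
      haveI : Nontrivial ↥(X ⊓ MulAut.conj g • X ⊓ D) := (nontrivial_iff_ne_bot _).2 hne
      exact exists_ne 1
    have he1 : e ≠ 1 := fun h1 => he1' (Subtype.ext h1)
    have heZ : e ∉ Z := fun hm => hg (halone e hm he1 g (mem_point_stabilizer.1 he.1).2)
    have hwit : ∀ q : orbit X (g : G ⧸ X), ∃ a : G, (a ∈ D ∧ a ∉ Z) ∧ a • (q : G ⧸ X) = q := by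
      rintro ⟨_, a, rfl⟩
      refine ⟨(a : G) * e * (a : G)⁻¹, ⟨(mem_normalizer_iff.1 a.2 e).1 he.2, fun hm => heZ ?_⟩, ?_⟩
      · have ha : (a : G) ∈ normalizer (Z : Set G) := hXZ ▸ a.2
        exact (mem_normalizer_iff.1 ha e).2 hm
      · have hq : e • (g : G ⧸ X) = (g : G ⧸ X) := by
          show ((e * g : G) : G ⧸ X) = (g : G ⧸ X)
          rw [eq_comm, QuotientGroup.eq, ← mul_assoc]
          exact (mem_point_stabilizer.1 he.1).2
        show ((a : G) * e * (a : G)⁻¹) • (a : G) • (g : G ⧸ X) = (a : G) • (g : G ⧸ X)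
        rw [mul_smul, inv_smul_smul, mul_smul, hq]
    choose w hwD hwfix using hwit
    let f : orbit X (g : G ⧸ X) × Bool →
        Σ y : {y : D // (y : G) ∉ Z}, {q : G ⧸ X // (y.1 : G) • q = q ∧ q ≠ ((1 : G) : G ⧸ X)} := fun p =>
      if p.2 then ⟨⟨⟨w p.1, (hwD p.1).1⟩, (hwD p.1).2⟩, p.1, hwfix p.1, coset_orbit_ne hg p.1.2⟩
      else ⟨⟨⟨(w p.1)⁻¹, inv_mem (hwD p.1).1⟩, fun hm => (hwD p.1).2 (by simpa using inv_mem hm)⟩, p.1,
        inv_smul_eq_iff.2 (hwfix p.1).symm, coset_orbit_ne hg p.1.2⟩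
    have hinj : Function.Injective f := by
      rintro ⟨q, b⟩ ⟨q', b'⟩ heq
      have hq : q = q' := by
        have := congrArg (fun s : (Σ y : {y : D // (y : G) ∉ Z},
          {q : G ⧸ X // (y.1 : G) • q = q ∧ q ≠ ((1 : G) : G ⧸ X)}) => s.2.1) heq
        cases b <;> cases b' <;> exact Subtype.ext this
      subst hq
      have hv := congrArg (fun s : (Σ y : {y : D // (y : G) ∉ Z},
        {q : G ⧸ X // (y.1 : G) • q = q ∧ q ≠ ((1 : G) : G ⧸ X)}) => (s.1.1 : G)) heq
      have hne2 : w q ≠ (w q)⁻¹ := fun h2 => (hwD q).2 (by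
        have h22 : w q ^ 2 = 1 := by rw [pow_two]; exact mul_eq_one_iff_eq_inv.2 h2
        have h3 := h.pow_three P (o.le (hwD q).1)
        rw [pow_succ, h22, one_mul] at h3
        rw [h3]; exact one_mem _)
      cases b <;> cases b' <;> simp only [f] at hv
      · rfl
      · exact absurd hv.symm hne2
      · exact absurd hv hne2
      · rfl
    have h18 := Nat.card_le_card_of_injective f hinj
    letI := Fintype.ofFinite {y : D // (y : G) ∉ Z}
    rw [Nat.card_sigma, Nat.card_prod, Nat.card_coe_set_eq, Nat.card_eq_fintype_card (α := Bool), Fintype.card_bool]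
      at h18
    have hsum := Finset.sum_le_sum (s := (Finset.univ : Finset {y : D // (y : G) ∉ Z}))
      fun y _ => hfix (y.1 : G) y.1.2 y.2
    rw [Finset.sum_const, Finset.card_univ, smul_eq_mul] at hsum
    have h6 : Fintype.card {y : D // (y : G) ∉ Z} = 6 := by
      letI := Fintype.ofFinite D
      rw [Fintype.card_subtype_compl, ← Nat.card_eq_fintype_card,
        ← Nat.card_eq_fintype_card, o.card,
        show Nat.card {y : D // (y : G) ∈ Z} = 3 from hZ3 ▸ Nat.card_congr (subgroupOfEquivOfLe hZD).toEquiv]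
    rw [h6] at hsum
    have e432 := coset_orbit X g
    rw [hX] at e432
    by_contra hlt
    have h9' : (orbit X (g : G ⧸ X)).ncard ≤ 9 := by omega
    have := Nat.mul_le_mul h9' (show Nat.card ↥(X ⊓ MulAut.conj g • X) ≤ 47 by omega)
    omega
  -- the centralizer of `D`
  set M := centralizer (D : Set G) with hMdef
  have hMX : M ≤ X := centralizer_le_normalizer _
  have hXM : X ≤ normalizer (M : Set G) := by
    have key : ∀ g ∈ X, ∀ m ∈ M, g * m * g⁻¹ ∈ M := by
      intro g hg m hm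
      refine mem_centralizer_iff.2 fun d hd => ?_
      have hd' : g⁻¹ * d * g ∈ D := by simpa using (mem_normalizer_iff.1 (inv_mem hg) d).1 hd
      have e : g⁻¹ * d * g * m = m * (g⁻¹ * d * g) := mem_centralizer_iff.1 hm _ hd'
      calc d * (g * m * g⁻¹) = g * (g⁻¹ * d * g * m) * g⁻¹ := by group
        _ = g * (m * (g⁻¹ * d * g)) * g⁻¹ := by rw [e]
        _ = g * m * g⁻¹ * d := by group
    intro g hg
    refine mem_normalizer_iff.2 fun m => ⟨fun hm => key g hg m hm, fun hm => ?_⟩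
    have := key g⁻¹ (inv_mem hg) _ hm
    rwa [show g⁻¹ * (g * m * g⁻¹) * g⁻¹⁻¹ = m by group] at this
  have hDM : D ≤ M := fun d hd => mem_centralizer_iff.2 fun e he => hab e he d hd
  have hM27 : ¬ 27 ∣ Nat.card M := by
    intro hd
    obtain ⟨K, hK⟩ := Sylow.exists_subgroup_card_pow_prime 3 (n := 3) (G := M) (by simpa using hd)
    have hK' : Nat.card (K.map M.subtype) = 3 ^ 3 := by
      rw [← Nat.card_congr (equivMapOfInjective _ _ M.subtype_injective).toEquiv, hK]
    obtain ⟨S, hS⟩ := (IsPGroup.of_card (p := 3) (n := 3) hK').exists_le_sylow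
    have hSe : K.map M.subtype = (S : Subgroup G) :=
      eq_of_le_of_card_ge hS (by rw [h.card_three, hK']; norm_num)
    have hSM : (S : Subgroup G) ≤ M := hSe ▸ map_subtype_le K
    have hDS : D ≤ (S : Subgroup G) :=
      le_of_normal_le (IsPGroup.of_card (n := 2) (by rw [o.card]; norm_num)) (hSM.trans hMX)
    have := card_le_of_le (fun d hd => mem_ctr.2 ⟨hDS hd, fun v hv =>
      (mem_centralizer_iff.1 (hSM hv) d hd).symm⟩ : D ≤ ctr S)
    rw [o.card, h.card_ctr hH.ne S] at this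
    omega
  obtain ⟨⟨z, hz⟩, hz1⟩ : ∃ z : Z, z ≠ 1 := by
    haveI : Nontrivial Z := Finite.one_lt_card_iff_nontrivial.1 (by rw [hZ3]; norm_num)
    exact exists_ne 1
  have hzne : z ≠ 1 := fun e1 => hz1 (Subtype.ext e1)
  obtain ⟨e, heD, heZ⟩ : ∃ e ∈ D, e ∉ Z := by
    by_contra hnone
    push Not at hnone
    have := card_le_of_le (fun y hy => hnone y hy : D ≤ Z)
    rw [o.card, hZ3] at this
    omega
  have h36 : 36 ≤ Nat.card M := by
    have hf := card_le_mul_stab X M (fun a =>
      ((⟨⟨(a : G) * z * (a : G)⁻¹, (mem_normalizer_iff.1 (hXZ ▸ a.2 : (a : G) ∈ normalizer (Z : Set G)) z).1 hz⟩,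
        fun h1 => hzne (conj_eq_one_iff.1 (congrArg Subtype.val h1))⟩ : {v : Z // v ≠ 1}),
      (⟨⟨(a : G) * e * (a : G)⁻¹, (mem_normalizer_iff.1 a.2 e).1 heD⟩, fun hm => heZ
        ((mem_normalizer_iff.1 (hXZ ▸ a.2 : (a : G) ∈ normalizer (Z : Set G)) e).2 hm)⟩ :
        {y : D // (y : G) ∉ Z}))) fun a b e' => by
      obtain ⟨ez, ee⟩ := Prod.mk.injEq _ _ _ _ ▸ e'
      have ez' : (a : G) * z * (a : G)⁻¹ = (b : G) * z * (b : G)⁻¹ :=
        congrArg (fun y : {v : Z // v ≠ 1} => (y.1 : G)) ez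
      have ee' : (a : G) * e * (a : G)⁻¹ = (b : G) * e * (b : G)⁻¹ :=
        congrArg (fun y : {y : D // (y : G) ∉ Z} => (y.1 : G)) ee
      have hk : ∀ v : G, (a : G) * v * (a : G)⁻¹ = (b : G) * v * (b : G)⁻¹ →
          (a : G)⁻¹ * b ∈ centralizer ({v} : Set G) := fun v hv => mem_centralizer_singleton_iff.2 (by
        calc (a : G)⁻¹ * b * v = (a : G)⁻¹ * ((b : G) * v * (b : G)⁻¹) * b := by group
          _ = v * ((a : G)⁻¹ * b) := by rw [← hv]; group)
      refine mem_centralizer_iff.2 fun d hd => ?_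
      set A := D ⊓ centralizer ({(a : G)⁻¹ * b} : Set G) with hA
      have hzA : z ∈ A := ⟨hZD hz, mem_centralizer_singleton_iff.2
        (mem_centralizer_singleton_iff.1 (hk z ez')).symm⟩
      have heA : e ∈ A := ⟨heD, mem_centralizer_singleton_iff.2
        (mem_centralizer_singleton_iff.1 (hk e ee')).symm⟩
      have h9 : 9 ≤ Nat.card A := sup_ctr_card h hZ3
        (show Nat.card (zpowers e) = 3 by
          rw [Nat.card_zpowers, orderOf_eq_prime (h.pow_three P (o.le heD)) fun e1 => heZ (e1 ▸ one_mem _)])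
        (fun e1 => heZ (e1 ▸ mem_zpowers e))
        (by rw [← zpowers_eq_of_three hZ3 hz hzne]; exact zpowers_le.2 hzA) (zpowers_le.2 heA)
      have hAD : A = D := eq_of_le_of_card_ge inf_le_left (by rw [o.card]; exact h9)
      exact mem_centralizer_singleton_iff.1 (hAD.ge hd).2
    have h2 : Nat.card {v : Z // v ≠ 1} = 2 := by
      letI := Fintype.ofFinite Z
      rw [Nat.card_eq_fintype_card, Fintype.card_subtype_compl, Fintype.card_subtype_eq,
        ← Nat.card_eq_fintype_card, hZ3]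
    have h6 : Nat.card {y : D // (y : G) ∉ Z} = 6 := by
      letI := Fintype.ofFinite D
      rw [Nat.card_eq_fintype_card, Fintype.card_subtype_compl, ← Nat.card_eq_fintype_card,
        ← Nat.card_eq_fintype_card, o.card,
        show Nat.card {y : D // (y : G) ∈ Z} = 3 from hZ3 ▸ Nat.card_congr (subgroupOfEquivOfLe hZD).toEquiv]
    rw [Nat.card_prod, h2, h6, hX, inf_eq_right.2 hMX] at hf
    omega
  obtain ⟨c, hc, x, hx, hw⟩ : ∃ c ∈ M, ∃ x ∈ (P : Subgroup G), c * x * c⁻¹ * x⁻¹ ∉ D := by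
    by_contra hnone
    push Not at hnone
    have hMN : M ≤ N(P) := fun c hc => by
      have hsub : ∀ x ∈ (P : Subgroup G), c * x * c⁻¹ ∈ (P : Subgroup G) := fun x hx => by
        simpa using mul_mem (o.le (hnone c hc x hx)) hx
      refine Sylow.smul_eq_iff_mem_normalizer.1 (Sylow.ext (eq_of_le_of_card_ge ?_ ?_))
      · rw [Sylow.coe_subgroup_smul]
        rintro _ ⟨x, hx, rfl⟩
        exact hsub x hx
      · rw [h.card_three, h.card_three]
    haveI : (M.subgroupOf N(P)).Normal :=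
      (normal_subgroupOf_iff_le_normalizer hMN).2 (o.normalizer_le.trans hXM)
    have hidx := (M.subgroupOf N(P)).index_mul_card
    rw [Nat.card_congr (subgroupOfEquivOfLe hMN).toEquiv] at hidx
    have hN := card_normalizer_mul h P
    rw [o.n112] at hN
    have hi : (M.subgroupOf N(P)).index = 3 := by
      have hi1 : (M.subgroupOf N(P)).index ≠ 1 := fun e1 => hM27 ⟨4, by rw [e1, one_mul] at hidx; omega⟩
      have hi2 : (M.subgroupOf N(P)).index ≠ 2 := fun e2 => hM27 ⟨2, by rw [e2] at hidx; omega⟩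
      have hi3 : (M.subgroupOf N(P)).index ≤ 3 := by
        by_contra hlt
        have := Nat.mul_le_mul (show 4 ≤ (M.subgroupOf N(P)).index by omega) h36
        omega
      have hi0 : (M.subgroupOf N(P)).index ≠ 0 := index_ne_zero_of_finite
      omega
    have hT : Nat.card T = 4 := by rcases h.n_cases P o.compl with ⟨e1, -⟩ | ⟨-, e1⟩ <;> have := o.n112 <;> omega
    have hTM : ∀ t ∈ T, t ∈ M := fun t ht => by
      have h3 := pow_index_mem (M.subgroupOf N(P)) ⟨t, o.compl.le ht⟩
      rw [hi, mem_subgroupOf] at h3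
      have h4 : t ^ 4 = 1 := by
        have := pow_card_eq_one' (x := (⟨t, ht⟩ : T))
        rw [hT] at this
        exact congrArg Subtype.val this
      have : t = (t ^ 3)⁻¹ := by rw [eq_inv_iff_mul_eq_one, ← pow_succ']; exact h4
      rw [this]; exact inv_mem h3
    refine h.transfer P o.compl o.le (fun e1 => ?_) o.P_le o.norm fun t ht x hx => hnone t (hTM t ht) x hx
    have := o.card
    rw [e1, h.card_three] at this
    omega
  refine h.semiregular_absurd (c := c) (x := x) hX o.card le_rfl hDX hXM hMX hDM le_rfl hM27 hc (hPX hx)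
    (h.pow_three P hx) ?_ fun g hg => ?_
  · intro h9
    set w := c * x * c⁻¹ * x⁻¹ with hwdef
    have hwM : w ∈ M := by
      rw [hwdef, show c * x * c⁻¹ * x⁻¹ = c * (x * c⁻¹ * x⁻¹) by group]
      exact mul_mem hc ((mem_normalizer_iff.1 (hXM (hPX hx)) _).1 (inv_mem hc))
    obtain ⟨m, hm2, hm⟩ := (Nat.dvd_prime_pow Nat.prime_three).1
      (orderOf_dvd_of_pow_eq_one h9 : orderOf w ∣ 3 ^ 2)
    have hS : IsPGroup 3 (zpowers w) := IsPGroup.of_card (n := m) (by rw [Nat.card_zpowers, hm])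
    have hsup := IsPGroup.to_sup_of_normal_right' hS
      (IsPGroup.of_card (n := 2) (by rw [o.card]; norm_num) : IsPGroup 3 D) ((zpowers_le.2 hwM).trans hMX)
    obtain ⟨i, hi⟩ := IsPGroup.iff_card.1 hsup
    have hle : zpowers w ⊔ D ≤ M := sup_le (zpowers_le.2 hwM) hDM
    have hi2 : i ≤ 2 := by
      by_contra hlt
      exact hM27 (((pow_dvd_pow 3 (show 3 ≤ i by omega)).trans hi.symm.dvd).trans (card_dvd_of_le hle))
    refine hw ((eq_of_le_of_card_ge le_sup_right (by
      rw [hi, o.card]; exact le_trans (Nat.pow_le_pow_right (by norm_num) hi2) (by norm_num))).ge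
      (mem_sup_left (mem_zpowers w)))
  · by_cases hne : X ⊓ MulAut.conj g • X ⊓ D = ⊥
    · exact Or.inl hne
    refine Or.inr ⟨horb9 g hg hne, ?_⟩
    have hd : Nat.card ↥(X ⊓ MulAut.conj g • X ⊓ D) ∣ 3 ^ 2 := by
      simpa [o.card] using card_dvd_of_le (inf_le_right : X ⊓ MulAut.conj g • X ⊓ D ≤ D)
    obtain ⟨i, hi, he⟩ := (Nat.dvd_prime_pow Nat.prime_three).1 hd
    rw [he]
    have hi2 : i ≠ 2 := by
      rintro rfl
      have hall9 := eq_of_le_of_card_ge (inf_le_right : X ⊓ MulAut.conj g • X ⊓ D ≤ D) (by rw [he, o.card]; norm_num)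
      exact hg (halone z hz hzne g (mem_point_stabilizer.1 (hall9.ge (hZD hz)).1).2)
    calc 3 ^ i ≤ 3 ^ 1 := Nat.pow_le_pow_right (by norm_num) (by omega)
      _ = 3 := by norm_num

end Cfsg.Lib.Recog.G2Two
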