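import Cfsg.Agent.Lib.Recog.G2Two.Planes

/-!
# The extraspecial Sylow `3`-subgroup
-/

set_option autoImplicit false
set_option linter.style.haveILetI false
set_option linter.unusedSectionVars false

namespace Cfsg.Lib.Recog.G2Two

open Subgroup MulAction Pointwise

universe u

variable {G : Type u} [Group G] [Finite G] [Fact (Nat.Prime 3)]

local notation "N(" P ")" => normalizer ((P : Subgroup G) : Set G)

/-- A bound by the number of values and the size of the fibres. -/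
theorem card_le_mul_stab {β : Type*} [Finite β] (A S : Subgroup G) (f : A → β)
    (hf : ∀ a b : A, f a = f b → (a : G)⁻¹ * b ∈ S) : Nat.card A ≤ Nat.card β * Nat.card ↥(A ⊓ S) := by
  classical
  letI := Fintype.ofFinite β
  rw [← Nat.card_congr (Equiv.sigmaFiberEquiv f), Nat.card_sigma]
  calc ∑ y, Nat.card {a // f a = y} ≤ ∑ _y : β, Nat.card ↥(A ⊓ S) := Finset.sum_le_sum fun y _ => ?_
    _ = _ := by rw [Finset.sum_const, Finset.card_univ, ← Nat.card_eq_fintype_card, smul_eq_mul]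
  rcases isEmpty_or_nonempty {a // f a = y} with he | ⟨⟨a₀, ha₀⟩⟩
  · simp
  · refine Nat.card_le_card_of_injective
      (fun a => (⟨(a₀ : G)⁻¹ * a.1, mem_inf.2 ⟨mul_mem (inv_mem a₀.2) a.1.2, hf a₀ a.1 (ha₀.trans a.2.symm)⟩⟩ : ↥(A ⊓ S)))
      fun a b e => Subtype.ext (Subtype.ext (mul_left_cancel (congrArg Subtype.val e)))

/-- The centre of a Sylow subgroup, as a subgroup of the group. -/
def ctr (Q : Sylow 3 G) : Subgroup G :=
  (Q : Subgroup G) ⊓ centralizer ((Q : Subgroup G) : Set G)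

theorem mem_ctr {Q : Sylow 3 G} {z : G} :
    z ∈ ctr Q ↔ z ∈ (Q : Subgroup G) ∧ ∀ x ∈ (Q : Subgroup G), x * z = z * x := by
  simp only [ctr, mem_inf, mem_centralizer_iff, SetLike.mem_coe]

theorem ctr_smul (g : G) (Q : Sylow 3 G) : ctr (g • Q) = MulAut.conj g • ctr Q := by
  ext z
  rw [mem_pointwise_smul_iff_inv_smul_mem, mem_ctr, mem_ctr, Sylow.coe_subgroup_smul,
    mem_pointwise_smul_iff_inv_smul_mem]
  refine and_congr_right fun _ => ⟨fun hz x hx => ?_, fun hz x hx => ?_⟩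
  · have hx' : g * x * g⁻¹ ∈ MulAut.conj g • (Q : Subgroup G) := ⟨x, hx, rfl⟩
    have e : g * x * g⁻¹ * z = z * (g * x * g⁻¹) := hz _ hx'
    simp only [MulAut.smul_def, ← map_inv, MulAut.conj_apply, inv_inv]
    calc x * (g⁻¹ * z * g) = g⁻¹ * (g * x * g⁻¹ * z) * g := by group
      _ = g⁻¹ * (z * (g * x * g⁻¹)) * g := by rw [e]
      _ = g⁻¹ * z * g * x := by group
  · rw [mem_pointwise_smul_iff_inv_smul_mem] at hx
    have e := hz _ hx
    simp only [MulAut.smul_def, ← map_inv, MulAut.conj_apply, inv_inv] at e ⊢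
    calc x * z = g * (g⁻¹ * x * g * (g⁻¹ * z * g)) * g⁻¹ := by group
      _ = g * (g⁻¹ * z * g * (g⁻¹ * x * g)) * g⁻¹ := by rw [e]
      _ = z * x := by group

theorem Hyp.card_ctr (h : Hyp G) {P : Sylow 3 G}
    (hna : ¬ ∀ x ∈ (P : Subgroup G), ∀ y ∈ (P : Subgroup G), x * y = y * x) (Q : Sylow 3 G) :
    Nat.card (ctr Q) = 3 := by
  have hP : Nat.card (ctr P) = 3 := by
    haveI : Nontrivial (P : Subgroup G) := Finite.one_lt_card_iff_nontrivial.1 (by rw [h.card_three]; norm_num)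
    obtain ⟨k, hk, hc⟩ := IsPGroup.card_center_eq_prime_pow (p := 3) (n := 3) (G := (P : Subgroup G))
      (by rw [h.card_three]; norm_num) (by norm_num)
    have e : (center (P : Subgroup G)).map (P : Subgroup G).subtype = ctr P := by
      ext z
      rw [mem_ctr, mem_map]
      constructor
      · rintro ⟨w, hw, rfl⟩
        exact ⟨w.2, fun x hx => congrArg Subtype.val (mem_center_iff.1 hw ⟨x, hx⟩)⟩
      · rintro ⟨hz, hz'⟩
        exact ⟨⟨z, hz⟩, mem_center_iff.2 fun x => Subtype.ext (hz' x x.2), rfl⟩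
    rw [← e, ← Nat.card_congr (equivMapOfInjective _ _ (P : Subgroup G).subtype_injective).toEquiv, hc]
    have hd : 3 ^ k ∣ 3 ^ 3 := by
      rw [← hc, show (3 : ℕ) ^ 3 = Nat.card (P : Subgroup G) by rw [h.card_three]; norm_num]
      exact card_subgroup_dvd_card _
    have hk3 : k ≤ 3 := (Nat.pow_dvd_pow_iff_le_right (by norm_num)).1 hd
    rcases show k = 1 ∨ 2 ≤ k by omega with rfl | hk2
    · norm_num
    exfalso
    have hq : Nat.card ((P : Subgroup G) ⧸ center (P : Subgroup G)) ∣ 3 := by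
      have e' := card_eq_card_quotient_mul_card_subgroup (center (P : Subgroup G))
      rw [h.card_three, hc] at e'
      obtain ⟨i, rfl⟩ : ∃ i, k = i + 2 := ⟨k - 2, by omega⟩
      refine ⟨3 ^ i, Nat.eq_of_mul_eq_mul_left (by norm_num : 0 < 9) ?_⟩
      rw [show 9 * 3 = 27 by norm_num, e', pow_add]; ring
    haveI : IsCyclic ((P : Subgroup G) ⧸ center (P : Subgroup G)) := by
      rcases (Nat.dvd_prime Nat.prime_three).1 hq with h1 | h3
      · haveI : Subsingleton ((P : Subgroup G) ⧸ center (P : Subgroup G)) :=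
          Finite.card_le_one_iff_subsingleton.1 h1.le
        infer_instance
      · exact isCyclic_of_prime_card h3
    refine hna fun x hx y hy => congrArg Subtype.val
      (commutative_of_cyclic_center_quotient (QuotientGroup.mk' (center (P : Subgroup G))) (by simp) ⟨x, hx⟩ ⟨y, hy⟩)
  obtain ⟨g, rfl⟩ := MulAction.exists_smul_eq G P Q
  rw [ctr_smul, ← hP]
  exact (Nat.card_congr (equivSMul (MulAut.conj g) (ctr P)).toEquiv).symm

variable {P : Sylow 3 G}

theorem sup_ctr_card (h : Hyp G) {R : Subgroup G} {S T : Subgroup G} (hS : Nat.card S = 3) (hT : Nat.card T = 3)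
    (hne : S ≠ T) (hSR : S ≤ R) (hTR : T ≤ R) : 9 ≤ Nat.card R := by
  have hd : Disjoint S T := by
    rw [disjoint_iff]
    rcases (Nat.dvd_prime Nat.prime_three).1 (hS ▸ card_dvd_of_le (inf_le_left : S ⊓ T ≤ S)) with h1 | h3
    · exact eq_bot_of_card_eq _ h1
    · refine absurd ?_ hne
      rw [← eq_of_le_of_card_ge (inf_le_left : S ⊓ T ≤ S) (by rw [h3, hS]),
        eq_of_le_of_card_ge (inf_le_right : S ⊓ T ≤ T) (by rw [h3, hT])]
  have := Nat.card_le_card_of_injective (fun p : S × T => (⟨p.1.1 * p.2.1, mul_mem (hSR p.1.2) (hTR p.2.2)⟩ : R))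
    fun p q e => mul_injective_of_disjoint hd (congrArg Subtype.val e)
  rwa [Nat.card_prod, hS, hT] at this

/-- The data of a nonabelian Sylow subgroup. -/
structure HeisData (h : Hyp G) (P : Sylow 3 G) : Prop where
  ne : ¬ ∀ x ∈ (P : Subgroup G), ∀ y ∈ (P : Subgroup G), x * y = y * x

theorem HeisData.ctr_le {h : Hyp G} (hH : HeisData h P) {D : Subgroup G} (hDP : D ≤ (P : Subgroup G))
    (hD : Nat.card D = 9) : ctr P ≤ D := by
  by_contra hle
  have hZ := h.card_ctr hH.ne P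
  have hd : Disjoint D (ctr P) := by
    rw [disjoint_iff]
    rcases (Nat.dvd_prime Nat.prime_three).1 (hZ ▸ card_dvd_of_le (inf_le_right : D ⊓ ctr P ≤ ctr P)) with h1 | h3
    · exact eq_bot_of_card_eq _ h1
    · exact absurd ((eq_of_le_of_card_ge (inf_le_right : D ⊓ ctr P ≤ _) (by rw [h3, hZ])).ge.trans inf_le_left) hle
  let f : D × ctr P → (P : Subgroup G) := fun p => ⟨p.1.1 * p.2.1, mul_mem (hDP p.1.2) (mem_ctr.1 p.2.2).1⟩
  have hf : Function.Bijective f := (Nat.bijective_iff_injective_and_card f).2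
    ⟨fun p q e => mul_injective_of_disjoint hd (congrArg Subtype.val e),
      by rw [Nat.card_prod, hD, hZ, h.card_three]⟩
  refine hH.ne fun x hx y hy => ?_
  obtain ⟨⟨⟨a, ha⟩, ⟨b, hb⟩⟩, rfl⟩ : ∃ p, ((f p : (P : Subgroup G)) : G) = x := by
    obtain ⟨p, hp⟩ := hf.2 ⟨x, hx⟩; exact ⟨p, by rw [hp]⟩
  obtain ⟨⟨⟨c, hc⟩, ⟨d, hd'⟩⟩, rfl⟩ : ∃ p, ((f p : (P : Subgroup G)) : G) = y := by
    obtain ⟨p, hp⟩ := hf.2 ⟨y, hy⟩; exact ⟨p, by rw [hp]⟩
  show a * b * (c * d) = c * d * (a * b)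
  have hb' := (mem_ctr.1 hb).2
  have hd'' := (mem_ctr.1 hd').2
  calc a * b * (c * d) = a * (b * c) * d := by group
    _ = a * (c * b) * d := by rw [hb' c (hDP hc)]
    _ = (a * c) * (b * d) := by group
    _ = (c * a) * (d * b) := by rw [(h.plane hDP hD).2 a ha c hc, hd'' b (mem_ctr.1 hb).1]
    _ = c * (a * d) * b := by group
    _ = c * (d * a) * b := by rw [hd'' a (hDP ha)]
    _ = c * d * (a * b) := by group

/-- The commutators lie in the centre. -/
theorem HeisData.comm_mem {h : Hyp G} (hH : HeisData h P) {x y : G} (hx : x ∈ (P : Subgroup G))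
    (hy : y ∈ (P : Subgroup G)) : x * y * x⁻¹ * y⁻¹ ∈ ctr P := by
  haveI hn : ((ctr P).subgroupOf (P : Subgroup G)).Normal := ⟨fun z hz g => by
    rw [mem_subgroupOf] at hz ⊢
    simp only [Subgroup.coe_mul, Subgroup.coe_inv]
    rw [(mem_ctr.1 hz).2 g g.2, mul_inv_cancel_right]; exact hz⟩
  have hq : Nat.card ((P : Subgroup G) ⧸ (ctr P).subgroupOf (P : Subgroup G)) = 3 ^ 2 := by
    have e := card_eq_card_quotient_mul_card_subgroup ((ctr P).subgroupOf (P : Subgroup G))
    rw [Nat.card_congr (subgroupOfEquivOfLe (fun z hz => (mem_ctr.1 hz).1)).toEquiv, h.card_ctr hH.ne,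
      h.card_three] at e
    omega
  haveI := IsPGroup.isMulCommutative_of_card_eq_prime_sq hq
  have hcomm : ((⟨x, hx⟩ : (P : Subgroup G)) : (P : Subgroup G) ⧸ (ctr P).subgroupOf (P : Subgroup G)) *
      (⟨y, hy⟩ : (P : Subgroup G)) = ((⟨y, hy⟩ : (P : Subgroup G)) : _) * (⟨x, hx⟩ : (P : Subgroup G)) := mul_comm' _ _
  rw [← QuotientGroup.mk_mul, ← QuotientGroup.mk_mul, eq_comm, QuotientGroup.eq, mem_subgroupOf] at hcomm
  have h2 : (y * x)⁻¹ * (x * y) ∈ ctr P := hcomm
  have h3 := (mem_ctr.1 h2).2 _ (mul_mem hy hx)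
  rw [show x * y * x⁻¹ * y⁻¹ = (y * x) * ((y * x)⁻¹ * (x * y)) * (y * x)⁻¹ by group, h3, mul_inv_cancel_right]
  exact h2

theorem ctr_le_normalizer (Q : Sylow 3 G) {g : G} (hg : g ∈ N(Q)) : g ∈ normalizer (ctr Q : Set G) := by
  refine mem_normalizer_iff.2 fun z => ?_
  have e := ctr_smul g Q
  rw [Sylow.smul_eq_iff_mem_normalizer.2 hg] at e
  conv_rhs => rw [e, mem_pointwise_smul_iff_inv_smul_mem]
  simp [MulAut.smul_def, ← map_inv, mul_assoc]

/-- The Sylow subgroups of the normalizer of the centre. -/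
theorem HeisData.centre_normalizer {h : Hyp G} (hH : HeisData h P) :
    Nat.card (Sylow 3 ↥(normalizer (ctr P : Set G))) ∈ ({1, 4, 16} : Finset ℕ) ∧
      Nat.card (Sylow 3 ↥(normalizer (ctr P : Set G))) * Nat.card N(P) ≤ 864 := by
  have hle : N(P) ≤ normalizer (ctr P : Set G) := fun g hg => ctr_le_normalizer P hg
  obtain ⟨h1, h2, h3⟩ := h.loc P one_ne_zero ((h.card_ctr hH.ne P).trans (pow_one 3).symm) le_rfl
    (le_normalizer.trans hle)
  rw [inf_eq_right.2 hle] at h2
  exact ⟨h1, h2 ▸ h3⟩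

/-- There are at most four planes. -/
theorem HeisData.card_planes_le {h : Hyp G} (hH : HeisData h P) (F : Finset (Subgroup G))
    (hF : ∀ D ∈ F, D ≤ (P : Subgroup G) ∧ Nat.card D = 9) : F.card ≤ 4 := by
  classical
  have hZ := h.card_ctr hH.ne P
  let f : (Σ D : {D // D ∈ F}, {x : D.1 // (x : G) ∉ ctr P}) → {x : (P : Subgroup G) // (x : G) ∉ ctr P} := fun a =>
    ⟨⟨a.2.1, (hF a.1.1 a.1.2).1 a.2.1.2⟩, a.2.2⟩
  have hinj : Function.Injective f := by
    rintro ⟨⟨D, hD⟩, ⟨⟨x, hxD⟩, hxL⟩⟩ ⟨⟨E, hE⟩, ⟨⟨y, hyE⟩, hyL⟩⟩ e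
    obtain rfl : x = y := congrArg (fun a : {x : (P : Subgroup G) // (x : G) ∉ ctr P} => (a.1 : G)) e
    obtain rfl : D = E := by
      by_contra hne
      obtain ⟨hDP, hD9⟩ := hF D hD
      obtain ⟨hEP, hE9⟩ := hF E hE
      have hd : Nat.card ↥(D ⊓ E) ∣ 3 ^ 2 := by simpa [hD9] using card_dvd_of_le (inf_le_left : D ⊓ E ≤ D)
      obtain ⟨i, hi, he⟩ := (Nat.dvd_prime_pow Nat.prime_three).1 hd
      have hi2 : i ≠ 2 := by
        rintro rfl
        refine hne ?_
        rw [← eq_of_le_of_card_ge (inf_le_left : D ⊓ E ≤ D) (by rw [hD9, he]; norm_num),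
          eq_of_le_of_card_ge (inf_le_right : D ⊓ E ≤ E) (by rw [hE9, he]; norm_num)]
      have hle : ctr P ≤ D ⊓ E := le_inf (hH.ctr_le hDP hD9) (hH.ctr_le hEP hE9)
      have hge := card_le_of_le hle
      rw [hZ, he] at hge
      have hmem : x ∈ ctr P := by
        rw [eq_of_le_of_card_ge hle (by rw [he, hZ]; interval_cases i <;> simp_all)]
        exact ⟨hxD, hyE⟩
      exact hxL hmem
    rfl
  have hcompl : ∀ D : Subgroup G, ctr P ≤ D → Nat.card {x : D // (x : G) ∉ ctr P} = Nat.card D - 3 := by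
    intro D hD
    letI := Fintype.ofFinite D
    rw [Nat.card_eq_fintype_card, Fintype.card_subtype_compl, ← Nat.card_eq_fintype_card,
      ← Nat.card_eq_fintype_card]
    congr 1
    rw [← hZ]
    exact Nat.card_congr (subgroupOfEquivOfLe hD).toEquiv
  have := Nat.card_le_card_of_injective f hinj
  rw [Nat.card_sigma, hcompl _ (fun z hz => (mem_ctr.1 hz).1), h.card_three,
    Finset.sum_congr rfl fun (D : {D // D ∈ F}) _ =>
      (hcompl D.1 (hH.ctr_le (hF D.1 D.2).1 (hF D.1 D.2).2)).trans (by rw [(hF D.1 D.2).2]),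
    Finset.sum_const, Finset.card_univ, Fintype.card_coe, smul_eq_mul] at this
  omega

/-- The stabiliser of a plane in `T` has index at most `4`. -/
theorem HeisData.stab_plane {h : Hyp G} (hH : HeisData h P) {T : Subgroup G} (hC : Compl P T) {D : Subgroup G}
    (hDP : D ≤ (P : Subgroup G)) (hD : Nat.card D = 9) :
    Nat.card T ≤ 4 * Nat.card ↥(T ⊓ normalizer (D : Set G)) := by
  classical
  let F := (Set.toFinite {E : Subgroup G | E ≤ (P : Subgroup G) ∧ Nat.card E = 9}).toFinset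
  have hF : F.card ≤ 4 := hH.card_planes_le F fun E hE => by simpa [F] using hE
  have := card_le_mul_stab T (normalizer (D : Set G))
    (fun t => (⟨MulAut.conj (t : G) • D, by
      simp only [F, Set.Finite.mem_toFinset, Set.mem_setOf_eq]
      refine ⟨?_, (Nat.card_congr (equivSMul (MulAut.conj (t : G)) D).toEquiv).symm.trans hD⟩
      have := (pointwise_smul_le_pointwise_smul_iff (a := MulAut.conj (t : G))).2 hDP
      rwa [conj_smul_eq_self (hC.le t.2)] at this⟩ : {E // E ∈ F})) fun a b e => by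
    have e' : MulAut.conj (a : G) • D = MulAut.conj (b : G) • D := congrArg Subtype.val e
    have e2 : MulAut.conj ((a : G)⁻¹ * b) • D = D := by
      rw [map_mul, mul_smul, ← e', ← mul_smul, ← map_mul, inv_mul_cancel, map_one, one_smul]
    refine mem_normalizer_iff.2 fun y => ?_
    conv_rhs => rw [← e2, mem_pointwise_smul_iff_inv_smul_mem]
    simp [MulAut.smul_def, ← map_inv, mul_assoc]
  rw [Nat.card_eq_finsetCard] at this
  exact this.trans (Nat.mul_le_mul_right _ hF)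

/-- The order of the normalizer of a plane. -/
theorem HeisData.card_normalizer_plane {h : Hyp G} (hH : HeisData h P) {T : Subgroup G} (hC : Compl P T)
    {D : Subgroup G} (hDP : D ≤ (P : Subgroup G)) (hD : Nat.card D = 9) :
    Nat.card (Sylow 3 ↥(normalizer (D : Set G))) ∈ ({1, 4, 16} : Finset ℕ) ∧
      Nat.card (Sylow 3 ↥(normalizer (D : Set G))) * (27 * Nat.card ↥(T ⊓ normalizer (D : Set G))) ≤ 864 := by
  obtain ⟨h1, h2, h3⟩ := h.loc P (j := 2) (by norm_num) (hD.trans (by norm_num)) le_rfl (h.plane hDP hD).1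
  refine ⟨h1, le_trans (Nat.mul_le_mul_left _ ?_) (h2 ▸ h3)⟩
  have hd : Disjoint (P : Subgroup G) (T ⊓ normalizer (D : Set G)) := by
    rw [disjoint_iff]
    refine eq_bot_of_card_eq _ (Nat.dvd_one.1 ?_)
    obtain ⟨m, hm⟩ := IsPGroup.iff_card.1 hC.two
    have ha : Nat.card ↥((P : Subgroup G) ⊓ (T ⊓ normalizer (D : Set G))) ∣ 3 ^ 3 := by
      simpa [h.card_three] using card_dvd_of_le
        (inf_le_left : (P : Subgroup G) ⊓ (T ⊓ normalizer (D : Set G)) ≤ _)
    have hb : Nat.card ↥((P : Subgroup G) ⊓ (T ⊓ normalizer (D : Set G))) ∣ 2 ^ m :=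
      hm ▸ card_dvd_of_le (inf_le_right.trans inf_le_left)
    exact (Nat.dvd_gcd ha hb).trans (by rw [(Nat.Coprime.pow 3 m (by norm_num : Nat.Coprime 3 2))])
  have := Nat.card_le_card_of_injective
    (fun p : ↥(P : Subgroup G) × ↥(T ⊓ normalizer (D : Set G)) =>
      (⟨p.1.1 * p.2.1, mul_mem ((h.plane hDP hD).1 p.1.2) p.2.2.2,
        mul_mem (le_normalizer p.1.2) (hC.le p.2.2.1)⟩ : ↥(normalizer (D : Set G) ⊓ N(P))))
    fun p q e => mul_injective_of_disjoint hd (congrArg Subtype.val e)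
  rwa [Nat.card_prod, h.card_three] at this

end Cfsg.Lib.Recog.G2Two
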