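import Cfsg.Agent.Lib.Recog.G2Two.Data
import Mathlib.Tactic.Ring
import Mathlib.Tactic.IntervalCases
import Mathlib.Data.List.Basic

/-!
# The search on twenty-eight points
-/

set_option autoImplicit false

namespace Cfsg.Lib.Recog.G2Two

/-- The value at `i` of a packed function. -/
def pget (p i : Nat) : Nat := p / 32 ^ i % 32

/-- Pack a list of numbers below `32`. -/
def pack : List Nat → Nat
  | [] => 0
  | a :: l => a + 32 * pack l

theorem pget_pack : ∀ (l : List Nat), (∀ a ∈ l, a < 32) → ∀ i, i < l.length → pget (pack l) i = l.getD i 0
  | [], _, i, hi => absurd hi (by simp)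
  | a :: l, hl, 0, _ => by
    show (a + 32 * pack l) / 32 ^ 0 % 32 = a
    rw [pow_zero, Nat.div_one, Nat.add_mul_mod_self_left, Nat.mod_eq_of_lt (hl a List.mem_cons_self)]
  | a :: l, hl, i + 1, hi => by
    have ih := pget_pack l (fun b hb => hl b (List.mem_cons_of_mem a hb)) i (by simpa using hi)
    show (a + 32 * pack l) / 32 ^ (i + 1) % 32 = l.getD i 0
    rw [pow_succ', ← Nat.div_div_eq_div_mul, Nat.add_mul_div_left _ _ (by norm_num : 0 < 32),
      Nat.div_eq_of_lt (hl a List.mem_cons_self), zero_add]
    exact ih

/-- Composition of packed permutations, written out for fast evaluation. -/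
def pmul (p q : Nat) : Nat :=
  (pget p (pget q 0) +
  32 * (pget p (pget q 1) +
  32 * (pget p (pget q 2) +
  32 * (pget p (pget q 3) +
  32 * (pget p (pget q 4) +
  32 * (pget p (pget q 5) +
  32 * (pget p (pget q 6) +
  32 * (pget p (pget q 7) +
  32 * (pget p (pget q 8) +
  32 * (pget p (pget q 9) +
  32 * (pget p (pget q 10) +
  32 * (pget p (pget q 11) +
  32 * (pget p (pget q 12) +
  32 * (pget p (pget q 13) +
  32 * (pget p (pget q 14) +
  32 * (pget p (pget q 15) +
  32 * (pget p (pget q 16) +
  32 * (pget p (pget q 17) +
  32 * (pget p (pget q 18) +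
  32 * (pget p (pget q 19) +
  32 * (pget p (pget q 20) +
  32 * (pget p (pget q 21) +
  32 * (pget p (pget q 22) +
  32 * (pget p (pget q 23) +
  32 * (pget p (pget q 24) +
  32 * (pget p (pget q 25) +
  32 * (pget p (pget q 26) +
  32 * (pget p (pget q 27) + 32 * 0))))))))))))))))))))))))))))

theorem pmul_eq (p q : Nat) : pmul p q = pack ((List.range 28).map fun i => pget p (pget q i)) := rfl

/-- The product of labels: twisted by the commutator form if `e = 1`. -/
def mulN (e i j : Nat) : Nat :=
  (i % 3 + j % 3) % 3 + 3 * ((i / 3 % 3 + j / 3 % 3) % 3) +
    9 * ((i / 9 + j / 9 + e * (2 * ((i % 3) * (j / 3 % 3)) + (i / 3 % 3) * (j % 3))) % 3)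

/-- The inverse of a label. -/
def invN (i : Nat) : Nat := (3 - i % 3) % 3 + 3 * ((3 - i / 3 % 3) % 3) + 9 * ((3 - i / 9) % 3)

/-- The translation by a label, fixing the last point. -/
def trp (e g : Nat) : Nat := pack ((List.range 28).map fun i => if i == 27 then 27 else mulN e g i)

/-- The tabulated translation. -/
def trt (e g : Nat) : Nat := (transTp.getD e []).getD g 0

theorem trt_eq_all : ([0, 1].all fun e => (List.range 27).all fun g => Nat.beq (trt e g) (trp e g)) = true := by
  decide +kernel

theorem trt_eq {e g : Nat} (he : e < 2) (hg : g < 27) : trt e g = trp e g := by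
  have h := List.all_eq_true.1 trt_eq_all e (by interval_cases e <;> simp)
  exact Nat.eq_of_beq_eq_true (List.all_eq_true.1 h g (List.mem_range.2 hg))

/-- All choices from a list of lists. -/
def choices : List (List Nat) → List (List Nat)
  | [] => [[]]
  | l :: ls => l.flatMap fun a => (choices ls).map (List.cons a)

theorem mem_choices : ∀ {ls : List (List Nat)} {c : List Nat}, c.length = ls.length →
    (∀ i, i < ls.length → c.getD i 0 ∈ ls.getD i []) → c ∈ choices ls
  | [], c, hc, _ => by
    rw [List.length_eq_zero_iff.1 hc]
    exact List.mem_singleton_self []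
  | l :: ls, [], hc, _ => absurd hc (by simp)
  | l :: ls, a :: c, hc, hm => by
    show a :: c ∈ l.flatMap fun a => (choices ls).map (List.cons a)
    refine List.mem_flatMap.2 ⟨a, by simpa using hm 0 (by simp), List.mem_map.2 ⟨c, ?_, rfl⟩⟩
    exact mem_choices (by simpa using hc) fun i hi => by simpa using hm (i + 1) (by simpa using hi)

namespace Model

/-- The group table. -/
def tget (m : Model) (a b : Nat) : Nat := pget m.tbl (16 * a + b)

/-- The permutation number `a`. -/
def perm (m : Model) (a : Nat) : Nat := m.tp.getD a 0

/-- Extend the images of the generators; the result is packed, `len` being the next position. -/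
def extend (m : Model) (im : List Nat) : List (Nat × Nat) → Nat → Nat → Nat
  | [], acc, _ => acc
  | s :: ss, acc, len => extend m im ss (acc + m.tget (pget acc s.1) (im.getD s.2 0) * 32 ^ len) (len + 1)

/-- The packed extension of the images of the generators. -/
def image (m : Model) (im : List Nat) : Nat := m.extend im m.prog 0 1

/-- The extension respects right multiplication by the generators. -/
def autOk (m : Model) (im : List Nat) (f : Nat) : Bool :=
  (List.zip m.gens im).all fun g =>
    [0, 1, 2, 3, 4, 5, 6, 7, 8, 9, 10, 11, 12, 13, 14, 15].all fun a =>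
      Nat.beq (pget f (m.tget a g.1)) (m.tget (pget f a) g.2)

/-- The extension is injective. -/
def injOk (f : Nat) : Bool :=
  Nat.beq ([0, 1, 2, 3, 4, 5, 6, 7, 8, 9, 10, 11, 12, 13, 14, 15].foldl (fun acc a => acc + 2 ^ pget f a) 0) (2 ^ 16 - 1)

/-- Squares and fourth powers vanish together. -/
def powEq (m : Model) (a b : Nat) : Bool :=
  (Nat.beq (m.tget a a) 0 == Nat.beq (m.tget b b) 0) &&
    (Nat.beq (m.tget (m.tget a a) (m.tget a a)) 0 == Nat.beq (m.tget (m.tget b b) (m.tget b b)) 0)

/-- The possible images of a generator. -/
def genOpts (m : Model) (a : Nat) : List Nat :=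
  [0, 1, 2, 3, 4, 5, 6, 7, 8, 9, 10, 11, 12, 13, 14, 15].filter (m.powEq a)

/-- The possible images of an orbit representative. -/
def opts (m : Model) (f : Nat) (r : Nat) : List Nat :=
  (List.range' 1 26).filter fun y =>
    [0, 1, 2, 3, 4, 5, 6, 7, 8, 9, 10, 11, 12, 13, 14, 15].all fun a =>
      Nat.beq (pget (m.perm a) r) r == Nat.beq (pget (m.perm (pget f a)) y) y

/-- The candidate list of images. -/
def build (m : Model) (f : Nat) (sel : List Nat) : List Nat :=
  27 :: (m.coord.map fun c => pget (m.perm (pget f c.1)) (sel.getD c.2 0)) ++ [0]

/-- The word whose value must lie in the stabiliser, at a point. -/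
def word (m : Model) (p g x : Nat) : Nat :=
  pget p (pget (trt m.twist (invN (pget p g))) (pget p (pget (trt m.twist g) (pget p x))))

/-- A function agrees with a member of the complement at three points. -/
def inTp (m : Model) (x y z : Nat) : Bool :=
  m.tp.any fun q => Nat.beq (pget q 1) x && (Nat.beq (pget q 3) y && Nat.beq (pget q 9) z)

/-- The word moved back by a translation lies in the complement. -/
def wordOk (m : Model) (p g : Nat) : Bool :=
  m.inTp (pget (trt m.twist (invN (m.word p g 0))) (m.word p g 1))
    (pget (trt m.twist (invN (m.word p g 0))) (m.word p g 3))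
    (pget (trt m.twist (invN (m.word p g 0))) (m.word p g 9))

/-- The square fixes the two base points, so lies in the complement. -/
def squareOk (m : Model) (p : Nat) : Bool :=
  m.inTp (pget p (pget p 1)) (pget p (pget p 3)) (pget p (pget p 9))

/-- The list consists of distinct numbers. -/
def permOk (l : List Nat) : Bool := Nat.beq (l.foldl (fun acc a => acc + 2 ^ a) 0) (2 ^ 28 - 1)

/-- A candidate is excluded or known. -/
def candOk (m : Model) (l : List Nat) : Bool :=
  !(permOk l) || !(m.squareOk (pack l)) || !(m.wordOk (pack l) 1) || !(m.wordOk (pack l) 10) ||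
    m.surv.contains (pack l)

/-- `y` lies in the orbit of one of the chosen points. -/
def used (m : Model) (sel : List Nat) (y : Nat) : Bool :=
  sel.any fun z => [0, 1, 2, 3, 4, 5, 6, 7, 8, 9, 10, 11, 12, 13, 14, 15].any fun a => Nat.beq (pget (m.perm a) z) y

/-- All choices of images of the remaining representatives, in distinct orbits. -/
def selOk (m : Model) (f : Nat) : List Nat → List Nat → Bool
  | [], sel => m.candOk (m.build f sel)
  | r :: rs, sel => (m.opts f r).all fun y => m.used sel y || selOk m f rs (sel ++ [y])

/-- All choices with the first representative sent to a representative (composing the swap with an element of the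
complement allows this). -/
def selStart (m : Model) (f : Nat) : Bool :=
  match m.reps with
  | [] => false
  | r :: rs => ((m.opts f r).filter fun y => m.reps.any (Nat.beq y)).all fun y => m.selOk f rs [y]

/-- The search for given images of the generators. -/
def searchAt (m : Model) (im : List Nat) : Bool :=
  !(m.autOk im (m.image im)) || !(injOk (m.image im)) || m.selStart (m.image im)

/-- The whole search. -/
def search (m : Model) : Bool := (choices (m.gens.map m.genOpts)).all m.searchAt

end Model

theorem search_He : modelH.search = true := by decide +kernel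

theorem search_001 : model001.search = true := by decide +kernel

theorem search_010 : model010.search = true := by decide +kernel

theorem search_011 : model011.search = true := by decide +kernel

theorem search_100 : model100.search = true := by decide +kernel

theorem search_101 : model101.search = true := by decide +kernel

theorem search_110 : model110.search = true := by decide +kernel

theorem search_111 : model111.search = true := by decide +kernel

end Cfsg.Lib.Recog.G2Two
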