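import Cfsg.Agent.Lib.Recog.G2Two.NEq
import Cfsg.Agent.Lib.Recog.G2Two.Search
import Cfsg.Agent.Lib.Recog.HeisThree
import Mathlib.LinearAlgebra.Matrix.GeneralLinearGroup.Card

/-!
# Labels on the Sylow `3`-subgroup and the possible complements
-/

set_option autoImplicit false
set_option linter.style.haveILetI false
set_option linter.unusedSectionVars false

namespace Cfsg.Lib.Recog.G2Two

open Subgroup MulAction Pointwise Matrix

universe u

theorem mulN_lt (e i j : ℕ) : mulN e i j < 27 := by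
  unfold mulN
  omega

/-- The product of labels. -/
def mulF (e : ℕ) (i j : Fin 27) : Fin 27 := ⟨mulN e i j, mulN_lt e i j⟩

/-- The first two coordinates of a label. -/
def vecTwo (i : Fin 27) : Fin 2 → ZMod 3 := ![(i.1 % 3 : ℕ), (i.1 / 3 % 3 : ℕ)]

/-- All coordinates of a label. -/
def vecThree (i : Fin 27) : Fin 3 → ZMod 3 := ![(i.1 % 3 : ℕ), (i.1 / 3 % 3 : ℕ), (i.1 / 9 : ℕ)]

theorem vecTwo_mul : ∀ i j : Fin 27, vecTwo (mulF 1 i j) = vecTwo i + vecTwo j := by decide +kernel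

theorem vecThree_mul : ∀ i j : Fin 27, vecThree (mulF 0 i j) = vecThree i + vecThree j := by decide +kernel

theorem vecThree_inj : ∀ i j : Fin 27, vecThree i = vecThree j → i = j := by decide +kernel

/-- Powers of labels. -/
def pwF (e : ℕ) (i : Fin 27) : ℕ → Fin 27
  | 0 => 0
  | n + 1 => mulF e (pwF e i n) i

theorem spanned : ∀ e : Fin 2, ∀ i : Fin 27, ∃ x y w : Fin 3,
    i = mulF e (mulF e (pwF e 1 x) (pwF e 3 y)) (pwF e 9 w) := by decide +kernel

theorem nine_eq : (9 : Fin 27) = mulF 1 (mulF 1 1 3) (pwF 1 (mulF 1 3 1) 2) ∨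
    (9 : Fin 27) = mulF 1 (mulF 1 3 1) (pwF 1 (mulF 1 1 3) 2) := by decide +kernel

/-- The automorphisms of the table. -/
def autF (e : ℕ) : Subgroup (Equiv.Perm (Fin 27)) where
  carrier := {σ | ∀ i j, σ (mulF e i j) = mulF e (σ i) (σ j)}
  one_mem' := fun _ _ => rfl
  mul_mem' := by
    intro a b ha hb i j
    show a (b (mulF e i j)) = mulF e (a (b i)) (a (b j))
    rw [hb, ha]
  inv_mem' := by
    intro a ha i j
    apply a.injective
    rw [ha, Equiv.Perm.coe_inv, a.apply_symm_apply, a.apply_symm_apply, a.apply_symm_apply]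

theorem mem_autF {e : ℕ} {σ : Equiv.Perm (Fin 27)} :
    σ ∈ autF e ↔ ∀ i j, σ (mulF e i j) = mulF e (σ i) (σ j) := Iff.rfl

theorem mulF_zero : ∀ (e : Fin 2) (i : Fin 27), mulF e i 0 = i ∧ mulF e 0 i = i := by decide +kernel

theorem idem : ∀ (e : Fin 2) (i : Fin 27), mulF e i i = i → i = 0 := by decide +kernel

theorem autF_zero (e : Fin 2) {σ : Equiv.Perm (Fin 27)} (hσ : σ ∈ autF e) : σ 0 = 0 := by
  refine idem e _ ?_
  rw [← hσ, (mulF_zero e 0).1]

theorem autF_pw (e : Fin 2) {σ : Equiv.Perm (Fin 27)} (hσ : σ ∈ autF e) (i : Fin 27) :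
    ∀ n, σ (pwF e i n) = pwF e (σ i) n
  | 0 => autF_zero e hσ
  | n + 1 => by
    show σ (mulF e (pwF e i n) i) = mulF e (pwF e (σ i) n) (σ i)
    rw [hσ, autF_pw e hσ i n]

/-- Two additive coordinates agree when they agree on the three generators. -/
theorem coord_ext (e : Fin 2) {n : ℕ} {f g : Fin 27 → Fin n → ZMod 3}
    (hf : ∀ i j, f (mulF e i j) = f i + f j) (hg : ∀ i j, g (mulF e i j) = g i + g j)
    (h1 : f 1 = g 1) (h3 : f 3 = g 3) (h9 : f 9 = g 9) (i : Fin 27) : f i = g i := by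
  have hz : ∀ {v : Fin 27 → Fin n → ZMod 3}, (∀ i j, v (mulF e i j) = v i + v j) → v 0 = 0 := fun {v} hv => by
    have e0 := hv 0 0
    rw [(mulF_zero e 0).1] at e0
    exact left_eq_add.1 e0
  have hpw : ∀ {v : Fin 27 → Fin n → ZMod 3}, (∀ i j, v (mulF e i j) = v i + v j) → ∀ k m,
      v (pwF e k m) = m • v k := fun {v} hv k m => by
    induction m with
    | zero => rw [zero_smul]; exact hz hv
    | succ m ih => rw [show pwF e k (m + 1) = mulF e (pwF e k m) k from rfl, hv, ih, succ_nsmul]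
  obtain ⟨x, y, w, hi⟩ := spanned e i
  rw [hi, hf, hf, hg, hg, hpw hf, hpw hf, hpw hf, hpw hg, hpw hg, hpw hg, h1, h3, h9]

theorem vecTwo_nine {σ : Equiv.Perm (Fin 27)} (hσ : σ ∈ autF 1) : vecTwo (σ 9) = 0 := by
  have h3 : ∀ v : Fin 2 → ZMod 3, v + v + v = 0 := by decide +kernel
  have hz : vecTwo (σ 0) = 0 := by rw [autF_zero (1 : Fin 2) hσ]; decide +kernel
  have hm : ∀ i j, vecTwo (σ (mulF 1 i j)) = vecTwo (σ i) + vecTwo (σ j) := fun i j => by
    rw [hσ, vecTwo_mul]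
  have hp : ∀ i, vecTwo (σ (pwF 1 i 2)) = vecTwo (σ i) + vecTwo (σ i) := fun i => by
    show vecTwo (σ (mulF 1 (mulF 1 0 i) i)) = _
    rw [hm, hm, hz, zero_add]
  rcases nine_eq with e | e <;> rw [e, hm, hm, hp, hm]
  · calc vecTwo (σ 1) + vecTwo (σ 3) + (vecTwo (σ 3) + vecTwo (σ 1) + (vecTwo (σ 3) + vecTwo (σ 1)))
        = (vecTwo (σ 1) + vecTwo (σ 1) + vecTwo (σ 1)) + (vecTwo (σ 3) + vecTwo (σ 3) + vecTwo (σ 3)) := by abel
      _ = 0 := by rw [h3, h3, add_zero]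
  · calc vecTwo (σ 3) + vecTwo (σ 1) + (vecTwo (σ 1) + vecTwo (σ 3) + (vecTwo (σ 1) + vecTwo (σ 3)))
        = (vecTwo (σ 1) + vecTwo (σ 1) + vecTwo (σ 1)) + (vecTwo (σ 3) + vecTwo (σ 3) + vecTwo (σ 3)) := by abel
      _ = 0 := by rw [h3, h3, add_zero]

/-- The matrix of an automorphism of the Heisenberg table on the first two coordinates. -/
def matTwo (σ : Equiv.Perm (Fin 27)) : Matrix (Fin 2) (Fin 2) (ZMod 3) :=
  Matrix.of fun r c => vecTwo (σ (![1, 3] c)) r

/-- The matrix of an automorphism of the componentwise table. -/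
def matThree (σ : Equiv.Perm (Fin 27)) : Matrix (Fin 3) (Fin 3) (ZMod 3) :=
  Matrix.of fun r c => vecThree (σ (![1, 3, 9] c)) r

theorem matTwo_spec {σ : Equiv.Perm (Fin 27)} (hσ : σ ∈ autF 1) (i : Fin 27) :
    vecTwo (σ i) = matTwo σ *ᵥ vecTwo i := by
  refine coord_ext (1 : Fin 2) (f := fun i => vecTwo (σ i)) (g := fun i => matTwo σ *ᵥ vecTwo i)
    (fun a b => ?_) (fun a b => ?_) ?_ ?_ ?_ i
  · show vecTwo (σ (mulF 1 a b)) = _
    rw [hσ, vecTwo_mul]
  · show matTwo σ *ᵥ vecTwo (mulF 1 a b) = _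
    rw [vecTwo_mul, mulVec_add]
  · show vecTwo (σ 1) = matTwo σ *ᵥ vecTwo 1
    rw [show vecTwo 1 = Pi.single 0 1 by decide +kernel, mulVec_single_one]
    rfl
  · show vecTwo (σ 3) = matTwo σ *ᵥ vecTwo 3
    rw [show vecTwo 3 = Pi.single 1 1 by decide +kernel, mulVec_single_one]
    rfl
  · show vecTwo (σ 9) = matTwo σ *ᵥ vecTwo 9
    rw [show vecTwo 9 = 0 by decide +kernel, mulVec_zero, vecTwo_nine hσ]

theorem matThree_spec {σ : Equiv.Perm (Fin 27)} (hσ : σ ∈ autF 0) (i : Fin 27) :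
    vecThree (σ i) = matThree σ *ᵥ vecThree i := by
  refine coord_ext (0 : Fin 2) (f := fun i => vecThree (σ i)) (g := fun i => matThree σ *ᵥ vecThree i)
    (fun a b => ?_) (fun a b => ?_) ?_ ?_ ?_ i
  · show vecThree (σ (mulF 0 a b)) = _
    rw [hσ, vecThree_mul]
  · show matThree σ *ᵥ vecThree (mulF 0 a b) = _
    rw [vecThree_mul, mulVec_add]
  · show vecThree (σ 1) = matThree σ *ᵥ vecThree 1
    rw [show vecThree 1 = Pi.single 0 1 by decide +kernel, mulVec_single_one]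
    rfl
  · show vecThree (σ 3) = matThree σ *ᵥ vecThree 3
    rw [show vecThree 3 = Pi.single 1 1 by decide +kernel, mulVec_single_one]
    rfl
  · show vecThree (σ 9) = matThree σ *ᵥ vecThree 9
    rw [show vecThree 9 = Pi.single 2 1 by decide +kernel, mulVec_single_one]
    rfl

/-- The linear action on the first two coordinates. -/
def linTwo : autF 1 →* Matrix (Fin 2) (Fin 2) (ZMod 3) where
  toFun σ := matTwo σ
  map_one' := by decide +kernel
  map_mul' a b := by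
    refine Matrix.ext fun r c => ?_
    show vecTwo ((a.1 * b.1) (![1, 3] c)) r = (matTwo a.1 * matTwo b.1) r c
    rw [Equiv.Perm.mul_apply, matTwo_spec a.2]
    rfl

/-- The linear action on all coordinates. -/
def linThree : autF 0 →* Matrix (Fin 3) (Fin 3) (ZMod 3) where
  toFun σ := matThree σ
  map_one' := by decide +kernel
  map_mul' a b := by
    refine Matrix.ext fun r c => ?_
    show vecThree ((a.1 * b.1) (![1, 3, 9] c)) r = (matThree a.1 * matThree b.1) r c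
    rw [Equiv.Perm.mul_apply, matThree_spec a.2]
    rfl

theorem central_mul : ∀ k : Fin 27, k.1 % 9 = 0 → ∀ j : Fin 27, mulF 1 j k = mulF 1 k j := by decide +kernel

theorem central_comm : ∀ k l : Fin 27, k.1 % 9 = 0 → l.1 % 9 = 0 →
    mulF 1 (mulF 1 (mulF 1 1 k) (mulF 1 3 l)) (pwF 1 (mulF 1 (mulF 1 3 l) (mulF 1 1 k)) 2) =
      mulF 1 (mulF 1 1 3) (pwF 1 (mulF 1 3 1) 2) ∧
    mulF 1 (mulF 1 (mulF 1 3 l) (mulF 1 1 k)) (pwF 1 (mulF 1 (mulF 1 1 k) (mulF 1 3 l)) 2) =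
      mulF 1 (mulF 1 3 1) (pwF 1 (mulF 1 1 3) 2) := by decide +kernel

theorem same_vecTwo : ∀ i j : Fin 27, vecTwo i = vecTwo j → ∃ k : Fin 27, k.1 % 9 = 0 ∧ i = mulF 1 j k := by
  decide +kernel

theorem central_pw : ∀ (c j k : Fin 27), c.1 % 9 = 0 → mulF 1 (mulF 1 j k) c = mulF 1 j (mulF 1 k c) := by
  decide +kernel

theorem two_pow_central : ∀ (c : Fin 27), c.1 % 9 = 0 → pwF 1 c 3 = 0 ∧ (pwF 1 c 2 = 0 → c = 0) := by
  decide +kernel

theorem mul_central_cancel : ∀ (j c : Fin 27), mulF 1 j c = j → c = 0 := by decide +kernel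

/-- A `2`-element acting trivially on the first two coordinates is trivial. -/
theorem eq_one_of_linTwo {σ : Equiv.Perm (Fin 27)} (hσ : σ ∈ autF 1) {m : ℕ} (hm : σ ^ 2 ^ m = 1)
    (h1 : matTwo σ = 1) : σ = 1 := by
  have hvec : ∀ i, vecTwo (σ i) = vecTwo i := fun i => by rw [matTwo_spec hσ, h1, one_mulVec]
  obtain ⟨k, hk, ek⟩ := same_vecTwo _ _ (hvec 1)
  obtain ⟨l, hl, el⟩ := same_vecTwo _ _ (hvec 3)
  have h9 : σ 9 = 9 := by
    have hpw : ∀ i, σ (pwF 1 i 2) = pwF 1 (σ i) 2 := fun i => autF_pw (1 : Fin 2) hσ i 2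
    rcases nine_eq with e | e <;> conv_lhs => rw [e, hσ, hσ, hpw, hσ, ek, el]
    · rw [(central_comm k l hk hl).1, ← e]
    · rw [(central_comm k l hk hl).2, ← e]
  have hfix : ∀ c : Fin 27, c.1 % 9 = 0 → σ c = c := by
    intro c hc
    have hcases : ∀ c : Fin 27, c.1 % 9 = 0 → c = 0 ∨ c = 9 ∨ c = mulF 1 9 9 := by decide +kernel
    rcases hcases c hc with rfl | rfl | rfl
    · exact autF_zero (1 : Fin 2) hσ
    · exact h9
    · rw [hσ, h9]
  have hpc : ∀ (c : Fin 27), c.1 % 9 = 0 → ∀ n, (pwF 1 c n).1 % 9 = 0 := by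
    intro c hc n
    induction n with
    | zero => rfl
    | succ n ih =>
      have key : ∀ a b : Fin 27, a.1 % 9 = 0 → b.1 % 9 = 0 → (mulF 1 a b).1 % 9 = 0 := by decide +kernel
      exact key _ _ ih hc
  have hcz : ∀ (c : Fin 27), c.1 % 9 = 0 → ∀ n, pwF 1 c n = pwF 1 c (n % 3) := by
    intro c hc n
    induction n using Nat.strong_induction_on with
    | _ n ih =>
      by_cases hn : n < 3
      · rw [Nat.mod_eq_of_lt hn]
      obtain ⟨q, rfl⟩ : ∃ q, n = q + 3 := ⟨n - 3, by omega⟩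
      rw [Nat.add_mod_right, ← ih q (by omega)]
      have h0 := (two_pow_central c hc).1
      have hq := hpc c hc q
      have key : ∀ a b : Fin 27, a.1 % 9 = 0 → b.1 % 9 = 0 → mulF 1 (mulF 1 (mulF 1 a b) b) b = a := by
        decide +kernel
      exact key _ _ hq hc
  have hmove : ∀ j c : Fin 27, c.1 % 9 = 0 → σ j = mulF 1 j c → σ j = j := by
    intro j c hc e
    have hn : ∀ n, (σ ^ n) j = mulF 1 j (pwF 1 c n) := by
      intro n
      induction n with
      | zero => exact ((mulF_zero (1 : Fin 2) j).1).symm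
      | succ n ih =>
        rw [pow_succ', Equiv.Perm.mul_apply, ih, hσ, e, hfix _ (hpc c hc n)]
        have key : ∀ a b : Fin 27, a.1 % 9 = 0 → b.1 % 9 = 0 →
            ∀ j, mulF 1 (mulF 1 j a) b = mulF 1 j (mulF 1 b a) := by decide +kernel
        exact key c (pwF 1 c n) hc (hpc c hc n) j
    have h2 := hn (2 ^ m)
    rw [hm, Equiv.Perm.one_apply, hcz c hc] at h2
    have hp := mul_central_cancel j _ h2.symm
    have hne : 2 ^ m % 3 ≠ 0 := fun e0 =>
      absurd (Nat.prime_three.dvd_of_dvd_pow (Nat.dvd_of_mod_eq_zero e0)) (by norm_num)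
    have hc0 : c = 0 := by
      rcases show 2 ^ m % 3 = 1 ∨ 2 ^ m % 3 = 2 by omega with e1 | e1
      · rw [e1] at hp
        rwa [show pwF 1 c 1 = mulF 1 0 c from rfl, show mulF 1 0 c = c from (mulF_zero (1 : Fin 2) c).2] at hp
      · rw [e1] at hp; exact (two_pow_central c hc).2 hp
    rw [e, hc0]
    exact (mulF_zero (1 : Fin 2) j).1
  have h1' := hmove 1 k hk ek
  have h3' := hmove 3 l hl el
  refine Equiv.ext fun i => ?_
  obtain ⟨x, y, w, rfl⟩ := spanned (1 : Fin 2) i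
  show σ (mulF 1 (mulF 1 (pwF 1 1 x) (pwF 1 3 y)) (pwF 1 9 w)) = _
  rw [hσ, hσ, show σ (pwF 1 1 x) = pwF 1 (σ 1) x from autF_pw (1 : Fin 2) hσ 1 x,
    show σ (pwF 1 3 y) = pwF 1 (σ 3) y from autF_pw (1 : Fin 2) hσ 3 y,
    show σ (pwF 1 9 w) = pwF 1 (σ 9) w from autF_pw (1 : Fin 2) hσ 9 w]
  show mulF 1 (mulF 1 (pwF 1 (σ 1) x) (pwF 1 (σ 3) y)) (pwF 1 (σ 9) w) = _
  rw [h1', h3', h9]
  rfl

/-- The `2`-subgroups of the automorphism group of the Heisenberg table. -/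
theorem two_subgroup_le {S : Subgroup (Equiv.Perm (Fin 27))} (hS : S ≤ autF 1) (h2 : IsPGroup 2 S) :
    Nat.card S ≤ 16 := by
  haveI : Fact (Nat.Prime 3) := ⟨Nat.prime_three⟩
  let f : S →* GL (Fin 2) (ZMod 3) := (linTwo.comp (Subgroup.inclusion hS)).toHomUnits
  have hf : Function.Injective f := (injective_iff_map_eq_one f).2 fun s hs => by
    obtain ⟨m, hm⟩ := h2 s
    refine Subtype.ext (eq_one_of_linTwo (hS s.2) (congrArg Subtype.val hm) ?_)
    exact congrArg Units.val hs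
  have hd := card_dvd_of_injective f hf
  rw [Matrix.card_GL_field, ZMod.card, Fin.prod_univ_two] at hd
  norm_num at hd
  obtain ⟨m, hm⟩ := IsPGroup.iff_card.1 h2
  rw [hm] at hd ⊢
  have hm4 : m ≤ 4 := by
    by_contra hlt
    have := (pow_dvd_pow 2 (show 5 ≤ m by omega)).trans hd
    norm_num at this
  exact le_trans (Nat.pow_le_pow_right (by norm_num) hm4) (by norm_num)

/-- The `2`-subgroups of the automorphism group of the componentwise table. -/
theorem two_subgroup_le' {S : Subgroup (Equiv.Perm (Fin 27))} (hS : S ≤ autF 0) (h2 : IsPGroup 2 S) :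
    Nat.card S ≤ 32 := by
  haveI : Fact (Nat.Prime 3) := ⟨Nat.prime_three⟩
  let f : S →* GL (Fin 3) (ZMod 3) := (linThree.comp (Subgroup.inclusion hS)).toHomUnits
  have hf : Function.Injective f := (injective_iff_map_eq_one f).2 fun s hs => by
    refine Subtype.ext (Equiv.ext fun i => vecThree_inj _ _ ?_)
    rw [matThree_spec (hS s.2), show matThree (s : Equiv.Perm (Fin 27)) = 1 from congrArg Units.val hs, one_mulVec]
    rfl
  have hd := card_dvd_of_injective f hf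
  rw [Matrix.card_GL_field, ZMod.card, Fin.prod_univ_three] at hd
  norm_num at hd
  obtain ⟨m, hm⟩ := IsPGroup.iff_card.1 h2
  rw [hm] at hd ⊢
  have hm5 : m ≤ 5 := by
    by_contra hlt
    have := (pow_dvd_pow 2 (show 6 ≤ m by omega)).trans hd
    norm_num at this
  exact le_trans (Nat.pow_le_pow_right (by norm_num) hm5) (by norm_num)

/-- Conjugation into a largest `2`-subgroup. -/
theorem conj_into_largest {A : Type*} [Group A] [Finite A] {B S₀ S : Subgroup A} {k : ℕ} (h0 : S₀ ≤ B)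
    (hS : S ≤ B) (hc : Nat.card S₀ = 2 ^ k) (hmax : ∀ R : Subgroup A, R ≤ B → IsPGroup 2 R → Nat.card R ≤ 2 ^ k)
    (h2 : IsPGroup 2 S) : ∃ σ ∈ B, ∀ s ∈ S, σ * s * σ⁻¹ ∈ S₀ := by
  haveI : Fact (Nat.Prime 2) := ⟨Nat.prime_two⟩
  obtain ⟨R₀, hR₀⟩ := ((IsPGroup.of_card hc).comap_of_injective B.subtype B.subtype_injective :
    IsPGroup 2 ↥(S₀.subgroupOf B)).exists_le_sylow
  obtain ⟨R, hR⟩ := (h2.comap_of_injective B.subtype B.subtype_injective :
    IsPGroup 2 ↥(S.subgroupOf B)).exists_le_sylow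
  have hR₀' : (R₀ : Subgroup B) ≤ S₀.subgroupOf B := by
    refine (eq_of_le_of_card_ge hR₀ ?_).ge
    have := hmax ((R₀ : Subgroup B).map B.subtype) (map_subtype_le _) (R₀.isPGroup'.map _)
    rwa [← Nat.card_congr (equivMapOfInjective _ _ B.subtype_injective).toEquiv, ← hc,
      ← Nat.card_congr (subgroupOfEquivOfLe h0).toEquiv] at this
  obtain ⟨σ, hσ⟩ := MulAction.exists_smul_eq B R R₀
  refine ⟨σ, σ.2, fun s hs => ?_⟩
  have hm : σ * ⟨s, hS hs⟩ * σ⁻¹ ∈ ((σ • R : Sylow 2 B) : Subgroup B) := by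
    rw [Sylow.coe_subgroup_smul]
    exact ⟨⟨s, hS hs⟩, hR hs, rfl⟩
  rw [hσ] at hm
  exact hR₀' hm

end Cfsg.Lib.Recog.G2Two
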