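import Cfsg.Agent.Lib.Recog.G2Two.Basic
import Cfsg.Agent.Lib.Recog.G2Two.Counting
import Cfsg.Agent.S4226
import Mathlib.GroupTheory.IndexNormal
import Mathlib.GroupTheory.SchurZassenhaus
import Mathlib.Algebra.Group.Subgroup.Pointwise

/-!
# The Sylow `3`-subgroups of the group to be recognised: first facts
-/

set_option autoImplicit false
set_option linter.style.haveILetI false

namespace Cfsg.Lib.Recog.G2Two

open Subgroup MulAction Pointwise

universe u

variable {G : Type u} [Group G]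

section

variable [Finite G] [Fact (Nat.Prime 3)]

local notation "N(" P ")" => normalizer ((P : Subgroup G) : Set G)

theorem Hyp.card_three (h : Hyp G) (P : Sylow 3 G) : Nat.card (P : Subgroup G) = 27 := by
  simpa using card_syl 3 448 (h.card.trans (by norm_num)) (by norm_num) P

theorem Hyp.pow_three (h : Hyp G) (P : Sylow 3 G) {x : G} (hx : x ∈ (P : Subgroup G)) : x ^ 3 = 1 := by
  have hd : orderOf x ∣ 3 ^ 3 := by
    have := orderOf_dvd_natCard (⟨x, hx⟩ : (P : Subgroup G))
    rwa [h.card_three, orderOf_mk] at this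
  obtain ⟨i, hi, he⟩ := (Nat.dvd_prime_pow Nat.prime_three).1 hd
  refine orderOf_dvd_iff_pow_eq_one.1 ?_
  rw [he]
  by_contra hne
  have h9 : 9 ∣ orderOf x := by
    rw [he]
    refine (pow_dvd_pow 3 (show 2 ≤ i from ?_) : 3 ^ 2 ∣ 3 ^ i)
    by_contra hlt
    exact hne (pow_dvd_pow 3 (show i ≤ 1 by omega) |>.trans (by norm_num))
  exact h.no9 _ (orderOf_pow_orderOf_div (orderOf_pos x).ne' h9)

/-- A subgroup normalising a nontrivial `3`-subgroup has order prime to `7`. -/
theorem Hyp.not_seven_dvd (h : Hyp G) {S H : Subgroup G} {j : ℕ} (hj : j ≠ 0) (hS : Nat.card S = 3 ^ j)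
    (hH : H ≤ normalizer (S : Set G)) : ¬ 7 ∣ Nat.card H := by
  intro hd
  haveI : Fact (Nat.Prime 7) := ⟨prime_seven⟩
  obtain ⟨⟨y, hy⟩, hy7⟩ := exists_prime_orderOf_dvd_card' 7 hd
  rw [← orderOf_coe] at hy7
  exact h.not_normalize_three hy7 hj hS (hH hy)

theorem card_normalizer_mul (h : Hyp G) (P : Sylow 3 G) : Nat.card (Sylow 3 G) * Nat.card N(P) = 12096 := by
  rw [show Nat.card (Sylow 3 G) = (N(P)).index from P.card_eq_index_normalizer, index_mul_card, h.card]

/-- The subgroup generated by the elements of order prime to `3` of the normalizer is the normalizer. -/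
theorem Hyp.pResidualOf_normalizer (h : Hyp G) (P : Sylow 3 G) :
    Cfsg.pResidualOf 3 N(P) = N(P) := by
  have hcl : (P : Subgroup G).lowerCentralSeries (3 - 1) = ⊥ := by
    have hP := h.card_three P
    haveI : Nontrivial (P : Subgroup G) := Finite.one_lt_card_iff_nontrivial.1 (by rw [hP]; norm_num)
    have hquot : ∀ a b : (P : Subgroup G), (a * b * a⁻¹ * b⁻¹) ∈ center (P : Subgroup G) := by
      intro a b
      obtain ⟨k, hk, hc⟩ := IsPGroup.card_center_eq_prime_pow (p := 3) (n := 3) (G := (P : Subgroup G))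
        (by rw [hP]; norm_num) (by norm_num)
      have hcard := card_eq_card_quotient_mul_card_subgroup (center (P : Subgroup G))
      rw [hP, hc] at hcard
      have hd : Nat.card ((P : Subgroup G) ⧸ center (P : Subgroup G)) ∣ 3 ^ 2 := by
        obtain ⟨i, rfl⟩ : ∃ i, k = i + 1 := ⟨k - 1, by omega⟩
        refine ⟨3 ^ i, Nat.eq_of_mul_eq_mul_left (by norm_num : 0 < 3) ?_⟩
        rw [show 3 * 3 ^ 2 = 27 by norm_num, hcard, pow_succ]; ring
      obtain ⟨i, hi, hi'⟩ := (Nat.dvd_prime_pow Nat.prime_three).1 hd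
      have hab : ∀ u v : (P : Subgroup G) ⧸ center (P : Subgroup G), u * v = v * u := by
        interval_cases i
        · intro u v
          haveI : Subsingleton ((P : Subgroup G) ⧸ center (P : Subgroup G)) :=
            Finite.card_le_one_iff_subsingleton.1 (by rw [hi']; norm_num)
          exact Subsingleton.elim _ _
        · intro u v
          haveI := isCyclic_of_prime_card (p := 3) (by rw [hi', pow_one] :
            Nat.card ((P : Subgroup G) ⧸ center (P : Subgroup G)) = 3)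
          letI : CommGroup ((P : Subgroup G) ⧸ center (P : Subgroup G)) := IsCyclic.commGroup
          exact mul_comm u v
        · exact fun u v => (IsPGroup.isMulCommutative_of_card_eq_prime_sq hi').is_comm.comm u v
      rw [← QuotientGroup.eq_one_iff, QuotientGroup.mk_mul, QuotientGroup.mk_mul, QuotientGroup.mk_mul,
        QuotientGroup.mk_inv, QuotientGroup.mk_inv, hab (a : (P : Subgroup G) ⧸ center (P : Subgroup G)) b,
        mul_inv_cancel_right, mul_inv_cancel]
    have h2 : (⊤ : Subgroup (P : Subgroup G)).lowerCentralSeries 2 = ⊥ := by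
      rw [Subgroup.lowerCentralSeries_succ, eq_bot_iff, commutator_le]
      intro g hg x _
      have hgc : g ∈ center (P : Subgroup G) := by
        have hle : (⊤ : Subgroup (P : Subgroup G)).lowerCentralSeries 1 ≤ center (P : Subgroup G) := by
          rw [Subgroup.lowerCentralSeries_succ, commutator_le]
          exact fun a _ b _ => hquot a b
        exact hle hg
      rw [mem_bot, commutatorElement_eq_one_iff_mul_comm]
      exact (mem_center_iff.1 hgc x).symm
    have hmap : ((⊤ : Subgroup (P : Subgroup G)).lowerCentralSeries 2).map (P : Subgroup G).subtype =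
        (P : Subgroup G).lowerCentralSeries 2 := by
      simp only [Subgroup.lowerCentralSeries_succ, Subgroup.lowerCentralSeries_zero, map_commutator,
        ← MonoidHom.range_eq_map, range_subtype]
    show (P : Subgroup G).lowerCentralSeries 2 = ⊥
    rw [← hmap, h2, Subgroup.map_bot]
  rw [Cfsg.Agent.S4226.result P hcl, h.pResidual_three, top_inf_eq]

/-- A complement `T` to the Sylow subgroup `P` in its normalizer. -/
structure Compl (P : Sylow 3 G) (T : Subgroup G) : Prop where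
  le : T ≤ N(P)
  card : Nat.card T * 27 = Nat.card N(P)
  two : IsPGroup 2 T
  dec : ∀ g ∈ N(P), ∃ x ∈ (P : Subgroup G), ∃ t ∈ T, g = x * t
  conj : ∀ g ∈ N(P), (∃ k : ℕ, g ^ (2 ^ k) = 1) → ∃ x ∈ (P : Subgroup G), x * g * x⁻¹ ∈ T

/-- A Sylow `2`-subgroup of the normalizer is a complement to `P`. -/
theorem Hyp.exists_complement (h : Hyp G) (P : Sylow 3 G) : ∃ T : Subgroup G, Compl P T := by
  haveI : Fact (Nat.Prime 2) := ⟨Nat.prime_two⟩
  have hP := h.card_three P
  have hle : (P : Subgroup G) ≤ N(P) := le_normalizer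
  have h7 : ¬ 7 ∣ Nat.card N(P) := h.not_seven_dvd (j := 3) (by norm_num) (by rw [hP]; norm_num) le_rfl
  have hN3 : 27 ∣ Nat.card N(P) := hP ▸ card_dvd_of_le hle
  obtain ⟨i, j, hi, hj, hc⟩ := dvd_cases (h.card ▸ card_subgroup_dvd_card N(P)) h7
  have hj3 : j = 3 := by
    by_contra hne
    have h32 : 3 ^ 3 ∣ 2 ^ i * 3 ^ j := by rw [← hc]; exact hN3
    have := Nat.le_of_dvd (pow_pos (by norm_num) j)
      ((Nat.Coprime.pow 3 i (by norm_num : Nat.Coprime 3 2)).dvd_of_dvd_mul_left h32)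
    have := (Nat.pow_le_pow_iff_right (by norm_num : 1 < 3)).1 this
    omega
  subst hj3
  obtain ⟨S⟩ : Nonempty (Sylow 2 N(P)) := inferInstance
  have hS : Nat.card (S : Subgroup N(P)) = 2 ^ i :=
    card_syl i 27 (hc.trans (by norm_num)) (by norm_num) S
  have hcomp : IsComplement' ((P : Subgroup G).subgroupOf N(P)) (S : Subgroup N(P)) := by
    refine isComplement'_of_coprime ?_ ?_
    · rw [Nat.card_congr (subgroupOfEquivOfLe hle).toEquiv, hP, hS, hc]; ring
    · rw [Nat.card_congr (subgroupOfEquivOfLe hle).toEquiv, hP, hS]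
      exact (Nat.Coprime.pow 3 i (by norm_num : Nat.Coprime 3 2))
  have hdec : ∀ g : N(P), ∃ x ∈ (P : Subgroup G), ∃ t ∈ (S : Subgroup N(P)), (g : G) = x * t := fun g => by
    obtain ⟨⟨⟨x, hx⟩, ⟨t, ht⟩⟩, e⟩ := hcomp.2 g
    exact ⟨x, hx, t, ht, by rw [← e]; rfl⟩
  refine ⟨(S : Subgroup N(P)).map N(P).subtype, map_subtype_le _, ?_, ?_, fun g hg => ?_, fun g hg hk => ?_⟩
  · rw [Nat.card_congr (equivMapOfInjective _ _ N(P).subtype_injective).toEquiv.symm, hS, hc]
    norm_num
  · exact S.isPGroup'.map _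
  · obtain ⟨x, hx, t, ht, e⟩ := hdec ⟨g, hg⟩
    exact ⟨x, hx, t, ⟨t, ht, rfl⟩, e⟩
  · obtain ⟨k, hk⟩ := hk
    have hpg : IsPGroup 2 (zpowers (⟨g, hg⟩ : N(P))) := by
      obtain ⟨m, -, hm⟩ := (Nat.dvd_prime_pow Nat.prime_two).1
        (orderOf_dvd_of_pow_eq_one hk : orderOf g ∣ 2 ^ k)
      exact IsPGroup.of_card (n := m) (by rw [Nat.card_zpowers, orderOf_mk, hm])
    obtain ⟨S', hS'⟩ := hpg.exists_le_sylow
    obtain ⟨c, rfl⟩ := MulAction.exists_smul_eq N(P) S S'
    obtain ⟨s, hs, he⟩ := hS' (mem_zpowers (⟨g, hg⟩ : N(P)))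
    obtain ⟨x, hx, t, ht, e⟩ := hdec c
    refine ⟨x⁻¹, inv_mem hx, t * s * t⁻¹, mul_mem (mul_mem ht hs) (inv_mem ht), ?_⟩
    have e' : (c : G) * s * (c : G)⁻¹ = g := congrArg Subtype.val he
    rw [← e', e]
    simp [mul_assoc]

/-- **Transfer**: no proper subgroup of `P` normal in the normalizer has a quotient centralised by all its
`2`-elements. -/
theorem Hyp.transfer (h : Hyp G) (P : Sylow 3 G) {T : Subgroup G} (hC : Compl P T)
    {M : Subgroup G} (hMP : M ≤ (P : Subgroup G)) (hne : M ≠ (P : Subgroup G)) (hPM : (P : Subgroup G) ≤ normalizer (M : Set G))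
    (hTM : T ≤ normalizer (M : Set G)) (htriv : ∀ t ∈ T, ∀ x ∈ (P : Subgroup G), t * x * t⁻¹ * x⁻¹ ∈ M) :
    False := by
  have hres := h.pResidualOf_normalizer P
  have hT := hC.le
  have hW : (M ⊔ T : Subgroup G) = N(P) := by
    refine le_antisymm (sup_le (hMP.trans le_normalizer) hT) ?_
    have hle : Cfsg.pResidualOf 3 N(P) ≤ M ⊔ T := by
      rw [Cfsg.pResidualOf, map_le_iff_le_comap]
      refine (closure_le _).2 fun g hg => ?_
      have h7 : ¬ 7 ∣ Nat.card N(P) :=
        h.not_seven_dvd (j := 3) (by norm_num) (by rw [h.card_three]; norm_num) le_rfl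
      obtain ⟨i, j, -, -, hij⟩ := dvd_cases (h.card ▸ card_subgroup_dvd_card N(P)) h7
      have hd : orderOf g ∣ 2 ^ i :=
        (Nat.Coprime.pow_right j hg).dvd_of_dvd_mul_right (hij ▸ orderOf_dvd_natCard g)
      obtain ⟨x, hx, hxg⟩ := hC.conj g g.2 ⟨i, by
        rw [← orderOf_dvd_iff_pow_eq_one, orderOf_coe]; exact hd⟩
      show (g : G) ∈ M ⊔ T
      set t := x * (g : G) * x⁻¹ with ht
      have : (g : G) = (x⁻¹ * t * x * t⁻¹) * t := by rw [ht]; group
      rw [this]
      refine mul_mem (mem_sup_left ?_) (mem_sup_right hxg)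
      have hm : t * x * t⁻¹ * x⁻¹ ∈ M := htriv t hxg x hx
      have h2 := (mem_normalizer_iff.1 (inv_mem (hPM hx)) _).1 hm
      rw [show x⁻¹ * t * x * t⁻¹ = x⁻¹ * (t * x * t⁻¹ * x⁻¹) * x⁻¹⁻¹ by group]
      exact h2
    exact hres.symm.le.trans hle
  -- so `P` is contained in `M`
  refine hne (le_antisymm hMP fun x hx => ?_)
  have hxW : x ∈ M ⊔ T := hW ▸ le_normalizer hx
  obtain ⟨m, hm, t, ht, rfl⟩ : ∃ m ∈ M, ∃ t ∈ T, x = m * t := by
    have e : ((M ⊔ T : Subgroup G) : Set G) = (M : Set G) * (T : Set G) := coe_mul_of_right_le_normalizer_left _ _ hTM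
    obtain ⟨m, hm, t, ht, e'⟩ := Set.mem_mul.1 (e ▸ hxW : x ∈ (M : Set G) * (T : Set G))
    exact ⟨m, hm, t, ht, e'.symm⟩
  have htP : t ∈ (P : Subgroup G) := by
    simpa using mul_mem (inv_mem (hMP hm)) hx
  suffices ht2 : t = 1 by rw [ht2, mul_one]; exact hm
  obtain ⟨k, hk⟩ := (IsPGroup.iff_orderOf.1 hC.two) ⟨t, ht⟩
  rw [orderOf_mk] at hk
  have hd : orderOf t ∣ 3 := orderOf_dvd_of_pow_eq_one (h.pow_three P htP)
  rw [hk] at hd
  refine orderOf_eq_one_iff.1 ?_
  rw [hk]
  exact Nat.dvd_one.1 ((Nat.Coprime.pow_left k (by norm_num : Nat.Coprime 2 3)).dvd_of_dvd_mul_right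
    (by rwa [one_mul] : 2 ^ k ∣ 1 * 3))

end

end Cfsg.Lib.Recog.G2Two
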