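import Cfsg.Agent.Lib.Recog.G2Two.Case112Ab
import Cfsg.Agent.Lib.Recog.G2Two.HeDistinct

/-!
# There are twenty-eight Sylow `3`-subgroups
-/

set_option autoImplicit false
set_option linter.style.haveILetI false
set_option linter.unusedSectionVars false

namespace Cfsg.Lib.Recog.G2Two

universe u

variable {G : Type u} [Group G] [Finite G] [Fact (Nat.Prime 3)]

/-- **There are twenty-eight Sylow `3`-subgroups.** -/
theorem Hyp.card_sylow_three (h : Hyp G) : Nat.card (Sylow 3 G) = 28 := by
  obtain ⟨P⟩ : Nonempty (Sylow 3 G) := inferInstance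
  obtain ⟨T, hC⟩ := h.exists_complement P
  rcases h.n_cases P hC with ⟨e, -⟩ | ⟨e, -⟩
  · exact e
  exfalso
  by_cases hab : ∀ x ∈ (P : Subgroup G), ∀ y ∈ (P : Subgroup G), x * y = y * x
  · exact h.abelian_not_112 hab e
  · obtain ⟨D, o⟩ := HeisData.exists_onePlane (h := h) ⟨hab⟩ e hC
    by_cases hS : SameCentre P D
    · exact o.not_same h hS
    · exact o.not_distinct h hS

end Cfsg.Lib.Recog.G2Two
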