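import Cfsg.Agent.Lib.Recog.G2Two.Local

/-!
# Intersections of Sylow `3`-subgroups
-/

set_option autoImplicit false
set_option linter.style.haveILetI false
set_option linter.unusedSectionVars false

namespace Cfsg.Lib.Recog.G2Two

open Subgroup MulAction Pointwise

universe u

variable {G : Type u} [Group G] [Finite G] [Fact (Nat.Prime 3)]

local notation "N(" P ")" => normalizer ((P : Subgroup G) : Set G)

/-- The Sylow subgroups other than `P` meeting it in a subgroup of order `k`. -/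
abbrev meetCard (P : Sylow 3 G) (k : ℕ) : Type u :=
  {Q : Sylow 3 G // Q ≠ P ∧ Nat.card ↥((P : Subgroup G) ⊓ (Q : Subgroup G)) = k}

theorem Hyp.card_inter (h : Hyp G) {P Q : Sylow 3 G} (hne : Q ≠ P) :
    Nat.card ↥((P : Subgroup G) ⊓ (Q : Subgroup G)) ∈ ({1, 3, 9} : Finset ℕ) := by
  have hd : Nat.card ↥((P : Subgroup G) ⊓ (Q : Subgroup G)) ∣ 3 ^ 3 := by
    simpa [h.card_three] using card_dvd_of_le (inf_le_left : (P : Subgroup G) ⊓ (Q : Subgroup G) ≤ _)
  obtain ⟨i, hi, he⟩ := (Nat.dvd_prime_pow Nat.prime_three).1 hd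
  have h3 : i ≠ 3 := by
    rintro rfl
    refine hne (Sylow.ext (eq_of_le_of_card_ge ?_ (by rw [h.card_three, h.card_three]))).symm
    exact (eq_of_le_of_card_ge inf_le_left (by rw [h.card_three, he]; norm_num) :
      (P : Subgroup G) ⊓ (Q : Subgroup G) = P) ▸ inf_le_right
  rw [he]
  interval_cases i <;> first | (exact absurd rfl h3) | simp

/-- The points of the action of `P` all of whose stabilisers have order `k` come in orbits of length `27 / k`. -/
theorem Hyp.meetCard_dvd (h : Hyp G) (P : Sylow 3 G) (k : ℕ) : 27 / k ∣ Nat.card (meetCard P k) := by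
  classical
  letI : MulAction (P : Subgroup G) (meetCard P k) :=
    { smul := fun g Q => ⟨(g : G) • Q.1, fun e => Q.2.1 (by
          rw [← smul_left_cancel_iff (g : G), e, Sylow.smul_eq_iff_mem_normalizer.2 (le_normalizer g.2)]),
        by rw [smul_inf_eq (le_normalizer g.2)]
           exact (Nat.card_congr (equivSMul (MulAut.conj (g : G)) _).toEquiv).symm.trans Q.2.2⟩
      one_smul := fun Q => Subtype.ext (one_smul G Q.1)
      mul_smul := fun a b Q => Subtype.ext (mul_smul (a : G) (b : G) Q.1) }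
  letI : Fintype (MulAction.orbitRel.Quotient (P : Subgroup G) (meetCard P k)) := Fintype.ofFinite _
  rw [Nat.card_congr (selfEquivSigmaOrbitsQuotientStabilizer (P : Subgroup G) (meetCard P k)), Nat.card_sigma]
  refine Finset.dvd_sum fun ω _ => ?_
  rw [← Subgroup.index_eq_card]
  set Q : meetCard P k := Quotient.out ω
  have hst : stabilizer (P : Subgroup G) Q =
      ((P : Subgroup G) ⊓ (Q.1 : Subgroup G)).subgroupOf (P : Subgroup G) := by
    ext g
    rw [mem_stabilizer_iff, mem_subgroupOf]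
    have h2 : (P : Subgroup G) ⊓ N(Q.1) = (P : Subgroup G) ⊓ (Q.1 : Subgroup G) :=
      P.isPGroup'.inf_normalizer_sylow Q.1
    constructor
    · intro e
      rw [← h2]
      exact ⟨g.2, Sylow.smul_eq_iff_mem_normalizer.1 (congrArg Subtype.val e)⟩
    · intro e
      exact Subtype.ext (Sylow.smul_eq_iff_mem_normalizer.2 (le_normalizer e.2))
  rw [hst]
  have e := (((P : Subgroup G) ⊓ (Q.1 : Subgroup G)).subgroupOf (P : Subgroup G)).index_mul_card
  rw [Nat.card_congr (subgroupOfEquivOfLe inf_le_left).toEquiv, Q.2.2, h.card_three] at e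
  have hk : 0 < k := Q.2.2 ▸ Nat.card_pos
  rw [← e, Nat.mul_div_cancel _ hk]

theorem Hyp.card_split (h : Hyp G) (P : Sylow 3 G) :
    Nat.card (Sylow 3 G) = 1 + Nat.card (meetCard P 9) + Nat.card (meetCard P 3) + Nat.card (meetCard P 1) := by
  classical
  letI := Fintype.ofFinite (Sylow 3 G)
  simp only [Nat.card_eq_fintype_card]
  have e : (Finset.univ : Finset (Sylow 3 G)) = insert P
      (Finset.univ.filter (fun Q : Sylow 3 G => Q ≠ P ∧ Nat.card ↥((P : Subgroup G) ⊓ (Q : Subgroup G)) = 9) ∪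
      (Finset.univ.filter (fun Q : Sylow 3 G => Q ≠ P ∧ Nat.card ↥((P : Subgroup G) ⊓ (Q : Subgroup G)) = 3) ∪
      Finset.univ.filter (fun Q : Sylow 3 G => Q ≠ P ∧ Nat.card ↥((P : Subgroup G) ⊓ (Q : Subgroup G)) = 1))) := by
    ext Q
    simp only [Finset.mem_univ, Finset.mem_insert, Finset.mem_union, Finset.mem_filter, true_and, true_iff]
    by_cases hQ : Q = P
    · exact Or.inl hQ
    · have := h.card_inter hQ
      simp only [Finset.mem_insert, Finset.mem_singleton] at this
      tauto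
  rw [← Finset.card_univ, e, Finset.card_insert_of_notMem (by simp), Finset.card_union_of_disjoint ?_,
    Finset.card_union_of_disjoint ?_, Fintype.card_subtype, Fintype.card_subtype, Fintype.card_subtype]
  · ring
  · rw [Finset.disjoint_left]
    intro Q h1 h2
    simp only [Finset.mem_filter] at h1 h2
    omega
  · rw [Finset.disjoint_left]
    intro Q h1 h2
    simp only [Finset.mem_union, Finset.mem_filter] at h1 h2
    omega

/-- The Sylow subgroups of a subgroup normalising a nontrivial `3`-subgroup. -/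
theorem Hyp.loc (h : Hyp G) (P : Sylow 3 G) {S H : Subgroup G} {j : ℕ} (hj : j ≠ 0) (hS : Nat.card S = 3 ^ j)
    (hHS : H ≤ normalizer (S : Set G)) (hP : (P : Subgroup G) ≤ H) :
    Nat.card (Sylow 3 H) ∈ ({1, 4, 16} : Finset ℕ) ∧
      Nat.card H = Nat.card (Sylow 3 H) * Nat.card ↥(H ⊓ N(P)) ∧ Nat.card H ≤ 864 := by
  have h7 := h.not_seven_dvd hj hS hHS
  have hle := h.card_le h7
  have e := card_eq_mul_card_sylow H P hP
  refine ⟨?_, e, hle⟩
  have h27 : 27 ≤ Nat.card ↥(H ⊓ N(P)) := (h.card_three P) ▸ card_le_of_le (le_inf hP le_normalizer)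
  have hn : Nat.card (Sylow 3 H) ≤ 32 := by
    by_contra hlt
    have := Nat.mul_le_mul (show 33 ≤ Nat.card (Sylow 3 H) by omega) h27
    omega
  have hd : Nat.card (Sylow 3 H) ∣ 12096 :=
    (e ▸ dvd_mul_right _ _ : Nat.card (Sylow 3 H) ∣ Nat.card H).trans (h.card ▸ card_subgroup_dvd_card H)
  have hd7 : ¬ 7 ∣ Nat.card (Sylow 3 H) := fun hh => h7 (e ▸ hh.trans (dvd_mul_right _ _))
  have hm : Nat.card (Sylow 3 H) % 3 = 1 := card_sylow_modEq_one 3 H
  obtain ⟨i, j', hi, -, he⟩ := dvd_cases hd hd7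
  have hj0 : j' = 0 := by
    by_contra hne
    obtain ⟨m, rfl⟩ := Nat.exists_eq_succ_of_ne_zero hne
    rw [he, pow_succ, ← mul_assoc, Nat.mul_mod_left] at hm
    exact absurd hm (by norm_num)
  subst hj0
  rw [he, pow_zero, mul_one] at hn hm ⊢
  interval_cases i <;> simp_all

/-- The number of Sylow `3`-subgroups. -/
theorem Hyp.n_cases (h : Hyp G) (P : Sylow 3 G) {T : Subgroup G} (hC : Compl P T) :
    (Nat.card (Sylow 3 G) = 28 ∧ Nat.card T = 16) ∨ (Nat.card (Sylow 3 G) = 112 ∧ Nat.card T = 4) := by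
  have e := card_normalizer_mul h P
  rw [← hC.card] at e
  have h7 : ¬ 7 ∣ Nat.card T := fun hd => h.not_seven_dvd (j := 3) (by norm_num)
    (by rw [h.card_three]; norm_num) (H := N(P)) (S := (P : Subgroup G)) le_rfl
    (hC.card ▸ hd.mul_right 27)
  have hle := h.card_le (h.not_seven_dvd (j := 3) (by norm_num)
    (by rw [h.card_three]; norm_num) (H := N(P)) (S := (P : Subgroup G)) le_rfl)
  rw [← hC.card] at hle
  obtain ⟨m, hm⟩ := IsPGroup.iff_card.1 hC.two
  rw [hm] at e hle h7 ⊢
  have hmod : Nat.card (Sylow 3 G) % 3 = 1 := card_sylow_modEq_one 3 G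
  have hm5 : m ≤ 5 := by
    by_contra hlt
    have := Nat.pow_le_pow_right (show 0 < 2 by norm_num) (show 6 ≤ m by omega)
    omega
  have hm0 : m ≠ 0 := by
    rintro rfl
    have hT : T = ⊥ := eq_bot_of_card_eq T (by simpa using hm)
    refine h.transfer P hC bot_le (fun eq => ?_) (by rw [normalizer_eq_top (⊥ : Subgroup G)]; exact le_top)
      (by rw [normalizer_eq_top (⊥ : Subgroup G)]; exact le_top) fun t ht x _ => ?_
    · have := h.card_three P
      rw [← eq, card_bot] at this
      omega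
    · rw [hT, mem_bot] at ht
      simp [ht]
  interval_cases m <;> omega

/-- A conjugation fixing an element of order `3` modulo a centralised subgroup fixes it. -/
theorem eq_one_of_series {t m : G} {x : G} {k : ℕ} (ht : t ^ 2 ^ k = 1) (hx : t * x * t⁻¹ = x * m)
    (hm : t * m * t⁻¹ = m) (h3 : m ^ 3 = 1) : m = 1 := by
  have hpow : ∀ i : ℕ, t ^ i * x * (t ^ i)⁻¹ = x * m ^ i := by
    intro i
    induction i with
    | zero => simp
    | succ i ih =>
      calc t ^ (i + 1) * x * (t ^ (i + 1))⁻¹ = t * (t ^ i * x * (t ^ i)⁻¹) * t⁻¹ := by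
            rw [pow_succ', mul_inv_rev]; group
        _ = t * x * t⁻¹ * (t * m ^ i * t⁻¹) := by rw [ih]; group
        _ = x * m * (t * m * t⁻¹) ^ i := by rw [hx, conj_pow]
        _ = x * m ^ (i + 1) := by rw [hm, pow_succ', mul_assoc]
  have := hpow (2 ^ k)
  rw [ht, one_mul, inv_one, mul_one] at this
  have h2 : m ^ 2 ^ k = 1 := left_eq_mul.1 this
  exact orderOf_eq_one_iff.1 (Nat.dvd_one.1 ((Nat.dvd_gcd (orderOf_dvd_of_pow_eq_one h2)
    (orderOf_dvd_of_pow_eq_one h3)).trans (by rw [(Nat.Coprime.pow_left k (by norm_num : Nat.Coprime 2 3))])))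

/-- Subgroups of order `9` of a Sylow subgroup are abelian and normal in it. -/
theorem Hyp.plane (h : Hyp G) {P : Sylow 3 G} {D : Subgroup G} (hDP : D ≤ (P : Subgroup G))
    (hD : Nat.card D = 9) :
    (P : Subgroup G) ≤ normalizer (D : Set G) ∧ ∀ x ∈ D, ∀ y ∈ D, x * y = y * x := by
  constructor
  · have hi : (D.subgroupOf (P : Subgroup G)).index = 3 := by
      have e := (D.subgroupOf (P : Subgroup G)).index_mul_card
      rw [Nat.card_congr (subgroupOfEquivOfLe hDP).toEquiv, hD, h.card_three] at e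
      omega
    exact (normal_subgroupOf_iff_le_normalizer hDP).1
      (normal_of_index_eq_minFac_card (by rw [hi, h.card_three]; norm_num))
  · intro x hx y hy
    haveI : IsMulCommutative D := IsPGroup.isMulCommutative_of_card_eq_prime_sq (p := 3) (by rw [hD]; norm_num)
    exact congrArg Subtype.val (mul_comm' (⟨x, hx⟩ : D) ⟨y, hy⟩)

/-- The Sylow subgroups through a plane are those of its normalizer. -/
theorem Hyp.plane_fib (h : Hyp G) (P : Sylow 3 G) {D : Subgroup G} (hDP : D ≤ (P : Subgroup G))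
    (hD : Nat.card D = 9) :
    Nat.card (fib P D) + 1 = Nat.card (Sylow 3 ↥(normalizer (D : Set G))) := by
  classical
  rw [← card_sylow_le (normalizer (D : Set G)) P (h.plane hDP hD).1]
  have hiff : ∀ Q : Sylow 3 G, (Q : Subgroup G) ≤ normalizer (D : Set G) ↔ D ≤ (Q : Subgroup G) := fun Q =>
    ⟨fun hQ => le_of_normal_le (IsPGroup.of_card (n := 2) (by rw [hD]; norm_num)) hQ,
      fun hQ => (h.plane hQ hD).1⟩
  rw [Nat.card_congr (Equiv.subtypeEquivRight hiff), card_containing P hDP]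
  congr 1
  refine Nat.card_congr (Equiv.subtypeEquivRight fun Q => ⟨fun hQ => ⟨hQ.1, hQ.2 ▸ inf_le_right⟩,
    fun hQ => ⟨hQ.1, (eq_of_le_of_card_ge (le_inf hDP hQ.2) ?_).symm⟩⟩)
  have := h.card_inter hQ.1
  simp only [Finset.mem_insert, Finset.mem_singleton] at this
  rw [hD]; omega

/-- The planes through which another Sylow subgroup passes. -/
noncomputable def planes (P : Sylow 3 G) : Finset (Subgroup G) := by
  classical
  exact (Set.toFinite {D : Subgroup G | D ≤ (P : Subgroup G) ∧ Nat.card D = 9 ∧ Nonempty (fib P D)}).toFinset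

theorem mem_planes {P : Sylow 3 G} {D : Subgroup G} :
    D ∈ planes P ↔ D ≤ (P : Subgroup G) ∧ Nat.card D = 9 ∧ Nonempty (fib P D) := by
  simp [planes]

theorem card_meet_nine (P : Sylow 3 G) :
    Nat.card (meetCard P 9) = ∑ D ∈ planes P, Nat.card (fib P D) := by
  classical
  let e : (Σ D : {D // D ∈ planes P}, fib P D.1) ≃ meetCard P 9 :=
    { toFun := fun x => ⟨x.2.1, x.2.2.1, by rw [x.2.2.2]; exact (mem_planes.1 x.1.2).2.1⟩
      invFun := fun Q => ⟨⟨(P : Subgroup G) ⊓ (Q.1 : Subgroup G),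
        mem_planes.2 ⟨inf_le_left, Q.2.2, ⟨⟨Q.1, Q.2.1, rfl⟩⟩⟩⟩, ⟨Q.1, Q.2.1, rfl⟩⟩
      left_inv := by
        rintro ⟨⟨D, hD⟩, ⟨Q, hQ, (hQD : (P : Subgroup G) ⊓ (Q : Subgroup G) = D)⟩⟩
        cases hQD
        rfl
      right_inv := fun Q => rfl }
  rw [← Nat.card_congr e, Nat.card_sigma]
  exact Finset.sum_coe_sort (planes P) fun D => Nat.card (fib P D)

/-- The normalizer permutes the planes. -/
theorem smul_mem_planes {P : Sylow 3 G} {g : G} (hg : g ∈ N(P)) {D : Subgroup G} (hD : D ∈ planes P) :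
    MulAut.conj g • D ∈ planes P := by
  obtain ⟨h1, h2, ⟨Q⟩⟩ := mem_planes.1 hD
  refine mem_planes.2 ⟨?_, ?_, ⟨⟨g • Q.1, fun e => Q.2.1 (by
    rw [← smul_left_cancel_iff g, e, Sylow.smul_eq_iff_mem_normalizer.2 hg]), by
      rw [smul_inf_eq hg, Q.2.2]⟩⟩⟩
  · have : MulAut.conj g • D ≤ MulAut.conj g • (P : Subgroup G) := pointwise_smul_le_pointwise_smul_iff.2 h1
    rwa [conj_smul_eq_self hg] at this
  · rw [← h2]; exact (Nat.card_congr (equivSMul (MulAut.conj g) D).toEquiv).symm

end Cfsg.Lib.Recog.G2Two
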