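import Cfsg.Agent.Lib.Recog.G2Two.Free28

/-!
# A subgroup of order `432` acting on its cosets
-/

set_option autoImplicit false
set_option linter.style.haveILetI false
set_option linter.unusedSectionVars false

namespace Cfsg.Lib.Recog.G2Two

open Subgroup MulAction Pointwise

universe u

variable {G : Type u} [Group G] [Finite G] [Fact (Nat.Prime 3)]

local notation "N(" P ")" => normalizer ((P : Subgroup G) : Set G)

/-- `v` fixes only the coset `X` itself. -/
def Alone (X : Subgroup G) (v : G) : Prop := ∀ g : G, g⁻¹ * v * g ∈ X → g ∈ X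

theorem Alone.conj {X : Subgroup G} {v x : G} (hv : Alone X v) (hx : x ∈ X) : Alone X (x * v * x⁻¹) := by
  intro g hg
  have := hv (x⁻¹ * g) (by rwa [show (x⁻¹ * g)⁻¹ * v * (x⁻¹ * g) = g⁻¹ * (x * v * x⁻¹) * g by group])
  simpa using mul_mem hx this

theorem Alone.centralizer_le {X : Subgroup G} {v : G} (hv : Alone X v) (hvX : v ∈ X) :
    centralizer ({v} : Set G) ≤ X := fun g hg => hv g (by
  rw [mul_assoc, ← mem_centralizer_singleton_iff.1 hg, ← mul_assoc, inv_mul_cancel, one_mul]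
  exact hvX)

theorem card_sup_mul {A B : Subgroup G} (hB : B ≤ normalizer (A : Set G)) :
    Nat.card ↥(A ⊔ B) * Nat.card ↥(A ⊓ B) = Nat.card A * Nat.card B := by
  have h1 := Cfsg.Lib.Core.card_mul_relIndex (le_sup_left : A ≤ A ⊔ B)
  have h2 := Cfsg.Lib.Core.card_mul_relIndex (inf_le_right : A ⊓ B ≤ B)
  haveI : (A.subgroupOf (A ⊔ B)).Normal :=
    (normal_subgroupOf_iff_le_normalizer le_sup_left).2 (sup_le le_normalizer hB)
  have h3 : A.relIndex (A ⊔ B) = A.relIndex B := by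
    rw [← relIndex_subgroupOf (le_sup_right : B ≤ A ⊔ B), relIndex, ← relIndex_top_right,
      ← subgroupOf_self (H := A ⊔ B), subgroupOf_sup le_sup_left le_sup_right,
      sup_comm (A.subgroupOf (A ⊔ B)), relIndex_sup_right]
  rw [inf_relIndex_right] at h2
  rw [← h1, h3, mul_assoc, mul_comm (A.relIndex B), h2]

/-- A subgroup containing a Sylow subgroup is transitive on those it contains. -/
theorem exists_conj_sylow {X : Subgroup G} {P Q : Sylow 3 G} (hP : (P : Subgroup G) ≤ X)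
    (hQ : (Q : Subgroup G) ≤ X) : ∃ x ∈ X, x • P = Q := by
  obtain ⟨x, hx⟩ := MulAction.exists_smul_eq X (P.subtype hP) (Q.subtype hQ)
  rw [Sylow.smul_subtype] at hx
  exact ⟨x, x.2, Sylow.subtype_injective hx⟩

/-- Elements of order `3` of a subgroup containing `P` are conjugate in it into `P`. -/
theorem exists_conj_into {X : Subgroup G} {P : Sylow 3 G} (hP : (P : Subgroup G) ≤ X) {a : G} (haX : a ∈ X)
    (ha : a ^ 3 = 1) : ∃ x ∈ X, x * a * x⁻¹ ∈ (P : Subgroup G) := by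
  have hpg : IsPGroup 3 (zpowers (⟨a, haX⟩ : X)) := by
    obtain ⟨m, -, hm⟩ := (Nat.dvd_prime_pow Nat.prime_three).1
      (orderOf_dvd_of_pow_eq_one (by rw [pow_one]; exact ha) : orderOf a ∣ 3 ^ 1)
    exact IsPGroup.of_card (n := m) (by rw [Nat.card_zpowers, orderOf_mk, hm])
  obtain ⟨S, hS⟩ := hpg.exists_le_sylow
  obtain ⟨x, hx⟩ := MulAction.exists_smul_eq X (P.subtype hP) S
  subst hx
  obtain ⟨b, hb, e⟩ := hS (mem_zpowers (⟨a, haX⟩ : X))
  refine ⟨(x : G)⁻¹, inv_mem x.2, ?_⟩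
  have e' : (x : G) * b * (x : G)⁻¹ = a := congrArg Subtype.val e
  rw [← e']
  simpa [mul_assoc, mem_subgroupOf] using hb

theorem mem_point_stabilizer {X : Subgroup G} {a g : G} :
    a ∈ X ⊓ MulAut.conj g • X ↔ a ∈ X ∧ g⁻¹ * a * g ∈ X := by
  rw [mem_inf, mem_pointwise_smul_iff_inv_smul_mem]
  simp [MulAut.smul_def, ← map_inv]

/-- The orbit of a coset under the subgroup itself. -/
theorem coset_orbit (X : Subgroup G) (g : G) :
    (orbit X (g : G ⧸ X)).ncard * Nat.card ↥(X ⊓ MulAut.conj g • X) = Nat.card X := by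
  rw [← index_stabilizer]
  have e : stabilizer X (g : G ⧸ X) = (X ⊓ MulAut.conj g • X).subgroupOf X := by
    ext a
    rw [mem_stabilizer_iff, mem_subgroupOf, mem_point_stabilizer]
    show ((((a : G) * g : G) : G ⧸ X) = (g : G ⧸ X)) ↔ _
    rw [eq_comm, QuotientGroup.eq, ← mul_assoc, and_iff_right a.2]
  rw [e, ← Nat.card_congr (subgroupOfEquivOfLe (inf_le_left : X ⊓ MulAut.conj g • X ≤ X)).toEquiv, index_mul_card]

theorem coset_orbit_ne {X : Subgroup G} {g : G} (hg : g ∉ X) {c : G ⧸ X} (hc : c ∈ orbit X (g : G ⧸ X)) :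
    c ≠ ((1 : G) : G ⧸ X) := by
  obtain ⟨a, rfl⟩ := hc
  intro e
  have e' : (((a : G) * g : G) : G ⧸ X) = ((1 : G) : G ⧸ X) := e
  rw [QuotientGroup.eq, mul_one, inv_mem_iff] at e'
  exact hg (by simpa using mul_mem (inv_mem a.2) e')

theorem index_eq (h : Hyp G) {X : Subgroup G} (hX : Nat.card X = 432) : Nat.card (G ⧸ X) = 28 := by
  have e := X.index_mul_card
  rw [hX, h.card, index_eq_card] at e
  omega

theorem others_ncard (h : Hyp G) {X : Subgroup G} (hX : Nat.card X = 432) :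
    ({c : G ⧸ X | c ≠ ((1 : G) : G ⧸ X)}).ncard = 27 := by
  rw [show {c : G ⧸ X | c ≠ ((1 : G) : G ⧸ X)} = ({((1 : G) : G ⧸ X)} : Set (G ⧸ X))ᶜ by ext; simp,
    Set.ncard_compl, Set.ncard_singleton, index_eq h hX]

theorem Hyp.card_point_stabilizer (h : Hyp G) {X : Subgroup G} (hX : Nat.card X = 432) {g : G} (hg : g ∉ X) :
    16 ≤ Nat.card ↥(X ⊓ MulAut.conj g • X) := by
  have e := coset_orbit X g
  have hle : (orbit X (g : G ⧸ X)).ncard ≤ ({c : G ⧸ X | c ≠ ((1 : G) : G ⧸ X)}).ncard :=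
    Set.ncard_le_ncard (fun c hc => coset_orbit_ne hg hc) (Set.toFinite _)
  rw [others_ncard h hX] at hle
  rw [hX] at e
  by_contra hlt
  have := Nat.mul_le_mul hle (show Nat.card ↥(X ⊓ MulAut.conj g • X) ≤ 15 by omega)
  omega

/-- A subgroup of index at most `2` contains the squares. -/
theorem sq_mem_of_large {X A : Subgroup G} (hX : Nat.card X = 432) (hA : A ≤ X) (h216 : 216 ≤ Nat.card A) {a : G}
    (ha : a ∈ X) : a ^ 2 ∈ A := by
  have e := (A.subgroupOf X).index_mul_card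
  rw [Nat.card_congr (subgroupOfEquivOfLe hA).toEquiv, hX] at e
  have h1 : (A.subgroupOf X).index ≤ 2 := by
    by_contra hlt
    have := Nat.mul_le_mul (show 3 ≤ (A.subgroupOf X).index by omega) h216
    omega
  have h0 : (A.subgroupOf X).index ≠ 0 := index_ne_zero_of_finite
  rcases show (A.subgroupOf X).index = 1 ∨ (A.subgroupOf X).index = 2 by omega with h1 | h2
  · have : (⟨a, ha⟩ : X) ^ 2 ∈ A.subgroupOf X := by rw [index_eq_one.1 h1]; exact mem_top _
    exact this
  · exact sq_mem_of_index_two h2 (⟨a, ha⟩ : X)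

/-- **The semiregularity lemma**. -/
theorem Hyp.semiregular_absurd (h : Hyp G) {X D M : Subgroup G} {c x : G} (hX : Nat.card X = 432)
    (hD : Nat.card D = 9) (hXD : X ≤ normalizer (D : Set G)) (hDX : D ≤ X) (hXM : X ≤ normalizer (M : Set G))
    (hMX : M ≤ X) (hDM : D ≤ M) (hMD : M ≤ centralizer (D : Set G)) (hM27 : ¬ 27 ∣ Nat.card M)
    (hc : c ∈ M) (hxX : x ∈ X) (hx : x ^ 3 = 1) (hw : (c * x * c⁻¹ * x⁻¹) ^ 9 ≠ 1)
    (hR : ∀ g : G, g ∉ X → X ⊓ MulAut.conj g • X ⊓ D = ⊥ ∨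
      (48 ≤ Nat.card ↥(X ⊓ MulAut.conj g • X) ∧ Nat.card ↥(X ⊓ MulAut.conj g • X ⊓ D) ≤ 3)) : False := by
  set w := c * x * c⁻¹ * x⁻¹ with hwdef
  have hwM : w ∈ M := by
    rw [hwdef, show c * x * c⁻¹ * x⁻¹ = c * (x * c⁻¹ * x⁻¹) by group]
    exact mul_mem hc ((mem_normalizer_iff.1 (hXM hxX) _).1 (inv_mem hc))
  refine hw (h.coset_faithful (X := X) (by rw [hX]; norm_num) fun q => ?_)
  refine q.inductionOn fun g => ?_
  rw [MulAction.Quotient.smul_mk, eq_comm, QuotientGroup.eq, smul_eq_mul, ← mul_assoc]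
  by_cases hg : g ∈ X
  · exact mul_mem (mul_mem (inv_mem hg) (pow_mem (hMX hwM) 9)) hg
  suffices hwR : w ^ 9 ∈ X ⊓ MulAut.conj g • X from (mem_point_stabilizer.1 hwR).2
  set R := X ⊓ MulAut.conj g • X with hRdef
  have hRX : R ≤ X := inf_le_left
  have hRD : R ≤ normalizer (D : Set G) := hRX.trans hXD
  have hsup : D ⊔ R ≤ X := sup_le hDX hRX
  have h144 : 144 ≤ Nat.card ↥(D ⊔ R) := by
    have e := card_sup_mul (A := D) hRD
    rw [hD] at e
    have h16 : 16 ≤ Nat.card R := h.card_point_stabilizer hX hg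
    have hR' : R ⊓ D = ⊥ ∨ (48 ≤ Nat.card R ∧ Nat.card ↥(R ⊓ D) ≤ 3) := hR g hg
    rcases hR' with h1 | ⟨h48, h3⟩
    · rw [inf_comm, h1, card_bot, mul_one] at e
      omega
    · rw [inf_comm] at h3
      have := Nat.mul_le_mul_left (Nat.card ↥(D ⊔ R)) h3
      omega
  have hwA : w ∈ D ⊔ R := by
    by_cases h216 : 216 ≤ Nat.card ↥(D ⊔ R)
    · have hthree : ∀ a ∈ X, a ^ 3 = 1 → a ∈ D ⊔ R := fun a ha h3 => by
        have := sq_mem_of_large hX hsup h216 (mul_mem ha ha)
        rwa [← pow_two, ← pow_mul, show a ^ (2 * 2) = a by rw [show 2 * 2 = 3 + 1 by norm_num, pow_succ, h3, one_mul]]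
          at this
      refine mul_mem (hthree _ (mul_mem (mul_mem (hMX hc) hxX) (inv_mem (hMX hc))) ?_) (inv_mem (hthree x hxX hx))
      rw [conj_pow, hx, mul_one, mul_inv_cancel]
    · have hd : Nat.card ↥(D ⊔ R) ∣ 432 := hX ▸ card_dvd_of_le hsup
      have h144' : Nat.card ↥(D ⊔ R) = 144 := by
        obtain ⟨k, hk⟩ := hd
        have hk' : k ≤ 3 := by
          by_contra hlt
          have := Nat.mul_le_mul h144 (show 4 ≤ k by omega)
          omega
        interval_cases k <;> omega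
      suffices hMle : M ≤ D ⊔ R from hMle hwM
      by_contra hnot
      have hN : D ⊔ R ≤ normalizer (M : Set G) := hsup.trans hXM
      have e := card_sup_mul hN
      have hbig : Nat.card ↥(M ⊔ (D ⊔ R)) = 432 := by
        have hle : M ⊔ (D ⊔ R) ≤ X := sup_le hMX hsup
        obtain ⟨k, hk⟩ := card_dvd_of_le (le_sup_right : D ⊔ R ≤ M ⊔ (D ⊔ R))
        obtain ⟨l, hl⟩ := card_dvd_of_le hle
        rw [hX] at hl
        rw [h144'] at hk
        have hkl : k * l = 3 := by
          rw [hk] at hl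
          exact Nat.eq_of_mul_eq_mul_left (by norm_num : 0 < 144) (by rw [← mul_assoc, ← hl])
        have hk1 : k ≠ 1 := fun e1 => hnot (by
          rw [e1, mul_one] at hk
          exact le_sup_left.trans (eq_of_le_of_card_ge (le_sup_right : D ⊔ R ≤ M ⊔ (D ⊔ R))
            (by rw [hk, h144'])).ge)
        rw [hk]
        rcases (Nat.dvd_prime Nat.prime_three).1 (hkl ▸ dvd_mul_right k l) with h1 | h3
        · exact absurd h1 hk1
        · rw [h3]
      rw [hbig, h144'] at e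
      have h9 : 9 ∣ Nat.card ↥(M ⊓ (D ⊔ R)) := hD ▸ card_dvd_of_le (le_inf hDM le_sup_left)
      obtain ⟨j, hj⟩ := h9
      exact hM27 ⟨j, by omega⟩
  obtain ⟨d, hd, r, hr, e⟩ : ∃ d ∈ D, ∃ r ∈ R, w = d * r := by
    have hset : ((D ⊔ R : Subgroup G) : Set G) = (D : Set G) * (R : Set G) :=
      coe_mul_of_right_le_normalizer_left _ _ hRD
    obtain ⟨d, hd, r, hr, e⟩ := Set.mem_mul.1 (hset ▸ hwA : w ∈ (D : Set G) * (R : Set G))
    exact ⟨d, hd, r, hr, e.symm⟩
  have hcom : Commute d⁻¹ w :=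
    Commute.inv_left (show d * w = w * d from mem_centralizer_iff.1 (hMD hwM) d hd)
  have hd9 : d ^ 9 = 1 := by
    have := pow_card_eq_one' (x := (⟨d, hd⟩ : D))
    rw [hD] at this
    exact congrArg Subtype.val this
  have hr' : r = d⁻¹ * w := by rw [e]; group
  have : r ^ 9 = w ^ 9 := by rw [hr', hcom.mul_pow, inv_pow, hd9, inv_one, one_mul]
  exact this ▸ pow_mem hr 9

/-- The normalizer of a plane normalised by the complement. -/
theorem Hyp.card_plane_normalizer (h : Hyp G) {P : Sylow 3 G} {T D : Subgroup G} (hC : Compl P T)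
    (h112 : Nat.card (Sylow 3 G) = 112) (hDP : D ≤ (P : Subgroup G)) (hD : Nat.card D = 9)
    (hf : Nat.card (fib P D) = 3) (hTD : T ≤ normalizer (D : Set G)) :
    N(P) ≤ normalizer (D : Set G) ∧ Nat.card (normalizer (D : Set G)) = 432 := by
  have hle : N(P) ≤ normalizer (D : Set G) := fun g hg => by
    obtain ⟨x, hx, t, ht, rfl⟩ := hC.dec g hg
    exact mul_mem ((h.plane hDP hD).1 hx) (hTD ht)
  refine ⟨hle, ?_⟩
  rw [card_eq_mul_card_sylow (normalizer (D : Set G)) P ((h.plane hDP hD).1), inf_eq_right.2 hle,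
    ← h.plane_fib P hDP hD, hf]
  have := card_normalizer_mul h P
  rw [h112] at this
  omega

end Cfsg.Lib.Recog.G2Two
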